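import Cfsg.Agent.Omega.NO3S.TV.Eight

/-!
# NO-3S, `q = 2`, `n = 1`, transvection types: section 8, the end (helper918, #17106)

* `Ctr.uniq`, `Ctr.swap` : the centre `e` is the same for `(x, y; m)` and `(x, m; y)`;
* `Ctr.three`, `Ctr.four` : (3), (4);
* `Ctr.five` : `e e_s ∈ m ⟨x⟩`;
* `Tri.false` : contradiction.
-/

set_option autoImplicit false

namespace Cfsg.Agent.Omega.NO3S.TV.Eight

open Subgroup Dat

universe u

variable {G : Type u} [Group G] {R : G → G → Prop} {W : G → G → Subgroup G} {x y m : G}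

theorem z2_eq {i j : ZMod 2} (h : i + j = 0) : i = j := by
  revert i j; decide

theorem pw_inj {a : G} (ha : a ≠ 1) {i j : ZMod 2} (h : pw a i = pw a j) : i = j := by
  rcases z2 i with rfl | rfl <;> rcases z2 j with rfl | rfl
  · rfl
  · rw [pw_zero, pw_one] at h; exact absurd h.symm ha
  · rw [pw_zero, pw_one] at h; exact absurd h ha
  · rfl

theorem pw_add {a : G} (ha : a * a = 1) (i j : ZMod 2) : pw a (i + j) = pw a i * pw a j := by
  rcases z2 i with rfl | rfl <;> rcases z2 j with rfl | rfl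
  · simp
  · simp
  · simp
  · have : (1 : ZMod 2) + 1 = 0 := by decide
    rw [this, pw_zero, pw_one, ha]

theorem pw_comm {a b : G} (h : b * a = a * b) (i : ZMod 2) : b * pw a i = pw a i * b := by
  rcases z2 i with rfl | rfl
  · simp
  · rw [pw_one, h]

theorem conj_pw {a g : G} (i : ZMod 2) : g * pw a i * g⁻¹ = pw (g * a * g⁻¹) i := by
  rcases z2 i with rfl | rfl
  · simp
  · rw [pw_one, pw_one]

namespace Tri

variable (T : Tri R W x y m) (S : Dat R W)
include T S

theorem xx : x * x = 1 := S.xx T.h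

theorem exists_w : ∃ w ∈ W x m, bf W m w x = 1 := by
  obtain ⟨w, hw, hw1⟩ := S.nc (S.symm (T.rm S))
  exact ⟨w, hw, (S.bf_one_iff (S.symm (T.rm S))).mpr hw1⟩

/-- an element of `D_m` which is not perpendicular to `e` -/
theorem exists_n {e : G} (E : Ctr W x y m e) : ∃ n ∈ W x m, bf W m n x = 0 ∧ bf W m n e = 1 := by
  by_contra hc
  push Not at hc
  have hr := T.rm S
  have hx : x ∈ W x m := (S.mem hr).1
  rcases S.dp1 (S.symm hr) hx E.memM (fun c hc1 hc2 => by
    by_contra h3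
    exact hc c hc1 hc2 (z2_ne h3)) with e1 | e1 | e1 | e1
  · apply E.nx; rw [e1]; exact one_mem _
  · apply E.nx; rw [e1]; exact T.hm
  · apply E.nx; rw [e1]; exact T.x_mem S
  · apply E.nx; rw [e1]; exact mul_mem T.hm (T.x_mem S)

theorem exists_t {e : G} (E : Ctr W x y m e) : ∃ t ∈ W x y, bf W y t x = 0 ∧ bf W y t e = 1 := by
  by_contra hc
  push Not at hc
  have hx : x ∈ W x y := (S.mem T.h).1
  rcases S.dp1 (S.symm T.h) hx E.memY (fun c hc1 hc2 => by
    by_contra h3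
    exact hc c hc1 hc2 (z2_ne h3)) with e1 | e1 | e1 | e1
  · apply E.nx; rw [e1]; exact one_mem _
  · apply E.nx; rw [e1]; exact T.y_mem S
  · apply E.nx; rw [e1]; exact T.x_mem S
  · apply E.nx; rw [e1]; exact mul_mem (T.y_mem S) (T.x_mem S)

/-- (3), first form -/
theorem three {e e' : G} (E : Ctr W x y m e) (E' : Ctr W x m y e') {n t : G} (hn : n ∈ W x m)
    (hn1 : bf W m n x = 0) (ht : t ∈ W x y) (ht1 : bf W y t x = 0) :
    n * t * n⁻¹ * t⁻¹ = pw x (bf W m n e' * bf W y t e') := by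
  have hs := S.symm T.h
  obtain ⟨i, hi⟩ := E.act t ht ht1 n hn
  rw [hn1, mul_zero, pw_zero, one_mul] at hi
  obtain ⟨w, hw, hw1⟩ := (T.swap S).exists_w S
  obtain ⟨k, hk⟩ := E'.act n hn hn1 w hw
  rw [hw1, mul_one] at hk
  have hxY : x ∈ W x y := (S.mem T.h).1
  have hjY : pw e' (bf W m n e') * pw x k ∈ W x y := mul_mem (pw_mem E'.memM _) (pw_mem hxY _)
  -- `n` acts on `w` and `t`
  have hnw : n * w * n⁻¹ = (pw e' (bf W m n e') * pw x k) * w := by
    have h1 : n * w * n⁻¹ = (w * n * w⁻¹ * n⁻¹)⁻¹ * w := by group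
    rw [h1, hk, S.inv_eq T.h hjY]
  have hnt : n * t * n⁻¹ = pw x i * t := by
    rw [← hi]; group
  have hinv := S.bf_fix hs (T.w_y S hn) (a := t) hw
  have hpx : pw x i ∈ W x y := pw_mem hxY i
  have hxe : bf W y x e' = 0 := by
    rw [S.bf_symm hs hxY E'.memM]
    exact (T.swap S).swap S |>.j_bf S E'.memM E'.memY
  rw [hnw, hnt, S.bf_mul_left hs hpx ht (mul_mem hjY hw), S.bf_pw_left hs hxY (mul_mem hjY hw),
    S.bf_mul_right hs hjY hw hxY, S.bf_mul_right hs (pw_mem E'.memM _) (pw_mem hxY _) hxY,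
    S.bf_pw_right hs hxY, S.bf_pw_right hs hxY, hxe, S.bf_self hs hxY, S.bf_mul_right hs hjY hw ht,
    S.bf_mul_right hs (pw_mem E'.memM _) (pw_mem hxY _) ht, S.bf_pw_right hs ht, S.bf_pw_right hs ht, ht1,
    S.bf_symm hs hxY hw, hw1] at hinv
  rw [hi]
  congr 1
  simp only [mul_zero, add_zero, zero_add, mul_one] at hinv
  have h5 : i + bf W m n e' * bf W y t e' = 0 := by
    have h6 := z2_add_self (bf W y t w)
    calc i + bf W m n e' * bf W y t e' = i + (bf W m n e' * bf W y t e' + bf W y t w) + bf W y t w := by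
          rw [add_assoc, add_assoc, h6, add_zero]
      _ = bf W y t w + bf W y t w := by rw [hinv]
      _ = 0 := h6
  exact z2_eq h5

/-- (3): the two centres agree -/
theorem uniq {e e' : G} (E : Ctr W x y m e) (E' : Ctr W x m y e') : ∃ k : ZMod 2, e' = pw x k * e := by
  have hs := S.symm T.h
  have hr := T.rm S
  have hxY : x ∈ W x y := (S.mem T.h).1
  have hx1 := S.ne1 T.h
  have key : ∀ n ∈ W x m, bf W m n x = 0 → ∀ t ∈ W x y, bf W y t x = 0 →
      bf W m n e' * bf W y t e' = bf W y t e * bf W m n e := by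
    intro n hn hn1 t ht ht1
    have h1 := T.three S E E' hn hn1 ht ht1
    have h2 := (T.swap S).three S E' E ht ht1 hn hn1
    refine pw_inj hx1 ?_
    rw [← h1]
    have h3 : n * t * n⁻¹ * t⁻¹ = (t * n * t⁻¹ * n⁻¹)⁻¹ := by group
    rw [h3, h2]
    exact S.inv_eq T.h (pw_mem hxY _)
  obtain ⟨n, hn, hn1, hn2⟩ := T.exists_n S E
  obtain ⟨t, ht, ht1, ht2⟩ := T.exists_t S E
  have h4 : bf W m n e' = 1 := by
    have := key n hn hn1 t ht ht1
    rw [hn2, ht2, mul_one] at this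
    refine z2_ne fun h5 => ?_
    rw [h5, zero_mul] at this
    exact zero_ne_one this
  have h5 : ∀ t ∈ W x y, bf W y t x = 0 → bf W y t (e' * e) = 0 := by
    intro t ht ht1
    have := key n hn hn1 t ht ht1
    rw [hn2, h4, one_mul, mul_one] at this
    rw [S.bf_mul_right hs E'.memM E.memY ht, this]
    exact z2_add_self _
  have h6 : e' * e ∈ W y x := by
    rcases S.dp1 hs hxY (mul_mem E'.memM E.memY) h5 with e1 | e1 | e1 | e1
    · rw [e1]; exact one_mem _
    · rw [e1]; exact T.y_mem S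
    · rw [e1]; exact T.x_mem S
    · rw [e1]; exact mul_mem (T.y_mem S) (T.x_mem S)
  have hee : e⁻¹ = e := S.inv_eq T.h E.memY
  rcases T.j_cap S (mul_mem E'.memM E.memY) (mul_mem E'.memY E.memM) h6 with e1 | e1
  · refine ⟨0, ?_⟩
    rw [pw_zero, one_mul]
    rw [← hee]; exact eq_inv_of_mul_eq_one_left e1
  · refine ⟨1, ?_⟩
    rw [pw_one]
    rw [← hee]; exact eq_mul_inv_of_mul_eq e1

/-- a centre may be multiplied by `x` -/
theorem ctr_mul {e : G} (E : Ctr W x y m e) (k : ZMod 2) : Ctr W x y m (pw x k * e) := by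
  have hs := S.symm T.h
  have hr := T.rm S
  have hxY : x ∈ W x y := (S.mem T.h).1
  refine ⟨mul_mem (pw_mem hxY _) E.memY, mul_mem (pw_mem (S.mem hr).1 _) E.memM, ?_, ?_⟩
  · intro h1
    apply E.nx
    have := mul_mem (inv_mem (pw_mem (T.x_mem S) k)) h1
    rwa [inv_mul_cancel_left] at this
  · intro t ht ht1 w hw
    obtain ⟨i, hi⟩ := E.act t ht ht1 w hw
    refine ⟨bf W y t e * bf W m w x * k + i, ?_⟩
    rw [hi, S.bf_mul_right hs (pw_mem hxY _) E.memY ht, S.bf_pw_right hs ht, ht1, mul_zero, zero_add]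
    have hxe : e * x = x * e := S.comm T.h E.memY hxY
    have hxx := T.xx S
    rcases z2 (bf W y t e * bf W m w x) with h3 | h3
    · rw [h3]; simp
    · rw [h3, pw_one, pw_one, one_mul, pw_add hxx]
      calc e * pw x i = (pw x k * pw x k) * (e * pw x i) := by
            rw [← pw_add hxx, z2_add_self, pw_zero, one_mul]
        _ = pw x k * (pw x k * e) * pw x i := by group
        _ = pw x k * (e * pw x k) * pw x i := by rw [pw_comm hxe k]
        _ = pw x k * e * (pw x k * pw x i) := by group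

/-- the centre for `(x, y; m)` is the centre for `(x, m; y)` -/
theorem ctr_swap {e : G} (E : Ctr W x y m e) : Ctr W x m y e := by
  obtain ⟨e', E'⟩ := (T.swap S).exists_ctr S
  obtain ⟨k, hk⟩ := T.uniq S E E'
  have h1 := (T.swap S).ctr_mul S E' k
  rw [hk, ← mul_assoc, ← pw_add (T.xx S), z2_add_self, pw_zero, one_mul] at h1
  exact h1

/-- (3) -/
theorem three' {e : G} (E : Ctr W x y m e) {n t : G} (hn : n ∈ W x m) (hn1 : bf W m n x = 0) (ht : t ∈ W x y)
    (ht1 : bf W y t x = 0) : n * t * n⁻¹ * t⁻¹ = pw x (bf W m n e * bf W y t e) :=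
  T.three S E (T.ctr_swap S E) hn hn1 ht ht1

theorem ctr_uniq {e e' : G} (E : Ctr W x y m e) (E' : Ctr W x y m e') : ∃ k : ZMod 2, e' = pw x k * e :=
  T.uniq S E (T.ctr_swap S E')

/-- `e ∈ m^f V` -/
theorem ctr_sw {e f : G} (E : Ctr W x y m e) (F : Sw W x y f) : e * (f * m * f⁻¹) ∈ ln x y := by
  obtain ⟨e', E', h1⟩ := T.exists_ctr' S F
  obtain ⟨k, hk⟩ := T.ctr_uniq S E' E
  rw [hk, mul_assoc]
  refine mul_mem (pw_mem ?_ _) h1
  rw [S.mem_ln T.h]; simp

/-- (4) -/
theorem four {e : G} (E : Ctr W x y m e) {t w : G} (ht : t ∈ W x y) (ht1 : bf W y t x = 0)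
    (hte : bf W y t e = 0) (hw : w ∈ W x m) : w * t * w⁻¹ * t⁻¹ = 1 := by
  have h := T.h
  have hs := S.symm h
  have hr := T.rm S
  have hxY : x ∈ W x y := (S.mem h).1
  rcases z2 (bf W m w x) with hw0 | hw1
  · rw [T.three' S E hw hw0 ht ht1, hte, mul_zero, pw_zero]
  -- `w` centralizes `V` and `e`
  have hwV : ∀ v ∈ ln x y, w * v = v * w := by
    intro v hv
    rw [S.mem_ln h] at hv
    rcases hv with rfl | rfl | rfl | rfl
    · simp
    · exact T.w_x S hw
    · exact T.w_y S hw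
    · calc w * (x * y) = (w * x) * y := by group
        _ = x * (w * y) := by rw [T.w_x S hw]; group
        _ = (x * y) * w := by rw [T.w_y S hw]; group
  have hwe : w * e = e * w := S.comm hr hw E.memM
  by_cases htV : t ∈ ln x y
  · rw [hwV t htV]; group
  by_cases hteV : t * e ∈ ln x y
  · have h1 := hwV _ hteV
    have h2 : w * t * w⁻¹ * t⁻¹ = (w * (t * e)) * (w * e)⁻¹ * t⁻¹ := by group
    rw [h2, h1, hwe]; group
  obtain ⟨f, F⟩ := S.exists_sw h
  have hef := T.ctr_sw S E F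
  have hmY : f * m * f⁻¹ ∈ W x y := (Dat.Sw.map S h F).mpr T.hm
  set nu := f⁻¹ * t * f with hnu
  have hft : f * nu * f⁻¹ = t := by rw [hnu]; group
  have hnuX : nu ∈ W y x := Dat.Sw.map' S h F ht
  have hnu1 : bf W x nu y = 0 := by
    have := Dat.Sw.bf S h F (a := nu) (T.y_mem S)
    rw [hft, F.fy] at this
    rw [← this]; exact ht1
  have hbm : ∀ t ∈ W x y, bf W y t x = 0 → bf W y t (f * m * f⁻¹) = bf W y t e := by
    intro t ht ht1
    have h1 := T.bf_ln S ht ht1 hef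
    rw [S.bf_mul_right hs E.memY hmY ht] at h1
    exact (z2_eq h1).symm
  have hnum : bf W x nu m = 0 := by
    have := Dat.Sw.bf S h F (a := nu) T.hm
    rw [hft] at this
    rw [← this, hbm t ht ht1, hte]
  have hnuV : nu ∉ ln x y := by
    intro h1
    apply htV
    rw [S.mem_ln h] at h1 ⊢
    rcases h1 with e1 | e1 | e1 | e1
    · left; rw [← hft, e1]; group
    · right; right; left; rw [← hft, e1, F.fx]
    · right; left; rw [← hft, e1, F.fy]
    · right; right; right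
      calc t = (f * x * f⁻¹) * (f * y * f⁻¹) := by rw [← hft, e1]; group
        _ = x * y := by rw [F.fx, F.fy, S.xy_comm h]
  have Tn : Tri R W x y nu := ⟨h, hnuX, hnu1, hnuV⟩
  -- `t'`
  obtain ⟨t', ht', ht'1, ht'e, ht't⟩ : ∃ t' ∈ W x y, bf W y t' x = 0 ∧ bf W y t' e = 0 ∧ bf W y t' t = 1 := by
    by_contra hc
    push Not at hc
    -- `u ⊥ e`, not `⊥ x`; `u' ⊥ x`, not `⊥ e`
    obtain ⟨u', hu', hu'1, hu'2⟩ := T.exists_t S E
    obtain ⟨u, hu, hu1, hu2⟩ : ∃ u ∈ W x y, bf W y u x = 1 ∧ bf W y u e = 0 := by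
      obtain ⟨u, hu, hu1⟩ := (T.swap S).exists_w S
      rcases z2 (bf W y u e) with h2 | h2
      · exact ⟨u, hu, hu1, h2⟩
      · refine ⟨u * u', mul_mem hu hu', ?_, ?_⟩
        · rw [S.bf_mul_left hs hu hu' hxY, hu1, hu'1, add_zero]
        · rw [S.bf_mul_left hs hu hu' E.memY, h2, hu'2]; decide
    have h3 := S.dp2 hs hxY E.memY ht hu hu' hu1 hu2 hu'1 hu'2 (fun c hc1 hc2 hc3 => by
      by_contra h4
      exact hc c hc1 hc2 hc3 (z2_ne h4))
    have hyl : y ∈ ln x y := by rw [S.mem_ln h]; simp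
    have h4 : t * pw x (bf W y u t) * pw e (bf W y u' t) ∈ ln x y := by
      rcases h3 with e1 | e1
      · rw [e1]; exact one_mem _
      · rw [e1]; exact hyl
    have hpx : pw x (bf W y u t) ∈ ln x y := pw_mem (by rw [S.mem_ln h]; simp) _
    rcases z2 (bf W y u' t) with h5 | h5
    · rw [h5, pw_zero, mul_one] at h4
      apply htV
      have := mul_mem h4 (inv_mem hpx)
      rwa [mul_inv_cancel_right] at this
    · rw [h5, pw_one] at h4
      apply hteV
      have hxe : e * x = x * e := S.comm h E.memY hxY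
      have h6 : t * pw x (bf W y u t) * e = t * e * pw x (bf W y u t) := by
        rw [mul_assoc, ← pw_comm hxe]; group
      rw [h6] at h4
      have := mul_mem h4 (inv_mem hpx)
      rwa [mul_inv_cancel_right] at this
  -- `c`
  obtain ⟨c, hc, hc1⟩ := Tn.exists_w S
  have hcx := Tn.w_x S hc
  have hcy := Tn.w_y S hc
  have hcm : c * m = m * c := by
    have h1 : bf W x m nu = 0 := by rw [S.bf_symm h T.hm hnuX]; exact hnum
    rw [S.bf_zero_iff (Tn.rm S)] at h1
    exact (h1 c hc).symm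
  have hA := S.lemA h F (Tn.rm S) (Tn.wm S) hc hcy ht' ht'1
  rw [hft, ht't, hc1, mul_one, pw_one] at hA
  set v := c * t' * c⁻¹ * t'⁻¹ * t with hv
  have htt : t⁻¹ = t := S.inv_eq h ht
  have hct' : c * t' * c⁻¹ = v * (t * t') := by
    calc c * t' * c⁻¹ = (c * t' * c⁻¹ * t'⁻¹ * t) * (t⁻¹ * t') := by group
      _ = v * (t * t') := by rw [← hv, htt]
  have hcw : c * w * c⁻¹ ∈ W x m := (S.conj_fix hr hcx hcm).mpr hw
  set n := c * w * c⁻¹ * w⁻¹ with hn
  have hnW : n ∈ W x m := mul_mem hcw (inv_mem hw)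
  have hcwn : c * w * c⁻¹ = n * w := by rw [hn]; group
  have hn0 : bf W m n x = 0 := by
    have hrs := S.symm hr
    have hxm : x ∈ W x m := (S.mem hr).1
    have h1 := S.bf_fix hrs hcm (a := w) hxm
    have h2 : c * x * c⁻¹ = x := by rw [hcx]; group
    rw [h2, hcwn, S.bf_mul_left hrs hnW hw hxm] at h1
    exact add_eq_right.mp h1
  obtain ⟨i, hi⟩ := E.act t' ht' ht'1 w hw
  obtain ⟨j, hj⟩ := E.act t ht ht1 w hw
  rw [ht'e, zero_mul, pw_zero, one_mul] at hi
  rw [hte, zero_mul, pw_zero, one_mul] at hj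
  have hnt := T.three' S E hnW hn0 ht ht1
  have hnt' := T.three' S E hnW hn0 ht' ht'1
  rw [hte, mul_zero, pw_zero] at hnt
  rw [ht'e, mul_zero, pw_zero] at hnt'
  have hnt : n * t = t * n := by
    calc n * t = (n * t * n⁻¹ * t⁻¹) * (t * n) := by group
      _ = t * n := by rw [hnt, one_mul]
  have hnt' : n * t' = t' * n := by
    calc n * t' = (n * t' * n⁻¹ * t'⁻¹) * (t' * n) := by group
      _ = t' * n := by rw [hnt', one_mul]
  -- conjugation by `c`
  have hxi : ∀ k : ZMod 2, c * pw x k * c⁻¹ = pw x k := by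
    intro k
    rw [conj_pw]
    have : c * x * c⁻¹ = x := by rw [hcx]; group
    rw [this]
  have e1 : (c * w * c⁻¹) * (c * t' * c⁻¹) * (c * w * c⁻¹)⁻¹ * (c * t' * c⁻¹)⁻¹ = pw x i := by
    rw [← hxi i, ← hi]; group
  rw [hcwn, hct'] at e1
  -- `v` commutes with `n w`
  have hvw : v * (n * w) = n * w * v := by
    have h1 : ∀ a ∈ W x m, a * v = v * a := by
      intro a ha
      rw [S.mem_ln h] at hA
      rcases hA with e2 | e2 | e2 | e2
      · rw [e2]; simp
      · rw [e2]; exact T.w_x S ha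
      · rw [e2]; exact T.w_y S ha
      · rw [e2]
        calc a * (x * y) = (a * x) * y := by group
          _ = x * (a * y) := by rw [T.w_x S ha]; group
          _ = (x * y) * a := by rw [T.w_y S ha]; group
    exact (h1 _ (mul_mem hnW hw)).symm
  have hnx : n * x = x * n := T.w_x S hnW
  have hwt : w * t * w⁻¹ = pw x j * t := by rw [← hj]; group
  have hwt' : w * t' * w⁻¹ = pw x i * t' := by rw [← hi]; group
  have htx : t * x = x * t := S.comm h ht hxY
  have hn1 : ∀ a, n * a = a * n → n * a * n⁻¹ = a := fun a ha => by rw [ha]; group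
  have e2 : (n * w) * (v * (t * t')) * (n * w)⁻¹ * (v * (t * t'))⁻¹ = pw x j * pw x i := by
    have e3 : (n * w) * (v * (t * t')) * (n * w)⁻¹ = v * (n * ((w * t * w⁻¹) * (w * t' * w⁻¹)) * n⁻¹) := by
      calc (n * w) * (v * (t * t')) * (n * w)⁻¹ = (n * w * v) * (t * t') * (n * w)⁻¹ := by group
        _ = v * (n * ((w * t * w⁻¹) * (w * t' * w⁻¹)) * n⁻¹) := by rw [← hvw]; group
    have e4 : (w * t * w⁻¹) * (w * t' * w⁻¹) = (pw x j * pw x i) * (t * t') := by
      rw [hwt, hwt']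
      calc pw x j * t * (pw x i * t') = pw x j * (t * pw x i) * t' := by group
        _ = (pw x j * pw x i) * (t * t') := by rw [pw_comm htx]; group
    have e5 : n * ((pw x j * pw x i) * (t * t')) * n⁻¹ = (pw x j * pw x i) * (t * t') := by
      refine hn1 _ ?_
      calc n * (pw x j * pw x i * (t * t')) = (n * pw x j) * pw x i * (t * t') := by group
        _ = pw x j * (n * pw x i) * (t * t') := by rw [pw_comm hnx]; group
        _ = pw x j * pw x i * (n * t) * t' := by rw [pw_comm hnx]; group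
        _ = pw x j * pw x i * t * (n * t') := by rw [hnt]; group
        _ = pw x j * pw x i * (t * t') * n := by rw [hnt']; group
    have hvx : v * (pw x j * pw x i) = (pw x j * pw x i) * v := by
      have hvx : v * x = x * v := by
        rw [S.mem_ln h] at hA
        rcases hA with e2 | e2 | e2 | e2
        · rw [e2]; simp
        · rw [e2]
        · rw [e2]; exact (S.xy_comm h).symm
        · rw [e2]
          calc x * y * x = x * (y * x) := by group
            _ = x * (x * y) := by rw [S.xy_comm h]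
      calc v * (pw x j * pw x i) = (v * pw x j) * pw x i := by group
        _ = pw x j * (v * pw x i) := by rw [pw_comm hvx]; group
        _ = (pw x j * pw x i) * v := by rw [pw_comm hvx]; group
    rw [e3, e4, e5]
    calc v * (pw x j * pw x i * (t * t')) * (v * (t * t'))⁻¹ = (v * (pw x j * pw x i)) * v⁻¹ := by group
      _ = pw x j * pw x i := by rw [hvx]; group
  rw [e2] at e1
  rw [hj]
  have := mul_eq_right.mp e1
  exact this

/-- (5): `e e_s ∈ m ⟨x⟩` -/
theorem five {e e' : G} (E : Ctr W x y m e) (E' : Ctr W x (x * y) m e') : ∃ k : ZMod 2, e * e' = pw x k * m := by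
  have h := T.h
  have hs := S.symm h
  have hr := T.rm S
  have T' := T.third S
  have hxX := T.x_mem S
  have hyX := T.y_mem S
  obtain ⟨w, hw, hw1⟩ := (T.swap S).exists_w S
  obtain ⟨w', hw', hw1'⟩ := (T'.swap S).exists_w S
  have hxm : x ∈ ln x m := by rw [S.mem_ln hr]; simp
  have hwx := T.t_x S hw
  have hwm := T.t_m S hw
  have hwx' := T'.t_x S hw'
  have hwm' := T'.t_m S hw'
  have hwy := T.t_y S hw
  -- `w w'` is trivial on `X / x`
  have hact : ∀ d ∈ W y x, (w * w') * d * (w * w')⁻¹ * d⁻¹ = pw x (bf W x d y) := by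
    intro d hd
    have h1 := S.cm_eq h hd hw
    have h2 := S.cm_eq (S.third h) (by rw [S.w_x h]; exact hd) hw'
    rw [hw1, mul_one] at h1
    rw [hw1', mul_one, S.x_third h, S.bf_s h hd] at h2
    calc (w * w') * d * (w * w')⁻¹ * d⁻¹ = w * (w' * d * w'⁻¹) * w⁻¹ * d⁻¹ := by group
      _ = (w * pw y (bf W x d y)) * d * w⁻¹ * d⁻¹ := by rw [h2]; group
      _ = pw y (bf W x d y) * (w * d * w⁻¹) * d⁻¹ := by rw [pw_comm hwy]; group
      _ = pw y (bf W x d y) * pw (x * y) (bf W x d y) := by rw [h1]; group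
      _ = pw x (bf W x d y) := by
        rcases z2 (bf W x d y) with h3 | h3
        · rw [h3]; simp
        · rw [h3, pw_one, pw_one, pw_one, S.y_third h]
  have hgg := S.gg hr (w * w') (by
      calc w * w' * x = w * (w' * x) := by group
        _ = (w * x) * w' := by rw [hwx']; group
        _ = x * (w * w') := by rw [hwx]; group) (by
      calc w * w' * m = w * (w' * m) := by group
        _ = (w * m) * w' := by rw [hwm']; group
        _ = m * (w * w') := by rw [hwm]; group) (by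
      intro d hd _
      rw [hact d (by rw [← T.wm S]; exact hd)]
      exact pw_mem hxm _)
  obtain ⟨n, hn, hn1, hn2⟩ := T.exists_n S E
  have hg := hgg n hn ((S.bf_zero_iff (S.symm hr)).mp hn1)
  obtain ⟨i, hi⟩ := (T.ctr_swap S E).act n hn hn1 w hw
  obtain ⟨j, hj⟩ := (T'.ctr_swap S E').act n hn hn1 w' hw'
  rw [hn2, hw1, mul_one, pw_one] at hi
  rw [hw1', mul_one] at hj
  -- `[w', n]` commutes with `w`
  obtain ⟨hJ1, hJ2⟩ := (T'.swap S).comm_mem S hw' hn
  have hcen : (w' * n * w'⁻¹ * n⁻¹) * w = w * (w' * n * w'⁻¹ * n⁻¹) := by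
    have h1 := T'.j_bf S hJ2 hJ1
    have hs' := S.symm (S.third h)
    have h2 : bf W (x * y) (w' * n * w'⁻¹ * n⁻¹) y = 0 := by
      have h3 : y = (x * y) * x := by rw [S.xy_comm h, mul_assoc, S.xx h, mul_one]
      have hsm : x * y ∈ W x (x * y) := (S.mem (S.third h)).2
      have hxs : x ∈ W x (x * y) := (S.mem (S.third h)).1
      have h4 := S.bf_mul_right hs' hsm hxs hJ2
      rw [← h3, bf_x_right, h1, zero_add] at h4
      exact h4
    have h5 : R (x * y) y := S.symm (S.third' h)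
    rw [S.bf_zero_iff h5, S.w_third h] at h2
    exact h2 w hw
  have e1 : (w * w') * n * (w * w')⁻¹ * n⁻¹ = (w' * n * w'⁻¹ * n⁻¹) * (w * n * w⁻¹ * n⁻¹) := by
    calc (w * w') * n * (w * w')⁻¹ * n⁻¹ = (w * (w' * n * w'⁻¹ * n⁻¹)) * n * w⁻¹ * n⁻¹ := by group
      _ = (w' * n * w'⁻¹ * n⁻¹) * (w * n * w⁻¹ * n⁻¹) := by rw [← hcen]; group
  rw [e1, hi, hj] at hg
  have heX : e ∉ ln x m := by
    intro h1
    apply E.nx
    have := (T.swap S).ln_le_X S h1
    rwa [T.wm S] at this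
  have hpx : ∀ k, pw x k ∈ ln x m := fun k => pw_mem hxm k
  rcases z2 (bf W m n e') with h6 | h6
  · exfalso
    apply heX
    rw [h6, pw_zero, one_mul] at hg
    have h7 : e = (pw x j)⁻¹ * (pw x j * (e * pw x i)) * (pw x i)⁻¹ := by group
    rw [h7]
    exact mul_mem (mul_mem (inv_mem (hpx j)) hg) (inv_mem (hpx i))
  rw [h6, pw_one] at hg
  have hex : e * x = x * e := S.comm h E.memY (S.mem h).1
  have hee : e' * e = e * e' := S.comm hr E'.memM E.memM
  have h8 : e * e' ∈ ln x m := by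
    have h7 : e * e' = (e' * pw x j * (e * pw x i)) * (pw x i)⁻¹ * (pw x j)⁻¹ := by
      calc e * e' = e' * e := hee.symm
        _ = e' * (e * pw x j) * (pw x j)⁻¹ := by group
        _ = e' * (pw x j * e) * (pw x j)⁻¹ := by rw [pw_comm hex]
        _ = (e' * pw x j * (e * pw x i)) * (pw x i)⁻¹ * (pw x j)⁻¹ := by group
    rw [h7]
    exact mul_mem (mul_mem hg (inv_mem (hpx i))) (inv_mem (hpx j))
  rw [S.mem_ln hr] at h8
  have hinv : e'⁻¹ = e' := S.inv_eq (S.third h) E'.memY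
  -- `e e' ∉ ⟨x⟩`
  have hno : e * e' ∉ W y x → ∃ k : ZMod 2, e * e' = pw x k * m := by
    intro h9
    exfalso
    rcases h8 with e2 | e2 | e2 | e2
    · apply h9; rw [e2]; exact one_mem _
    · apply h9; rw [e2]; exact hxX
    · apply h9; rw [e2]; exact T.hm
    · apply h9; rw [e2]; exact mul_mem hxX T.hm
  have hS : ∀ a, a ∈ W x (x * y) → a ∈ W x y → a ∈ W y x := by
    intro a ha1 ha2
    have h5 : R y (x * y) := S.third' h
    have ha3 : a ∈ W y (x * y) := by rw [S.w_s h]; exact ha1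
    have ha4 : a ∈ W (x * y) y := by rw [S.w_third h]; exact ha2
    rcases S.inter h5 a ha3 ha4 with e2 | e2 | e2 | e2
    · rw [e2]; exact one_mem _
    · rw [e2]; exact hyX
    · rw [e2]; exact mul_mem hxX hyX
    · rw [e2, S.y_third h]; exact hxX
  have hxS : x ∈ W x (x * y) := (S.mem (S.third h)).1
  rcases h8 with e2 | e2 | e2 | e2
  · exfalso
    apply E.nx
    refine hS e ?_ E.memY
    rw [eq_inv_of_mul_eq_one_left e2]
    exact inv_mem E'.memY
  · exfalso
    apply E.nx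
    refine hS e ?_ E.memY
    rw [eq_mul_inv_of_mul_eq e2]
    exact mul_mem hxS (inv_mem E'.memY)
  · exact ⟨0, by rw [pw_zero, one_mul, e2]⟩
  · exact ⟨1, by rw [pw_one, e2]⟩

/-- (6): `D_x ≤ D_y D_s` -/
theorem six {d : G} (hd : d ∈ W y x) (hd1 : bf W x d y = 0) :
    ∃ a ∈ W x y, ∃ b ∈ W x (x * y), bf W y a x = 0 ∧ bf W (x * y) b x = 0 ∧ d = a * b := by
  have h := T.h
  have hs := S.symm h
  have hxY : x ∈ W x y := (S.mem h).1
  by_cases hV : d ∈ ln x y
  · refine ⟨d, T.ln_le_Y S hV, 1, one_mem _, ?_, ?_, by rw [mul_one]⟩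
    · rw [S.bf_symm hs (T.ln_le_Y S hV) hxY]
      exact T.bf_ln S hxY (S.bf_self hs hxY) hV
    · exact S.bf_one_left (S.symm (S.third h)) (S.mem (S.third h)).1
  have T' : Tri R W x y d := ⟨h, hd, hd1, hV⟩
  obtain ⟨e, E⟩ := T'.exists_ctr S
  obtain ⟨e', E'⟩ := (T'.third S).exists_ctr S
  obtain ⟨k, hk⟩ := T'.five S E E'
  have E2 := T'.ctr_mul S E k
  refine ⟨pw x k * e, E2.memY, e', E'.memY, T'.j_bf S E2.memY E2.memM, (T'.third S).j_bf S E'.memY E'.memM, ?_⟩
  rw [mul_assoc, hk, ← mul_assoc, ← pw_add (T.xx S), z2_add_self, pw_zero, one_mul]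

/-- **There is no configuration with `D_x > V`.** -/
theorem false : False := by
  have h := T.h
  have hs := S.symm h
  have hr := T.rm S
  have hrs := S.symm hr
  have T' := T.third S
  have h' := S.third h
  have hs' := S.symm h'
  have hxX := T.x_mem S
  have hyX := T.y_mem S
  have hxY : x ∈ W x y := (S.mem h).1
  have hxM : x ∈ W x m := (S.mem hr).1
  have hmM : m ∈ W x m := (S.mem hr).2
  have hxS : x ∈ W x (x * y) := (S.mem h').1
  have hxx := T.xx S
  have hx1 := S.ne1 h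
  obtain ⟨e, E⟩ := T.exists_ctr S
  obtain ⟨e', E'⟩ := T'.exists_ctr S
  obtain ⟨c, hc⟩ := T.five S E E'
  -- `t = a b`
  obtain ⟨t, ht, ht1, ht2⟩ : ∃ t ∈ W y x, bf W x t y = 0 ∧ bf W x t m = 1 := by
    by_contra hcon
    push Not at hcon
    apply T.nl
    rw [S.mem_ln h]
    exact S.dp1 h hyX T.hm (fun c hc1 hc2 => by
      by_contra h3
      exact hcon c hc1 hc2 (z2_ne h3))
  obtain ⟨a, ha, b, hb, ha1, hb1, htab⟩ := T.six S ht ht1
  -- `w`
  obtain ⟨w, hw, hwe, hwx⟩ : ∃ w ∈ W x m, bf W m w e = 0 ∧ bf W m w x = 1 := by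
    by_contra hcon
    push Not at hcon
    have hmX : m ∈ W y x := T.hm
    rcases S.dp1 hrs E.memM hxM (fun c hc1 hc2 => by
      by_contra h3
      exact hcon c hc1 hc2 (z2_ne h3)) with e1 | e1 | e1 | e1
    · exact hx1 e1
    · exact T.ne_x S e1.symm
    · apply E.nx; rw [← e1]; exact hxX
    · apply E.nx
      have : e = m⁻¹ * x := by rw [e1]; group
      rw [this]
      exact mul_mem (inv_mem hmX) hxX
  have hwt := S.cm_eq hr (by rw [T.wm S]; exact ht) hw
  rw [ht2, hwx, mul_one, pw_one] at hwt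
  obtain ⟨hα1, hα2⟩ := T.comm_mem S hw ha
  obtain ⟨hβ1, hβ2⟩ := T'.comm_mem S hw hb
  obtain ⟨i, hi⟩ := E.act a ha ha1 w hw
  obtain ⟨j, hj⟩ := E'.act b hb hb1 w hw
  rw [hwx, mul_one] at hi hj
  have hαβ : (w * a * w⁻¹ * a⁻¹) * (w * b * w⁻¹ * b⁻¹) = x * m := by
    have hcom : a * (w * b * w⁻¹ * b⁻¹) = (w * b * w⁻¹ * b⁻¹) * a := by
      have h1 := T'.j_bf S hβ1 hβ2
      have h2 : bf W (x * y) (w * b * w⁻¹ * b⁻¹) y = 0 := by
        have h3 : y = (x * y) * x := by rw [S.xy_comm h, mul_assoc, S.xx h, mul_one]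
        have hsm : x * y ∈ W x (x * y) := (S.mem (S.third h)).2
        have h4 := S.bf_mul_right hs' hsm hxS hβ1
        rw [← h3, bf_x_right, h1, zero_add] at h4
        exact h4
      have h5 : R (x * y) y := S.symm (S.third' h)
      rw [S.bf_zero_iff h5, S.w_third h] at h2
      exact (h2 a ha).symm
    calc (w * a * w⁻¹ * a⁻¹) * (w * b * w⁻¹ * b⁻¹) =
        (w * a * w⁻¹) * a⁻¹ * (a * (w * b * w⁻¹ * b⁻¹)) * a⁻¹ := by rw [hcom]; group
      _ = (w * (a * b) * w⁻¹) * (a * b)⁻¹ := by group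
      _ = x * m := by rw [← htab, hwt]; group
  have hxm1 : ∀ k : ZMod 2, x * m ≠ pw x k := by
    intro k hk
    rcases z2 k with rfl | rfl
    · rw [pw_zero] at hk
      apply T.ne_x S
      have : m = x⁻¹ := eq_inv_of_mul_eq_one_right hk
      rw [this, inv_eq_of_mul_eq_one_left hxx]
    · rw [pw_one] at hk
      exact T.ne_one S (by simpa using hk)
  have hpw : ∀ a : G, (a = 1 ∨ a = x) → ∃ k : ZMod 2, a = pw x k := by
    rintro a (rfl | rfl)
    · exact ⟨0, by simp⟩
    · exact ⟨1, by simp⟩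
  have hxmX : x * m ∈ W y x := mul_mem hxX T.hm
  -- both are nontrivial
  have hae : bf W y a e = 1 := by
    refine z2_ne fun h0 => ?_
    rw [T.four S E ha ha1 h0 hw, one_mul] at hαβ
    obtain ⟨k, hk⟩ := hpw _ (T'.j_cap S hβ1 hβ2 (by rw [hαβ, S.w_x h]; exact hxmX))
    exact hxm1 k (hαβ.symm.trans hk)
  have hbe : bf W (x * y) b e' = 1 := by
    refine z2_ne fun h0 => ?_
    rw [T'.four S E' hb hb1 h0 hw, mul_one] at hαβ
    obtain ⟨k, hk⟩ := hpw _ (T.j_cap S hα1 hα2 (by rw [hαβ]; exact hxmX))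
    exact hxm1 k (hαβ.symm.trans hk)
  rw [hae, pw_one] at hi
  rw [hbe, pw_one] at hj
  have hex : e * x = x * e := S.comm h E.memY hxY
  have hex' : e' * x = x * e' := S.comm h' E'.memY hxS
  have hmx : m * x = x * m := (S.xy_comm hr).symm
  -- `c + i + j = 1`
  have hsum : c + (i + j) = 1 := by
    rw [hi, hj] at hαβ
    have e1 : e * pw x i * (e' * pw x j) = pw x (c + (i + j)) * m := by
      calc e * pw x i * (e' * pw x j) = e * (pw x i * e') * pw x j := by group
        _ = (e * e') * (pw x i * pw x j) := by rw [← pw_comm hex']; group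
        _ = pw x c * (m * pw x (i + j)) := by rw [hc, ← pw_add hxx]; group
        _ = (pw x c * pw x (i + j)) * m := by rw [pw_comm hmx]; group
        _ = pw x (c + (i + j)) * m := by rw [← pw_add hxx]
    rw [e1] at hαβ
    have e2 := mul_right_cancel hαβ
    refine pw_inj hx1 ?_
    rw [e2, pw_one]
  -- `q`
  obtain ⟨t2, ht2m, ht20, ht21⟩ : ∃ t ∈ W y x, bf W x t m = 0 ∧ bf W x t y = 1 := by
    by_contra hcon
    push Not at hcon
    apply (T.swap S).nl
    rw [S.mem_ln hr]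
    exact S.dp1 h T.hm hyX (fun c hc1 hc2 => by
      by_contra h3
      exact hcon c hc1 hc2 (z2_ne h3))
  rcases S.pt_cases h ht2m with rfl | rfl | ⟨hr2, hX2⟩
  · rw [S.bf_one_left h hyX] at ht21; exact zero_ne_one ht21
  · rw [S.bf_x_left h hyX] at ht21; exact zero_ne_one ht21
  obtain ⟨q, hqx, hq⟩ := S.exists_f hr2
  rw [hX2] at hq
  have hqx' : q * x * q⁻¹ = x := by rw [hqx]; group
  have hqy : q * y * q⁻¹ = x * y := by
    rw [hq y hyX, S.bf_symm h hyX ht2m, ht21, pw_one]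
  have hqm : q * m * q⁻¹ = m := by
    rw [hq m T.hm, S.bf_symm h T.hm ht2m, ht20, pw_zero, one_mul]
  have hqY : ∀ g ∈ W x y, q * g * q⁻¹ ∈ W x (x * y) := by
    intro g hg
    have := S.wconj q h g hg
    rwa [hqx', hqy] at this
  have hqM : ∀ g ∈ W x m, q * g * q⁻¹ ∈ W x m := by
    intro g hg
    have := S.wconj q hr g hg
    rwa [hqx', hqm] at this
  have hbY : ∀ g, ∀ g' ∈ W x y, bf W (x * y) (q * g * q⁻¹) (q * g' * q⁻¹) = bf W y g g' := by
    intro g g' hg'
    have := S.bf_conj q hs (a := g) hg'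
    rwa [hqy] at this
  have hbM : ∀ g, ∀ g' ∈ W x m, bf W m (q * g * q⁻¹) (q * g' * q⁻¹) = bf W m g g' := by
    intro g g' hg'
    have := S.bf_conj q hrs (a := g) hg'
    rwa [hqm] at this
  set a' := q * a * q⁻¹ with ha'
  set w' := q * w * q⁻¹ with hw'
  set e1 := q * e * q⁻¹ with he1
  have ha'S := hqY a ha
  have hw'M := hqM w hw
  have he1S := hqY e E.memY
  have he1M := hqM e E.memM
  have ha'x : bf W (x * y) a' x = 0 := by
    have := hbY a x hxY
    rwa [hqx', ha1] at this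
  have hw'x : bf W m w' x = 1 := by
    have := hbM w x hxM
    rwa [hqx', hwx] at this
  have ha'e : bf W (x * y) a' e1 = 1 := (hbY a e E.memY).trans hae
  have hw'e : bf W m w' e1 = 0 := (hbM w e E.memM).trans hwe
  have hconj : w' * a' * w'⁻¹ * a'⁻¹ = e1 * pw x i := by
    have : w' * a' * w'⁻¹ * a'⁻¹ = q * (w * a * w⁻¹ * a⁻¹) * q⁻¹ := by
      rw [hw', ha']; group
    rw [this, hi]
    have e2 : q * (e * pw x i) * q⁻¹ = (q * e * q⁻¹) * (q * pw x i * q⁻¹) := by group
    rw [e2, conj_pw, hqx']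
  obtain ⟨l, hl⟩ := E'.act a' ha'S ha'x w' hw'M
  rw [hw'x, mul_one, hconj] at hl
  -- `e1 = e' x^d`
  have hae' : bf W (x * y) a' e' = 1 := by
    refine z2_ne fun h0 => ?_
    rw [h0, pw_zero, one_mul] at hl
    apply E.nx
    have h2 : e1 = pw x l * (pw x i)⁻¹ := eq_mul_inv_of_mul_eq hl
    have h3 : e = q⁻¹ * e1 * q := by rw [he1]; group
    have h4 : ∀ k : ZMod 2, q⁻¹ * pw x k * q = pw x k := by
      intro k
      have h5 := conj_pw (a := x) (g := q⁻¹) k
      rw [inv_inv] at h5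
      rw [h5]
      have h6 : q⁻¹ * x * q = x := by
        calc q⁻¹ * x * q = q⁻¹ * (x * q) := by group
          _ = x := by rw [← hqx]; group
      rw [h6]
    have h7 : e = (q⁻¹ * pw x l * q) * (q⁻¹ * pw x i * q)⁻¹ := by
      rw [h3, h2]; group
    rw [h7, h4, h4]
    exact mul_mem (pw_mem hxX _) (inv_mem (pw_mem hxX _))
  rw [hae', pw_one] at hl
  obtain ⟨d, hd⟩ : ∃ d : ZMod 2, e1 = e' * pw x d := by
    refine ⟨l + i, ?_⟩
    have h2 : e1 = e' * pw x l * (pw x i)⁻¹ := eq_mul_inv_of_mul_eq hl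
    rw [h2, pw_add hxx]
    have h3 : (pw x i)⁻¹ = pw x i := by
      rw [inv_eq_iff_mul_eq_one, ← pw_add hxx, z2_add_self, pw_zero]
    rw [h3, mul_assoc]
  -- `B_m(w', e') = d`, `B_m(w, e') = c`
  have hw'e' : bf W m w' e' = d := by
    have h2 := hw'e
    rw [hd, S.bf_mul_right hrs E'.memM (pw_mem hxM _) hw'M, S.bf_pw_right hrs hw'M, hw'x, mul_one] at h2
    exact z2_eq h2
  have hwe' : bf W m w e' = c := by
    have h2 := S.bf_mul_right hrs E.memM E'.memM hw
    rw [hc, hwe, zero_add, S.bf_mul_right hrs (pw_mem hxM _) hmM hw, S.bf_pw_right hrs hw, hwx, mul_one,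
      bf_x_right, add_zero] at h2
    exact h2.symm
  -- `n`, `t0`
  set n := w' * w⁻¹ with hn
  have hnM : n ∈ W x m := mul_mem hw'M (inv_mem hw)
  have hww : w⁻¹ = w := S.inv_eq hr hw
  have hnx : bf W m n x = 0 := by
    rw [hn, hww, S.bf_mul_left hrs hw'M hw hxM, hw'x, hwx]; decide
  have hne' : bf W m n e' = d + c := by
    rw [hn, hww, S.bf_mul_left hrs hw'M hw E'.memM, hw'e', hwe']
  have hbb : b⁻¹ = b := S.inv_eq h' hb
  set t0 := a' * b⁻¹ with ht0
  have ht0S : t0 ∈ W x (x * y) := mul_mem ha'S (inv_mem hb)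
  have ht0x : bf W (x * y) t0 x = 0 := by
    rw [ht0, hbb, S.bf_mul_left hs' ha'S hb hxS, ha'x, hb1, add_zero]
  have ht0e : bf W (x * y) t0 e' = 0 := by
    rw [ht0, hbb, S.bf_mul_left hs' ha'S hb E'.memY, hae', hbe]; decide
  have hwn : w' = n * w := by rw [hn]; group
  have htb : a' = t0 * b := by rw [ht0]; group
  have h41 := T'.four S E' ht0S ht0x ht0e hw
  have h42 := T'.four S E' ht0S ht0x ht0e hnM
  have h43 := T'.three' S E' hnM hnx hb hb1
  rw [hne', hbe, mul_one] at h43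
  have hwt0 : w * t0 = t0 * w := by
    calc w * t0 = (w * t0 * w⁻¹ * t0⁻¹) * (t0 * w) := by group
      _ = t0 * w := by rw [h41, one_mul]
  have hnt0 : n * t0 = t0 * n := by
    calc n * t0 = (n * t0 * n⁻¹ * t0⁻¹) * (t0 * n) := by group
      _ = t0 * n := by rw [h42, one_mul]
  have hnβ : n * (w * b * w⁻¹ * b⁻¹) = (w * b * w⁻¹ * b⁻¹) * n := S.comm hr hnM hβ2
  have ht0β : t0 * (w * b * w⁻¹ * b⁻¹) = (w * b * w⁻¹ * b⁻¹) * t0 := S.comm h' ht0S hβ1
  have ht0x' : t0 * x = x * t0 := S.comm h' ht0S hxS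
  have hfin : w' * a' * w'⁻¹ * a'⁻¹ = e' * pw x (j + (d + c)) := by
    rw [hwn, htb]
    calc n * w * (t0 * b) * (n * w)⁻¹ * (t0 * b)⁻¹ =
        n * (w * t0) * b * w⁻¹ * n⁻¹ * b⁻¹ * t0⁻¹ := by group
      _ = (n * t0) * (w * b * w⁻¹) * n⁻¹ * b⁻¹ * t0⁻¹ := by rw [hwt0]; group
      _ = t0 * (n * (w * b * w⁻¹ * b⁻¹)) * b * n⁻¹ * b⁻¹ * t0⁻¹ := by rw [hnt0]; group
      _ = t0 * (w * b * w⁻¹ * b⁻¹) * (n * b * n⁻¹ * b⁻¹) * t0⁻¹ := by rw [hnβ]; group
      _ = (w * b * w⁻¹ * b⁻¹) * (t0 * (n * b * n⁻¹ * b⁻¹)) * t0⁻¹ := by rw [ht0β]; group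
      _ = (w * b * w⁻¹ * b⁻¹) * pw x (d + c) := by
        rw [h43, pw_comm ht0x']; group
      _ = e' * pw x (j + (d + c)) := by rw [hj, pw_add hxx j]; group
  rw [hconj, hd, mul_assoc, ← pw_add hxx] at hfin
  have h9 := pw_inj hx1 (mul_left_cancel hfin)
  -- `d + i = j + d + c`
  revert hsum h9
  generalize i = i', j = j', c = c', d = d'
  revert i' j' c' d'
  decide

end Tri

end Cfsg.Agent.Omega.NO3S.TV.Eight
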