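import Cfsg.Agent.Omega.NO3S.TV.Sys

/-!
# The form of a symmetric orbit of transvections over `F₂` (helper311's text #16747, (1.1), (1.2))

`H` acts on the finite elementary abelian 2-group `M`, `v0 : M`, `a0 : H` a transvection with centre `v0` centralised by
the stabiliser of `v0`, `M` spanned by the orbit of `v0`, and `a_{v0}` fixes `x • v0` implies that `a_{x • v0}` fixes `v0`,
`a_{x • v0} = x a0 x⁻¹`.

* `Pre v0 a0` : these hypotheses; `IsForm v0 a0 B` : `B` is a symmetric `H`-invariant alternating form with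
  `a_{x • v0} m = m + B m (x • v0) (x • v0)`; `Pre.exists_form`;
* `IsForm.sys`, `IsForm.act` : the structures `Sys`, `Act` of `TV/Sys.lean`.
-/

set_option autoImplicit false

namespace Cfsg.Agent.Omega.NO3S.TV.Abs

universe u v

variable {M : Type u} {H : Type v} [AddCommGroup M] [Group H] [DistribMulAction H M]

/-- a symmetric orbit of transvections -/
structure Pre (v0 : M) (a0 : H) : Prop where
  two : ∀ m : M, m + m = 0
  ne : ∃ m : M, a0 • m ≠ m
  mv : ∀ m : M, a0 • m = m ∨ a0 • m = m + v0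
  stab : ∀ x : H, x • v0 = v0 → x * a0 = a0 * x
  span : AddSubgroup.closure (Set.range fun x : H => x • v0) = ⊤
  sym : ∀ x : H, a0 • (x • v0) = x • v0 → (x * a0 * x⁻¹) • v0 = v0

/-- the form -/
structure IsForm (v0 : M) (a0 : H) (B : M → M → ZMod 2) : Prop where
  two : ∀ m : M, m + m = 0
  add_left : ∀ m n k, B (m + n) k = B m k + B n k
  add_right : ∀ k m n, B k (m + n) = B k m + B k n
  symm : ∀ m n, B m n = B n m
  self : ∀ m, B m m = 0
  inv : ∀ (x : H) (m n : M), B (x • m) (x • n) = B m n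
  fix : ∀ (x : H) (m : M), B m (x • v0) = 0 → (x * a0 * x⁻¹) • m = m
  mv : ∀ (x : H) (m : M), B m (x • v0) = 1 → (x * a0 * x⁻¹) • m = m + x • v0
  ne : ∃ m, B m v0 = 1
  span : AddSubgroup.closure (Set.range fun x : H => x • v0) = ⊤

theorem zmod_cases (a : ZMod 2) : a = 0 ∨ a = 1 := by
  fin_cases a
  · exact Or.inl rfl
  · exact Or.inr rfl

theorem zmod_ne_zero {a : ZMod 2} : a ≠ 0 ↔ a = 1 := by
  rcases zmod_cases a with rfl | rfl <;> simp

theorem zmod_ne_one {a : ZMod 2} : a ≠ 1 ↔ a = 0 := by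
  rcases zmod_cases a with rfl | rfl <;> simp

namespace Pre

variable {v0 : M} {a0 : H} (P : Pre v0 a0)
include P

theorem v0_ne : v0 ≠ 0 := by
  intro e
  obtain ⟨m, hm⟩ := P.ne
  rcases P.mv m with h | h
  · exact hm h
  · rw [e, add_zero] at h; exact hm h

theorem fix0 : a0 • v0 = v0 := by
  rcases P.mv v0 with h | h
  · exact h
  · rw [P.two] at h
    exact absurd (smul_eq_zero_iff_eq a0 |>.mp h) P.v0_ne

/-- `a_{x • v0}` -/
theorem mv' (x : H) (m : M) : (x * a0 * x⁻¹) • m = m ∨ (x * a0 * x⁻¹) • m = m + x • v0 := by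
  rcases P.mv (x⁻¹ • m) with h | h
  · left
    rw [mul_smul, mul_smul, h, smul_inv_smul]
  · right
    rw [mul_smul, mul_smul, h, smul_add, smul_inv_smul]

theorem ax_eq {x y : H} (h : x • v0 = y • v0) : x * a0 * x⁻¹ = y * a0 * y⁻¹ := by
  have h1 : (y⁻¹ * x) • v0 = v0 := by rw [mul_smul, h, inv_smul_smul]
  have h2 := P.stab _ h1
  calc x * a0 * x⁻¹ = y * ((y⁻¹ * x) * a0) * x⁻¹ := by group
    _ = y * (a0 * (y⁻¹ * x)) * x⁻¹ := by rw [h2]
    _ = y * a0 * y⁻¹ := by group

open Classical in
/-- the functional of `a_{x • v0}` -/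
noncomputable def fn (x : H) : M →+ ZMod 2 where
  toFun m := if (x * a0 * x⁻¹) • m = m then 0 else 1
  map_zero' := by simp
  map_add' m n := by
    have hne : x • v0 ≠ 0 := fun e => P.v0_ne ((smul_eq_zero_iff_eq x).mp e)
    have e11 : (1 : ZMod 2) + 1 = 0 := by decide
    have h0 : ∀ k : M, k + x • v0 ≠ k := fun k hk => hne (by simpa using hk)
    rcases P.mv' x m with h1 | h1 <;> rcases P.mv' x n with h2 | h2 <;> rw [smul_add, h1, h2]
    · simp
    · have : m + (n + x • v0) ≠ m + n := fun e => h0 n (add_left_cancel e)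
      simp [this, h0]
    · have : m + x • v0 + n ≠ m + n := fun e => h0 m (add_right_cancel e)
      simp [this, h0]
    · have : m + x • v0 + (n + x • v0) = m + n := by
        calc m + x • v0 + (n + x • v0) = m + n + (x • v0 + x • v0) := by abel
          _ = m + n := by rw [P.two, add_zero]
      rw [if_pos this, if_neg (h0 m), if_neg (h0 n), e11]

open Classical in
theorem fn_apply {x : H} {m : M} : P.fn x m = if (x * a0 * x⁻¹) • m = m then 0 else 1 := rfl

theorem fn_eq_zero {x : H} {m : M} : P.fn x m = 0 ↔ (x * a0 * x⁻¹) • m = m := by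
  rw [P.fn_apply]
  split_ifs with h
  · simp [h]
  · simp [h]

theorem fn_eq_one {x : H} {m : M} : P.fn x m = 1 ↔ (x * a0 * x⁻¹) • m = m + x • v0 := by
  rw [← zmod_ne_zero, Ne, P.fn_eq_zero]
  have hne : x • v0 ≠ 0 := fun e => P.v0_ne ((smul_eq_zero_iff_eq x).mp e)
  constructor
  · intro h
    exact (P.mv' x m).resolve_left h
  · intro h h1
    rw [h1] at h
    exact hne (by simpa using h.symm)

theorem fn_symm_aux {x y : H} (h : P.fn x (y • v0) = 0) : P.fn y (x • v0) = 0 := by
  rw [P.fn_eq_zero] at h ⊢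
  have h1 : a0 • ((x⁻¹ * y) • v0) = (x⁻¹ * y) • v0 := by
    have := congrArg (fun m => x⁻¹ • m) h
    simp only [mul_smul, inv_smul_smul] at this
    rw [mul_smul]
    exact this
  have h2 := P.sym _ h1
  have h3 := congrArg (fun m => x • m) h2
  simp only [mul_smul, mul_inv_rev, inv_inv, smul_inv_smul] at h3
  simp only [mul_smul]
  exact h3

theorem fn_symm (x y : H) : P.fn x (y • v0) = P.fn y (x • v0) := by
  rcases zmod_cases (P.fn x (y • v0)) with h | h
  · rw [h, P.fn_symm_aux h]
  · rcases zmod_cases (P.fn y (x • v0)) with h' | h'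
    · rw [P.fn_symm_aux h', h']
    · rw [h, h']

theorem fn_smul (x y : H) (m : M) : P.fn (y * x) (y • m) = P.fn x m := by
  have key : P.fn (y * x) (y • m) = 0 ↔ P.fn x m = 0 := by
    rw [P.fn_eq_zero, P.fn_eq_zero]
    have e : (y * x * a0 * (y * x)⁻¹) • y • m = y • ((x * a0 * x⁻¹) • m) := by
      rw [← mul_smul, ← mul_smul]
      congr 1
      group
    rw [e]
    exact smul_left_cancel_iff y
  rcases zmod_cases (P.fn x m) with h | h
  · rw [h]; exact key.mpr h
  · rcases zmod_cases (P.fn (y * x) (y • m)) with h' | h'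
    · rw [key.mp h'] at h; exact absurd h (by decide)
    · rw [h, h']

/-- the graph of the form -/
noncomputable def gr : AddSubgroup (M × (M →+ ZMod 2)) :=
  AddSubgroup.closure (Set.range fun x : H => (x • v0, P.fn x))

theorem gr_apply {q : M × (M →+ ZMod 2)} (hq : q ∈ P.gr) (y : H) : q.2 (y • v0) = P.fn y q.1 := by
  unfold gr at hq
  induction hq using AddSubgroup.closure_induction with
  | mem q hq =>
    obtain ⟨x, rfl⟩ := hq
    exact P.fn_symm x y
  | zero => simp
  | add a b _ _ ha hb =>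
    change (a.2 + b.2) (y • v0) = P.fn y (a.1 + b.1)
    rw [AddMonoidHom.add_apply, ha, hb, map_add]
  | neg a _ ha =>
    change (-a.2) (y • v0) = P.fn y (-a.1)
    rw [AddMonoidHom.neg_apply, ha, map_neg]

theorem ext_orbit {g g' : M →+ ZMod 2} (h : ∀ y : H, g (y • v0) = g' (y • v0)) : g = g' := by
  ext m
  have hm : m ∈ AddSubgroup.closure (Set.range fun x : H => x • v0) := by rw [P.span]; trivial
  induction hm using AddSubgroup.closure_induction with
  | mem m hm => obtain ⟨x, rfl⟩ := hm; exact h x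
  | zero => simp
  | add a b _ _ ha hb => rw [map_add, map_add, ha, hb]
  | neg a _ ha => rw [map_neg, map_neg, ha]

theorem gr_unique {m : M} {g g' : M →+ ZMod 2} (h : (m, g) ∈ P.gr) (h' : (m, g') ∈ P.gr) : g = g' :=
  P.ext_orbit fun y => (P.gr_apply h y).trans (P.gr_apply h' y).symm

theorem gr_exists (m : M) : ∃ g, (m, g) ∈ P.gr := by
  have hm : m ∈ AddSubgroup.closure (Set.range fun x : H => x • v0) := by rw [P.span]; trivial
  induction hm using AddSubgroup.closure_induction with
  | mem m hm => obtain ⟨x, rfl⟩ := hm; exact ⟨P.fn x, AddSubgroup.subset_closure ⟨x, rfl⟩⟩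
  | zero => exact ⟨0, zero_mem _⟩
  | add a b _ _ ha hb =>
    obtain ⟨g, hg⟩ := ha
    obtain ⟨g', hg'⟩ := hb
    exact ⟨g + g', add_mem hg hg'⟩
  | neg a _ ha =>
    obtain ⟨g, hg⟩ := ha
    exact ⟨-g, neg_mem hg⟩

/-- **(1.1)**: the form. -/
theorem exists_form : ∃ B : M → M → ZMod 2, IsForm v0 a0 B := by
  classical
  choose g hg using P.gr_exists
  have hgx : ∀ x : H, g (x • v0) = P.fn x := fun x =>
    P.gr_unique (hg _) (AddSubgroup.subset_closure ⟨x, rfl⟩)
  have hadd : ∀ m n, g (m + n) = g m + g n := fun m n =>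
    P.gr_unique (hg _) (add_mem (hg m) (hg n))
  have hsym0 : ∀ (y : H) (m : M), g m (y • v0) = g (y • v0) m := fun y m => by
    rw [P.gr_apply (hg m) y, hgx]
  have hsym : ∀ m n, g m n = g n m := by
    intro m n
    have hn : n ∈ AddSubgroup.closure (Set.range fun x : H => x • v0) := by rw [P.span]; trivial
    induction hn using AddSubgroup.closure_induction with
    | mem n hn => obtain ⟨y, rfl⟩ := hn; exact hsym0 y m
    | zero =>
      have : g 0 = 0 := P.gr_unique (hg 0) (zero_mem _)
      rw [this, map_zero, AddMonoidHom.zero_apply]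
    | add a b _ _ ha hb => rw [map_add, hadd, AddMonoidHom.add_apply, ha, hb]
    | neg a _ ha =>
      have : g (-a) = - g a := P.gr_unique (hg _) (neg_mem (hg a))
      rw [map_neg, this, AddMonoidHom.neg_apply, ha]
  have e2 : ∀ a : ZMod 2, a + a = 0 := by decide
  have hself : ∀ m, g m m = 0 := by
    intro m
    have hm : m ∈ AddSubgroup.closure (Set.range fun x : H => x • v0) := by rw [P.span]; trivial
    induction hm using AddSubgroup.closure_induction with
    | mem m hm =>
      obtain ⟨y, rfl⟩ := hm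
      rw [hgx, P.fn_eq_zero, mul_smul, mul_smul, inv_smul_smul, P.fix0]
    | zero => rw [map_zero]
    | add a b _ _ ha hb =>
      rw [map_add, hadd, AddMonoidHom.add_apply, AddMonoidHom.add_apply, ha, hb, hsym b a, zero_add, add_zero, e2]
    | neg a _ ha =>
      have : g (-a) = - g a := P.gr_unique (hg _) (neg_mem (hg a))
      rw [this, AddMonoidHom.neg_apply, map_neg, ha, neg_zero, neg_zero]
  refine ⟨fun m n => g n m, ?_, ?_, ?_, ?_, ?_, ?_, ?_, ?_, ?_, ?_⟩
  · exact P.two
  · intro m n k; exact map_add _ _ _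
  · intro k m n
    rw [hadd, AddMonoidHom.add_apply]
  · intro m n; exact hsym n m
  · exact hself
  · intro x m n
    have hn : n ∈ AddSubgroup.closure (Set.range fun x : H => x • v0) := by rw [P.span]; trivial
    induction hn using AddSubgroup.closure_induction with
    | mem n hn =>
      obtain ⟨y, rfl⟩ := hn
      change g (x • y • v0) (x • m) = g (y • v0) m
      rw [← mul_smul, hgx, hgx, P.fn_smul]
    | zero =>
      have : g 0 = 0 := P.gr_unique (hg 0) (zero_mem _)
      change g (x • 0) (x • m) = g 0 m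
      rw [smul_zero, this, AddMonoidHom.zero_apply, AddMonoidHom.zero_apply]
    | add a b _ _ ha hb =>
      change g (x • (a + b)) (x • m) = g (a + b) m
      rw [smul_add, hadd, hadd, AddMonoidHom.add_apply, AddMonoidHom.add_apply]
      exact congrArg₂ (· + ·) ha hb
    | neg a _ ha =>
      have h1 : ∀ k, g (-k) = - g k := fun k => P.gr_unique (hg _) (neg_mem (hg k))
      change g (x • (-a)) (x • m) = g (-a) m
      rw [smul_neg, h1, h1, AddMonoidHom.neg_apply, AddMonoidHom.neg_apply]
      exact congrArg Neg.neg ha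
  · intro x m hm
    rw [hgx] at hm
    exact P.fn_eq_zero.mp hm
  · intro x m hm
    rw [hgx] at hm
    exact P.fn_eq_one.mp hm
  · obtain ⟨m, hm⟩ := P.ne
    refine ⟨m, ?_⟩
    have h1 : g v0 = P.fn 1 := by
      have := hgx 1
      rwa [one_smul] at this
    change g v0 m = 1
    rw [h1, ← zmod_ne_zero, Ne, P.fn_eq_zero]
    simpa using hm
  · exact P.span

end Pre

namespace IsForm

variable {v0 : M} {a0 : H} {B : M → M → ZMod 2} (F : IsForm v0 a0 B)
include F

theorem sys : Sys (Set.range fun x : H => x • v0) B where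
  two := F.two
  add_left := F.add_left
  symm := F.symm
  alt := F.self
  span := F.span
  nd := by
    rintro _ ⟨x, rfl⟩
    obtain ⟨m, hm⟩ := F.ne
    exact ⟨x • m, by rw [F.symm, F.inv, hm]⟩
  refl := by
    rintro _ ⟨x, rfl⟩ _ ⟨y, rfl⟩ h
    exact ⟨y * a0 * y⁻¹ * x, by
      change (y * a0 * y⁻¹ * x) • v0 = x • v0 + y • v0
      rw [mul_smul, F.mv y _ h]⟩

theorem act : Act (Set.range fun x : H => x • v0) B H where
  smul_mem := by
    rintro h _ ⟨x, rfl⟩
    exact ⟨h * x, mul_smul _ _ _⟩
  form := F.inv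
  tv := by
    rintro _ ⟨x, rfl⟩
    exact ⟨x * a0 * x⁻¹, fun m => ⟨F.fix x m, F.mv x m⟩⟩

end IsForm

end Cfsg.Agent.Omega.NO3S.TV.Abs
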