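import Cfsg.Agent.Omega.NO3S.TV.Form
import Cfsg.Agent.Omega.NO3S.Fit.Char
import Cfsg.Agent.MinSimple.VModule

/-!
# NO-3a.4, transvection types (helper311's text #16747): section 3, (3.1)-(3.3)

`h : Tvf T V z cf`, `R : MRep V cf z M H`, `hB : IsB R B`, `hc : Conn (TT R) B`.

* `Tvf.swap` (3.1); `Tvf.swap_norm`;
* `xx V cf z` : `X_z = ⟨W_t : t ~ z⟩`, `pp V cf z` : `P_z = ⟨W_t ∩ K_z⟩`; `Tvf.cf_eq` : `C_z = X_z N_{C_z}(V)`;
  `Tvf.pp_two`, `Tvf.kk_xx` : `[K_z, X_z] ≤ P_z` (3.2);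
* `Tvf.kk_inf_two` (3.3): `K_p ∩ K_q` is a 2-group.
-/

set_option autoImplicit false
set_option linter.unusedSectionVars false

namespace Cfsg.Agent.Omega.NO3S.TV

open Subgroup Cfsg Cfsg.Agent.ZN Cfsg.Agent.MinSimple.Geo Cfsg.Agent.Omega.CaseL Cfsg.Agent.Omega.NO3S.Fit
open Cfsg.Agent.ZN.Block (conj_mem_of_normalizer conj_mem_of_normalizer' le_normalizer_of_forall
  mem_normalizer_of)
open Sys (rf rf_zero rf_one)

universe u

variable {G : Type u} [Group G]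

/-- an element of odd order of `N P`, `P` a 2-group which normalises `N`, is in `N` -/
theorem odd_mem_of_mul [Finite G] {N P : Subgroup G} (hP : IsPGroup 2 P) {k p : G} (hk : k ∈ N) (hp : p ∈ P)
    (hpn : p ∈ normalizer (N : Set G)) (ho : Odd (orderOf (k * p))) : k * p ∈ N := by
  have h1 : ∀ m : ℕ, (k * p) ^ m * (p ^ m)⁻¹ ∈ N := by
    intro m
    induction m with
    | zero => simp
    | succ m ih =>
      have e : (k * p) ^ (m + 1) * (p ^ (m + 1))⁻¹ =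
          ((k * p) ^ m * (p ^ m)⁻¹) * (p ^ m * k * (p ^ m)⁻¹) := by
        rw [pow_succ, pow_succ]; group
      rw [e]
      exact mul_mem ih (conj_mem_of_normalizer le_rfl (pow_mem hpn m) hk)
  obtain ⟨n, hn⟩ := hP ⟨p, hp⟩
  have hn' : p ^ 2 ^ n = 1 := congrArg Subtype.val hn
  have h2 := h1 (2 ^ n)
  rw [hn', inv_one, mul_one] at h2
  obtain ⟨m, hm⟩ := exists_pow_eq_self_of_coprime (x := k * p) (n := 2 ^ n)
    (Nat.Coprime.pow_left n (Nat.coprime_two_left.mpr ho))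
  rw [← hm]
  exact pow_mem h2 m

/-- `X_z` -/
def xx (V : Subgroup G) (cf : G → Subgroup G) (z : G) : Subgroup G := ⨆ t : pts V cf z, wt V cf z t

/-- `P_z` -/
def pp (V : Subgroup G) (cf : G → Subgroup G) (z : G) : Subgroup G := ⨆ t : pts V cf z, wt V cf z t ⊓ kk V cf z

variable {T V : Subgroup G} {z : G} {cf : G → Subgroup G}

theorem wt_le_xx {t : G} (ht : t ∈ pts V cf z) : wt V cf z t ≤ xx V cf z :=
  le_iSup (fun t : pts V cf z => wt V cf z t) ⟨t, ht⟩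

theorem wt_inf_le_pp {t : G} (ht : t ∈ pts V cf z) : wt V cf z t ⊓ kk V cf z ≤ pp V cf z :=
  le_iSup (fun t : pts V cf z => wt V cf z t ⊓ kk V cf z) ⟨t, ht⟩

theorem pp_le_kk : pp V cf z ≤ kk V cf z := iSup_le fun _ => inf_le_right

theorem pp_le_xx : pp V cf z ≤ xx V cf z := iSup_mono fun _ => inf_le_left

namespace Tvf

variable (h : Tvf T V z cf)
include h

theorem xx_le_cf : xx V cf z ≤ cf z := iSup_le fun t => h.wt_le_cf t.2

theorem cf_le_norm_xx : cf z ≤ normalizer ((xx V cf z : Subgroup G) : Set G) := by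
  refine le_normalizer_of_forall fun c hc x hx => ?_
  have key : xx V cf z ≤ (xx V cf z).comap (MulAut.conj c).toMonoidHom := by
    refine iSup_le fun t => ?_
    intro w hw
    change c * w * c⁻¹ ∈ xx V cf z
    refine wt_le_xx (pts_conj t.2 hc) ?_
    rw [wt_cj h.toFam t.2 hc]
    exact conj_mem_cj hw
  exact key hx

theorem cf_le_norm_pp : cf z ≤ normalizer ((pp V cf z : Subgroup G) : Set G) := by
  refine le_normalizer_of_forall fun c hc x hx => ?_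
  have key : pp V cf z ≤ (pp V cf z).comap (MulAut.conj c).toMonoidHom := by
    refine iSup_le fun t => ?_
    intro w hw
    change c * w * c⁻¹ ∈ pp V cf z
    refine wt_inf_le_pp (pts_conj t.2 hc) ⟨?_, conj_mem_of_normalizer h.cf_norm_kk hc hw.2⟩
    rw [wt_cj h.toFam t.2 hc]
    exact conj_mem_cj hw.1
  exact key hx

theorem kk_le_cf : kk V cf z ≤ cf z := h.kk_le_cent.trans (h.cent_le_cf h.z_mem h.z_ne)

/-- `K_z` normalises `W_t` -/
theorem kk_norm_wt {t : G} (ht : t ∈ pts V cf z) : kk V cf z ≤ normalizer ((wt V cf z t : Subgroup G) : Set G) :=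
  fun _ hk => h.wt_norm ht (h.kk_le_cf hk) (mem_centralizer_iff.mp hk t (h.pt_mem ht)).symm

/-- `[K_z, X_z] ≤ P_z` -/
theorem kk_xx {k x : G} (hk : k ∈ kk V cf z) (hx : x ∈ xx V cf z) : k * x * k⁻¹ * x⁻¹ ∈ pp V cf z := by
  let N : Subgroup G :=
    { carrier := {x | x ∈ cf z ∧ ∀ k ∈ kk V cf z, k * x * k⁻¹ * x⁻¹ ∈ pp V cf z}
      mul_mem' := by
        rintro a b ⟨ha, ha'⟩ ⟨hb, hb'⟩
        refine ⟨mul_mem ha hb, fun k hk => ?_⟩
        have e : k * (a * b) * k⁻¹ * (a * b)⁻¹ = (k * a * k⁻¹ * a⁻¹) * (a * (k * b * k⁻¹ * b⁻¹) * a⁻¹) := by group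
        rw [e]
        exact mul_mem (ha' k hk) (conj_mem_of_normalizer h.cf_le_norm_pp ha (hb' k hk))
      one_mem' := ⟨one_mem _, fun k _ => by
        have e : k * 1 * k⁻¹ * 1⁻¹ = 1 := by group
        rw [e]; exact one_mem _⟩
      inv_mem' := by
        rintro a ⟨ha, ha'⟩
        refine ⟨inv_mem ha, fun k hk => ?_⟩
        have e : k * a⁻¹ * k⁻¹ * a⁻¹⁻¹ = a⁻¹ * (k * a * k⁻¹ * a⁻¹)⁻¹ * a⁻¹⁻¹ := by group
        rw [e]
        exact conj_mem_of_normalizer h.cf_le_norm_pp (inv_mem ha) (inv_mem (ha' k hk)) }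
  have key : xx V cf z ≤ N := by
    refine iSup_le fun t => fun w hw => ⟨h.wt_le_cf t.2 hw, fun k hk => ?_⟩
    have hw' : w ∈ wt V cf z t := hw
    refine wt_inf_le_pp t.2 ⟨?_, ?_⟩
    · exact (wt V cf z t).mul_mem (conj_mem_of_normalizer (h.kk_norm_wt t.2) hk hw') ((wt V cf z t).inv_mem hw')
    · have e : k * w * k⁻¹ * w⁻¹ = k * (w * k⁻¹ * w⁻¹) := by group
      rw [e]
      exact (kk V cf z).mul_mem hk (conj_mem_of_normalizer h.cf_norm_kk (h.wt_le_cf t.2 hw) ((kk V cf z).inv_mem hk))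
  exact (key hx).2 k hk

variable [Finite G]

/-- `P_z ≤ O₂(K_z)` -/
theorem pp_le_o2 : pp V cf z ≤ o2 (kk V cf z) := by
  refine iSup_le fun t => le_o2 inf_le_right ?_ ?_
  · rintro ⟨a, ha⟩
    exact ⟨1, Subtype.ext (by rw [pow_one]; exact (pow_two a).trans (h.wt_sq t.2 ha.1))⟩
  · refine le_normalizer_of_forall fun k hk w hw => ⟨conj_mem_of_normalizer (h.kk_norm_wt t.2) hk hw.1, ?_⟩
    exact (kk V cf z).mul_mem ((kk V cf z).mul_mem hk hw.2) ((kk V cf z).inv_mem hk)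

theorem pp_two : IsPGroup 2 (pp V cf z) := (isPGroup_o2 _).to_le h.pp_le_o2

end Tvf

/-! ### with the form -/

namespace Tvf

variable (h : Tvf T V z cf) [Finite G] {M H : Type u} [AddCommGroup M] [Group H] [DistribMulAction H M]
  (R : MRep V cf z M H) {B : M → M → ZMod 2} (hB : IsB R B)
include h hB

/-- `b ∈ W_t - Q_z` acts as `rf B t` -/
theorem phi_rf {t b : G} (ht : t ∈ pts V cf z) (hb : b ∈ wt V cf z t) (hbz : b ∉ qq V cf z) (m : M) :
    R.phi b • m = rf B (R.pi t) m := by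
  have h1 := h.phi_wt R hB ht hb hbz m
  rcases z2 (B m (R.pi t)) with h2 | h2
  · rw [rf_zero h2, h1.1 h2]
  · rw [rf_one h2, h1.2 h2]

/-- each point is moved by `Q_z` -/
theorem exists_move {t : G} (ht : t ∈ pts V cf z) : ∃ q ∈ qq V cf z, q * t * q⁻¹ = z * t := by
  have S := h.sys R hB
  obtain ⟨_, ⟨s, hs, rfl⟩, hs1⟩ := S.exists_nd (pi_mem_TT R ht)
  obtain ⟨f, hf, -, hf2⟩ := h.exists_f R hB hs
  exact ⟨f, hf, (hf2 t (h.pt_mem ht)).2 hs1⟩

/-- a point is moved by an element of `Q_z` which fixes a given other point -/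
theorem exists_move2 [FaithfulSMul H M] {t u : G} (ht : t ∈ pts V cf z) (hu : u ∈ pts V cf z)
    (hne : R.pi t ≠ R.pi u) : ∃ q ∈ qq V cf z, q * t * q⁻¹ = t ∧ q * u * q⁻¹ = z * u := by
  obtain ⟨_, ⟨s, hs, rfl⟩, hs1, hs2⟩ := (h.sys R hB).exists_nonperp (h.inj R hB) (pi_mem_TT R ht)
    (pi_mem_TT R hu) (Ne.symm hne)
  obtain ⟨f, hf, -, hf2⟩ := h.exists_f R hB hs
  refine ⟨f, hf, (hf2 t (h.pt_mem ht)).1 hs1, (hf2 u (h.pt_mem hu)).2 ?_⟩
  rw [(h.sys R hB).symm]; exact hs2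

omit hB in
/-- two elements of `W_z` with the same image are conjugate under `Q_z` if they are points -/
theorem conj_eq_or {c t u : G} (hc : c ∈ cf z) (ht : t ∈ pts V cf z) (hu : u ∈ pts V cf z)
    (e : R.phi c • R.pi t = R.pi u) : c * t * c⁻¹ = u ∨ c * t * c⁻¹ = z * u := by
  rw [R.act c hc t (h.pt_mem ht)] at e
  exact (R.pi_eq h.toFam (conj_mem_wf hc (h.pt_mem ht)) (h.pt_mem hu)).mp e

/-- **(3.1) SWAP** -/
theorem swap [FaithfulSMul H M] (hc : Conn (TT R) B) {t u : G} (ht : t ∈ pts V cf z) (hu : u ∈ pts V cf z)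
    (h0 : B (R.pi t) (R.pi u) = 0) (hne : R.pi t ≠ R.pi u) :
    ∃ c ∈ cf z, c * t * c⁻¹ = u ∧ c * u * c⁻¹ = t := by
  have S := h.sys R hB
  have hzc := h.V_le_cf h.z_mem h.z_ne h.z_mem
  obtain ⟨_, ⟨a, ha, rfl⟩, _, ⟨b, hb, rfl⟩, -, -, -, -, -, -, e1, e2⟩ :=
    S.swap hc (pi_mem_TT R ht) (pi_mem_TT R hu) h0
  obtain ⟨x, hx, hxz⟩ := h.exists_wt ha
  obtain ⟨x', hx', hxz'⟩ := h.exists_wt hb
  have hxc := h.wt_le_cf ha hx
  have hxc' := h.wt_le_cf hb hx'
  have hxx := mul_mem hxc hxc'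
  have e3 : R.phi (x * x') • R.pi t = R.pi u := by
    rw [R.phi_mul x hxc x' hxc', mul_smul, h.phi_rf R hB hb hx' hxz', h.phi_rf R hB ha hx hxz, e1]
  have e4 : R.phi (x * x') • R.pi u = R.pi t := by
    rw [R.phi_mul x hxc x' hxc', mul_smul, h.phi_rf R hB hb hx' hxz', h.phi_rf R hB ha hx hxz, e2]
  have hzz : ∀ w : G, z * (z * w) = w := fun w => by rw [← mul_assoc, h.ln.sq z h.z_mem, one_mul]
  have hcz : ∀ c ∈ cf z, ∀ w : G, c * (z * w) * c⁻¹ = z * (c * w * c⁻¹) := by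
    intro c hc w
    have := h.cf_comm h.z_mem h.z_ne hc
    calc c * (z * w) * c⁻¹ = (c * z) * w * c⁻¹ := by group
      _ = (z * c) * w * c⁻¹ := by rw [this]
      _ = z * (c * w * c⁻¹) := by group
  -- first correction
  obtain ⟨c, hc, ec1, ec2⟩ : ∃ c ∈ cf z, c * t * c⁻¹ = u ∧ (c * u * c⁻¹ = t ∨ c * u * c⁻¹ = z * t) := by
    rcases h.conj_eq_or R hxx ht hu e3 with e5 | e5
    · exact ⟨x * x', hxx, e5, h.conj_eq_or R hxx hu ht e4⟩
    · obtain ⟨q, hq, hq1⟩ := h.exists_move R hB hu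
      refine ⟨q * (x * x'), mul_mem hq.1 hxx, ?_, ?_⟩
      · have : q * (x * x') * t * (q * (x * x'))⁻¹ = q * ((x * x') * t * (x * x')⁻¹) * q⁻¹ := by group
        rw [this, e5, hcz q hq.1, hq1, hzz]
      · have : q * (x * x') * u * (q * (x * x'))⁻¹ = q * ((x * x') * u * (x * x')⁻¹) * q⁻¹ := by group
        rw [this]
        have h6 : q * t * q⁻¹ = t ∨ q * t * q⁻¹ = z * t := h.qq_cases h.z_mem hq (h.pt_mem ht)
        rcases h.conj_eq_or R hxx hu ht e4 with e7 | e7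
        · rw [e7]; exact h6
        · rw [e7, hcz q hq.1]
          rcases h6 with e8 | e8
          · right; rw [e8]
          · left; rw [e8, hzz]
  rcases ec2 with e5 | e5
  · exact ⟨c, hc, ec1, e5⟩
  · obtain ⟨q, hq, hq1, hq2⟩ := h.exists_move2 R hB hu ht hne.symm
    refine ⟨q * c, mul_mem hq.1 hc, ?_, ?_⟩
    · have : q * c * t * (q * c)⁻¹ = q * (c * t * c⁻¹) * q⁻¹ := by group
      rw [this, ec1, hq1]
    · have : q * c * u * (q * c)⁻¹ = q * (c * u * c⁻¹) * q⁻¹ := by group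
      rw [this, e5, hcz q hq.1, hq2, hzz]

/-- `X_z` is transitive on `TT` -/
theorem exists_xx (hc : Conn (TT R) B) {u v : M} (hu : u ∈ TT R) (hv : v ∈ TT R) :
    ∃ x ∈ xx V cf z, R.phi x • u = v := by
  have S := h.sys R hB
  let D : Set M := {w | w ∈ TT R ∧ ∃ x ∈ xx V cf z, R.phi x • u = w}
  have hD : TT R ⊆ D := by
    refine hc D (fun w hw => hw.1) ⟨u, hu, 1, one_mem _, by rw [R.phi_one', one_smul]⟩ ?_
    rintro w ⟨hw, x, hx, hxw⟩ w' hw' hww
    obtain ⟨s, hs, hs1⟩ := S.refl w hw w' hw' hww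
    obtain ⟨b, hb, hbz⟩ := h.exists_wt hs
    have hbx := wt_le_xx hs hb
    refine ⟨hw', b * x, mul_mem hbx hx, ?_⟩
    rw [R.phi_mul b (h.xx_le_cf hbx) x (h.xx_le_cf hx), mul_smul, hxw, h.phi_rf R hB hs hb hbz, hs1,
      rf_one (by rw [S.add_right, S.alt, hww, zero_add]), S.add_cancel]
  exact (hD hv).2

/-- **(3.2)** `C_z = X_z N_{C_z}(V)` -/
theorem cf_eq (hc : Conn (TT R) B) {c : G} (hcz : c ∈ cf z) : ∃ x ∈ xx V cf z, ∃ n ∈ cf z,
    n ∈ normalizer (V : Set G) ∧ c = x * n := by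
  obtain ⟨y, hy, hy1, hyz⟩ := h.ln.exists_y
  have hy0 : R.pi y ∈ TT R := pi_mem_TT R (mem_pts hy hy1 hyz)
  obtain ⟨x, hx, hxv⟩ := h.exists_xx R hB hc hy0 ((h.act R hB).smul_mem (R.phi c) _ hy0)
  have hxc := h.xx_le_cf hx
  refine ⟨x, hx, x⁻¹ * c, mul_mem (inv_mem hxc) hcz, ?_, by group⟩
  rw [← R.smul_v0_iff h.toFam hy hy1 hyz (mul_mem (inv_mem hxc) hcz), R.phi_mul _ (inv_mem hxc) c hcz, mul_smul,
    ← hxv, R.phi_inv hxc, inv_smul_smul]

end Tvf

/-! ### (3.3) -/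

/-- the intersection of all `K_p`, `p ∈ V#` -/
def ka (V : Subgroup G) (cf : G → Subgroup G) : Subgroup G where
  carrier := {u | ∀ p ∈ V, p ≠ 1 → u ∈ kk V cf p}
  mul_mem' := fun ha hb p hp hp1 => (kk V cf p).mul_mem (ha p hp hp1) (hb p hp hp1)
  one_mem' := fun p _ _ => (kk V cf p).one_mem
  inv_mem' := fun ha p hp hp1 => (kk V cf p).inv_mem (ha p hp hp1)

theorem norm_ka (h : Fam T V z cf) : normalizer (V : Set G) ≤ normalizer ((ka V cf : Subgroup G) : Set G) := by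
  refine le_normalizer_of_forall fun g hg u hu p hp hp1 => ?_
  have := h.conj_kk hg (h.conj_pt' hg hp) (Fam.conj_ne' hp1) (hu _ (h.conj_pt' hg hp) (Fam.conj_ne' hp1))
  have e : g * (g⁻¹ * p * g) * g⁻¹ = p := by group
  rwa [e] at this

/-- (NL) for arbitrary subgroups -/
theorem eq_bot_of_norm [Finite G] (h : Fam T V z cf) {E : Subgroup G} (hE : E ≤ cf z)
    (h1 : normalizer (V : Set G) ≤ normalizer (E : Set G)) (h2 : cf z ≤ normalizer (E : Set G)) : E = ⊥ := by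
  have ho2 : o2 E = ⊥ := h.nl (isPGroup_o2 E) (h1.trans (normalizer_le_normalizer_o2 E))
    (h2.trans (normalizer_le_normalizer_o2 E))
  have hc : E ≤ centralizer ((o2 (cf z) : Subgroup G) : Set G) := by
    intro c hc
    rw [mem_centralizer_iff]
    intro r hr
    have h3 : r * c * r⁻¹ * c⁻¹ ∈ E ⊓ o2 (cf z) := by
      refine mem_inf.mpr ⟨mul_mem (conj_mem_of_normalizer h2 (o2_le _ hr) hc) (inv_mem hc), ?_⟩
      have e : r * c * r⁻¹ * c⁻¹ = r * (c * r⁻¹ * c⁻¹) := by group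
      rw [e]
      exact mul_mem hr (conj_mem_of_normalizer (le_normalizer_o2 _) (hE hc) (inv_mem hr))
    have h4 : E ⊓ o2 (cf z) ≤ o2 E := by
      refine le_o2 inf_le_left ((isPGroup_o2 (cf z)).to_le inf_le_right) ?_
      refine le_normalizer_of_forall fun g hg x hx => ?_
      exact mem_inf.mpr ⟨mul_mem (mul_mem hg (mem_inf.mp hx).1) (inv_mem hg),
        conj_mem_of_normalizer (le_normalizer_o2 _) (hE hg) (mem_inf.mp hx).2⟩
    have h5 := h4 h3
    rw [ho2, mem_bot, mul_inv_eq_one] at h5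
    exact mul_inv_eq_iff_eq_mul.mp h5
  have h6 : IsPGroup 2 E := (isPGroup_o2 (cf z)).to_le ((le_inf hE hc).trans h.char2_z)
  rw [eq_bot_iff, ← ho2]
  exact le_o2 le_rfl h6 le_normalizer

namespace Tvf

variable (h : Tvf T V z cf) [Finite G] {M H : Type u} [AddCommGroup M] [Group H] [DistribMulAction H M]
  (R : MRep V cf z M H) {B : M → M → ZMod 2} (hB : IsB R B)
include h hB

theorem odd_kk_aux {y e : G} (hy : y ∈ V) (hy1 : y ≠ 1) (hyz : y ≠ z) (he : e ∈ kk V cf z)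
    (he' : e ∈ kk V cf (z * y)) (ho : Odd (orderOf e)) : e ∈ kk V cf y := by
  have hz := h.z_mem
  have hz1 := h.z_ne
  have hzy : z * y ∈ V := mul_mem hz hy
  have hzy1 : z * y ≠ 1 := h.mul_ne_one hy (Ne.symm hyz)
  have S := h.sys R hB
  have hyp := mem_pts (cf := cf) hy hy1 hyz
  obtain ⟨_, ⟨t, ht, rfl⟩, ht1⟩ := S.exists_nd (pi_mem_TT R hyp)
  obtain ⟨f, hf, ⟨b, hb, b', hb', -, -, hfb⟩, hf2⟩ := h.exists_f R hB ht
  have hfV := h.qq_le_normalizer hz hf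
  have e1 : f * (z * y) * f⁻¹ = y := by
    have h3 := (hf2 y (h.pt_mem hyp)).2 ht1
    have h4 : f * z = z * f := h.qq_p hf
    calc f * (z * y) * f⁻¹ = (f * z) * y * f⁻¹ := by group
      _ = (z * f) * y * f⁻¹ := by rw [h4]
      _ = z * (f * y * f⁻¹) := by group
      _ = y := by rw [h3, ← mul_assoc, h.ln.sq z hz, one_mul]
  have hfx : f ∈ xx V cf z := by
    rw [hfb]; exact mul_mem (wt_le_xx ht hb) (wt_le_xx (h.pt_z ht) hb')
  have h5 : f * e * f⁻¹ ∈ kk V cf y := by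
    have := h.conj_kk hfV hzy hzy1 he'
    rwa [e1] at this
  have h6 : (f * e * f⁻¹)⁻¹ * e ∈ pp V cf z := by
    have := h.kk_xx ((kk V cf z).inv_mem he) hfx
    have e2 : (f * e * f⁻¹)⁻¹ * e = (e⁻¹ * f * e⁻¹⁻¹ * f⁻¹)⁻¹ := by group
    rw [e2]
    exact inv_mem this
  have h7 : (f * e * f⁻¹)⁻¹ * e ∈ normalizer ((kk V cf y : Subgroup G) : Set G) :=
    h.cf_norm_kk (h.cent_le_cf hy hy1 (h.kk_le_cent (pp_le_kk h6)))
  have h8 := odd_mem_of_mul h.pp_two h5 h6 h7 (by rw [mul_inv_cancel_left]; exact ho)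
  rwa [mul_inv_cancel_left] at h8

/-- odd elements of `K_z ∩ K_y` are in all `K_p` -/
theorem odd_ka {y e : G} (hy : y ∈ V) (hy1 : y ≠ 1) (hyz : y ≠ z) (he : e ∈ kk V cf z)
    (he' : e ∈ kk V cf y) (ho : Odd (orderOf e)) : e ∈ ka V cf := by
  have hz := h.z_mem
  have hz1 := h.z_ne
  intro p hp hp1
  rcases h.ln.four hz hy hz1 hy1 (Ne.symm hyz) hp with e1 | e1 | e1 | e1
  · exact absurd e1 hp1
  · rw [e1]; exact he
  · rw [e1]; exact he'
  · rw [e1]
    refine h.odd_kk_aux R hB (mul_mem hz hy) (h.mul_ne_one hy (Ne.symm hyz)) (fun e2 => hy1 (by simpa using e2)) he ?_ ho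
    rw [← mul_assoc, h.ln.sq z hz, one_mul]
    exact he'

/-- odd elements of all `K_p` are trivial -/
theorem oddGen_ka (hc : Conn (TT R) B) : Cfsg.Agent.MinSimple.VModule.oddGen (ka V cf) = ⊥ := by
  have hz := h.z_mem
  have hz1 := h.z_ne
  set E := Cfsg.Agent.MinSimple.VModule.oddGen (ka V cf) with hE
  have hEk : E ≤ ka V cf := Cfsg.Agent.MinSimple.VModule.oddGen_le _
  have h1 : normalizer (V : Set G) ≤ normalizer (E : Set G) :=
    (norm_ka h.toFam).trans (Cfsg.Agent.MinSimple.VModule.normalizer_le_normalizer_oddGen _)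
  have hEz : E ≤ kk V cf z := fun e he => hEk he z hz hz1
  have hkV : kk V cf z ≤ normalizer (V : Set G) := h.kk_le_cent.trans (centralizer_le_normalizer _)
  have hodd : ∀ g c : G, Odd (orderOf c) → Odd (orderOf (g * c * g⁻¹)) := by
    intro g c hc
    have : orderOf (g * c * g⁻¹) = orderOf c := by
      rw [← MulAut.conj_apply]
      exact MulEquiv.orderOf_eq (MulAut.conj g) c
    rwa [this]
  have h2 : xx V cf z ≤ normalizer (E : Set G) := by
    refine le_normalizer_of_forall fun x hx e he => ?_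
    have key : E ≤ E.comap (MulAut.conj x).toMonoidHom := by
      refine (closure_le _).mpr ?_
      rintro e ⟨he, ho⟩
      change x * e * x⁻¹ ∈ E
      have heE : e ∈ E := Cfsg.Agent.MinSimple.VModule.mem_oddGen he ho
      have hez := he z hz hz1
      have h3 := h.kk_xx ((kk V cf z).inv_mem hez) hx
      have e1 : x * e * x⁻¹ = e * (e⁻¹ * x * e⁻¹⁻¹ * x⁻¹) := by group
      have ho' := hodd x e ho
      rw [e1] at ho' ⊢
      exact odd_mem_of_mul h.pp_two heE h3 (h1 (hkV (pp_le_kk h3))) ho'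
    exact key he
  refine eq_bot_of_norm h.toFam (hEz.trans h.kk_le_cf) h1 ?_
  intro c hcz
  obtain ⟨x, hx, n, -, hn, rfl⟩ := h.cf_eq R hB hc hcz
  exact mul_mem (h2 hx) (h1 hn)

/-- **(3.3)** `K_p ∩ K_q` is a 2-group. -/
theorem kk_inf_two (hc : Conn (TT R) B) {p q : G} (hp : p ∈ V) (hp1 : p ≠ 1) (hq : q ∈ V) (hq1 : q ≠ 1)
    (hqp : q ≠ p) : IsPGroup 2 (kk V cf p ⊓ kk V cf q : Subgroup G) := by
  have hz := h.z_mem
  have hz1 := h.z_ne
  obtain ⟨y, hy, hy1, hyz⟩ := h.ln.exists_y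
  obtain ⟨g, hg, e1, e2⟩ := h.trans2 hp hp1 hq hq1 hqp hz hz1 hy hy1 hyz
  -- odd elements of `K_p ∩ K_q` are trivial
  have key : ∀ e ∈ kk V cf p, e ∈ kk V cf q → Odd (orderOf e) → e = 1 := by
    intro e he he' ho
    have h1 := h.conj_kk hg hp hp1 he
    have h2 := h.conj_kk hg hq hq1 he'
    rw [e1] at h1
    rw [e2] at h2
    have ho' : Odd (orderOf (g * e * g⁻¹)) := by
      have : orderOf (g * e * g⁻¹) = orderOf e := by
        rw [← MulAut.conj_apply]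
        exact MulEquiv.orderOf_eq (MulAut.conj g) e
      rwa [this]
    have h3 := Cfsg.Agent.MinSimple.VModule.mem_oddGen (h.odd_ka R hB hy hy1 hyz h1 h2 ho') ho'
    rw [h.oddGen_ka R hB hc, mem_bot] at h3
    exact conj_eq_one_iff.mp h3
  rintro ⟨c, hcp, hcq⟩
  obtain ⟨k, m, hm, hkm⟩ := Nat.exists_eq_two_pow_mul_odd (n := orderOf c) (orderOf_pos _).ne'
  refine ⟨k, Subtype.ext ?_⟩
  change c ^ 2 ^ k = 1
  have h1 : orderOf (c ^ 2 ^ k) = m := by
    rw [orderOf_pow' c (by positivity), hkm, Nat.gcd_eq_right (Dvd.intro _ rfl)]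
    exact Nat.mul_div_cancel_left m (by positivity)
  exact key _ (pow_mem hcp _) (pow_mem hcq _) (by rw [h1]; exact hm)

end Tvf

end Cfsg.Agent.Omega.NO3S.TV
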