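import Cfsg.Agent.Omega.NO3S.TV.End
import Cfsg.Agent.Omega.NO3S.TwoOne.Main

/-!
# NO-3a.4, transvection types (helper311's text #16747): the end for `CompP`

* `tvf_of_one` : the full family is a transvection family;
* `false_of_cenFit` : `A` centralises all nilpotent normal subgroups of `H` ⟹ contradiction, from the family statement.
-/

set_option autoImplicit false
set_option linter.unusedSectionVars false

namespace Cfsg.Agent.Omega.NO3S.TV

open Subgroup Cfsg Cfsg.Agent.ZN Cfsg.Agent.MinSimple.Geo Cfsg.Agent.Omega.CaseL Cfsg.Agent.Omega.NO3S.Fit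
open Cfsg.Agent.Omega.NO3S.TwoOne (One cg CenFit)

universe u

variable {G : Type u} [Group G] {T V : Subgroup G} {z : G}

/-- the full family of a flag of transvection type -/
theorem tvf_of_one [Finite G] (ho : One T V z) (h1 : Fam.One1 V cg)
    (h2 : ∀ p ∈ V, p ≠ 1 → ∀ q ∈ V, q ≠ 1 → q ≠ p → ∀ a ∈ ww V cg p, ∀ b ∈ ww V cg q, a * b * a⁻¹ * b⁻¹ ∈ V) :
    Tvf T V z cg :=
  ⟨ho.fam, h1, h2⟩

/-- an abelian group is nilpotent -/
theorem isNilpotent_of_comm {H : Type*} [Group H] {N : Subgroup H} (h : ∀ a ∈ N, ∀ b ∈ N, a * b = b * a) :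
    Group.IsNilpotent N := by
  letI : CommGroup N := { (inferInstance : Group N) with
    mul_comm := fun a b => Subtype.ext (h a a.2 b b.2) }
  exact CommGroup.isNilpotent

/-- **the transvection types are impossible in `CompP`**, from the family statement -/
theorem false_of_cenFit [Finite G] (h : Tvf T V z cg) {M H : Type u} [AddCommGroup M] [Group H]
    [DistribMulAction H M] [FaithfulSMul H M] (R : MRep V cg z M H) (hc : CenFit R) {y : G} (hy : y ∈ V)
    (hy1 : y ≠ 1) (hyz : y ≠ z)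
    (hM : ∀ cf' : G → Subgroup G, Tvf T V z cf' → (∀ p ∈ V, p ≠ 1 → cf' p ≤ cg p) →
      ∀ (M' H' : Type u) [AddCommGroup M'] [Group H'] [DistribMulAction H' M'] [FaithfulSMul H' M']
        (R' : MRep V cf' z M' H') (B' : M' → M' → ZMod 2), IsB R' B' → Conn (TT R') B' →
        ∀ t ∈ pts V cf' z, B' (R'.pi t) (R'.pi y) = 0 → R'.pi t = R'.pi y) : False := by
  obtain ⟨N, hN, hN1, hN2⟩ := h.exists_abelian_of R hy hy1 hyz hM
  obtain ⟨w, hw, hwz⟩ := h.exists_not_qq hy hy1 h.z_mem h.z_ne (Ne.symm hyz)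
  obtain ⟨n, hn, hne⟩ := hN2 w hw hwz
  have hle : ww V cg y ≤ cg z := h.ww_le_cf' hy hy1 h.z_mem h.z_ne
  have h1 : R.phi w ∈ R.img (ww V cg y) := (R.mem_img hle).mpr ⟨w, hw, rfl⟩
  exact hne (mem_centralizer_iff.mp (hc N hN (isNilpotent_of_comm hN1) y hy hy1 hyz h1) n hn).symm

end Cfsg.Agent.Omega.NO3S.TV
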