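import Mathlib.GroupTheory.Subgroup.Centralizer
import Mathlib.Algebra.Group.Subgroup.Pointwise
import Mathlib.Data.ZMod.Basic
import Mathlib.Tactic

/-!
# NO-3S, `q = 2`, `n = 1`, transvection types (helper311's text #16747): section 8 (helper918, #17106)

Abstract form of the situation `r = 0` (all elements of `W_x - ⟨x⟩` are points on `x`).  `R x y` : `x, y` are two points
of a line, `W x y` : the group `W_y` of the line `⟨x, y⟩` AT THE POINT `y`.

* `Dat R W` : the hypotheses;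
* `bf W x a m : ZMod 2` : the symplectic form on `W_x / ⟨x⟩`;
* `Dat.false` : there is no such configuration with `D_x > V`.
-/

set_option autoImplicit false

namespace Cfsg.Agent.Omega.NO3S.TV.Eight

open Subgroup

universe u

variable {G : Type u} [Group G]

/-- `a` centralizes `A` -/
def Cz (A : Subgroup G) (a : G) : Prop := ∀ b ∈ A, a * b = b * a

/-- the line `⟨x, y⟩` -/
def ln (x y : G) : Subgroup G := closure {x, y}

/-- **The hypotheses of section 8.** -/
structure Dat (R : G → G → Prop) (W : G → G → Subgroup G) : Prop where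
  symm : ∀ {x y : G}, R x y → R y x
  third : ∀ {x y : G}, R x y → R x (x * y)
  ne : ∀ {x y : G}, R x y → x ≠ y
  ne1 : ∀ {x y : G}, R x y → x ≠ 1
  sq : ∀ {x y : G}, R x y → ∀ a ∈ W x y, a * a = 1
  mem : ∀ {x y : G}, R x y → x ∈ W x y ∧ y ∈ W x y
  w_third : ∀ {x y : G}, R x y → W (x * y) y = W x y
  inter : ∀ {x y : G}, R x y → ∀ a, a ∈ W x y → a ∈ W y x → a = 1 ∨ a = x ∨ a = y ∨ a = x * y
  cm : ∀ {x y : G}, R x y → ∀ a ∈ W x y, ∀ b ∈ W y x, a * b * a⁻¹ * b⁻¹ = 1 ∨ a * b * a⁻¹ * b⁻¹ = x * y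
  idx : ∀ {x y : G}, R x y → ∀ a ∈ W y x, ∀ b ∈ W y x, ¬ Cz (W x y) a → ¬ Cz (W x y) b → Cz (W x y) (a * b)
  nc : ∀ {x y : G}, R x y → ∃ a ∈ W y x, ¬ Cz (W x y) a
  pt : ∀ {x y : G}, R x y → ∀ m ∈ W y x, m ≠ 1 → m ≠ x → R x m ∧ W m x = W y x
  perp : ∀ {x y : G}, R x y → ∀ m ∈ W y x, m ≠ 1 → m ≠ x → Cz (W x y) m → Cz (W x m) y
  conj : ∀ {x y : G} (g : G), R x y → R (g * x * g⁻¹) (g * y * g⁻¹)
  wconj : ∀ {x y : G} (g : G), R x y → ∀ a ∈ W x y, g * a * g⁻¹ ∈ W (g * x * g⁻¹) (g * y * g⁻¹)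
  gg : ∀ {x y : G}, R x y → ∀ c : G, c * x = x * c → c * y = y * c →
    (∀ d ∈ W y x, Cz (W x y) d → c * d * c⁻¹ * d⁻¹ ∈ ln x y) →
      ∀ d ∈ W x y, Cz (W y x) d → c * d * c⁻¹ * d⁻¹ ∈ ln x y

open Classical in
/-- the form on `W_x / ⟨x⟩` -/
noncomputable def bf (W : G → G → Subgroup G) (x a m : G) : ZMod 2 :=
  if m = 1 ∨ m = x ∨ Cz (W x m) a then 0 else 1

/-- `a ^ i`, `i ∈ F₂` -/
def pw (a : G) (i : ZMod 2) : G := if i = 0 then 1 else a

@[simp] theorem pw_zero (a : G) : pw a 0 = 1 := by simp [pw]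
@[simp] theorem pw_one (a : G) : pw a 1 = a := by simp [pw]

theorem pw_mem {A : Subgroup G} {a : G} (ha : a ∈ A) (i : ZMod 2) : pw a i ∈ A := by
  unfold pw
  split
  · exact one_mem _
  · exact ha

theorem z2 (i : ZMod 2) : i = 0 ∨ i = 1 := by
  revert i; decide

theorem z2_add_self (i : ZMod 2) : i + i = 0 := by
  revert i; decide

theorem z2_ne {i : ZMod 2} (h : i ≠ 0) : i = 1 := (z2 i).resolve_left h

theorem Cz.mul {A : Subgroup G} {a b : G} (ha : Cz A a) (hb : Cz A b) : Cz A (a * b) := by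
  intro c hc
  calc a * b * c = a * (b * c) := by group
    _ = a * c * b := by rw [hb c hc]; group
    _ = c * (a * b) := by rw [ha c hc]; group

theorem Cz.one (A : Subgroup G) : Cz A 1 := fun c _ => by simp

theorem Cz.inv {A : Subgroup G} {a : G} (ha : Cz A a) : Cz A a⁻¹ := by
  intro c hc
  have := ha c hc
  calc a⁻¹ * c = a⁻¹ * (c * a) * a⁻¹ := by group
    _ = a⁻¹ * (a * c) * a⁻¹ := by rw [this]
    _ = c * a⁻¹ := by group

theorem comm_of_sq {A : Subgroup G} (h : ∀ a ∈ A, a * a = 1) {a b : G} (ha : a ∈ A) (hb : b ∈ A) :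
    a * b = b * a := by
  have h1 := h a ha
  have h2 := h b hb
  have h3 := h _ (A.mul_mem ha hb)
  calc a * b = (b * b) * (a * b) * (a * a) := by rw [h1, h2]; group
    _ = b * (b * a * (b * a)) * a := by group
    _ = b * (b * (a * b * (a * b)) * b⁻¹) * a := by group
    _ = b * a := by rw [h3]; group

namespace Dat

variable {R : G → G → Prop} {W : G → G → Subgroup G}

section basic

variable (S : Dat R W) {x y : G}
include S

theorem ne1' (h : R x y) : y ≠ 1 := S.ne1 (S.symm h)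

theorem inv_eq (h : R x y) {a : G} (ha : a ∈ W x y) : a⁻¹ = a := by
  rw [inv_eq_iff_mul_eq_one]; exact S.sq h a ha

theorem comm (h : R x y) {a b : G} (ha : a ∈ W x y) (hb : b ∈ W x y) : a * b = b * a :=
  comm_of_sq (S.sq h) ha hb

theorem xy_comm (h : R x y) : x * y = y * x := S.comm h (S.mem h).1 (S.mem h).2

theorem xx (h : R x y) : x * x = 1 := S.sq h x (S.mem h).1

theorem yy (h : R x y) : y * y = 1 := S.sq h y (S.mem h).2

/-- `R y s`, `s = x y` -/
theorem third' (h : R x y) : R y (x * y) := by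
  have := S.third (S.symm h)
  rwa [← S.xy_comm h] at this

theorem x_third (h : R x y) : x * (x * y) = y := by rw [← mul_assoc, S.xx h, one_mul]

theorem y_third (h : R x y) : y * (x * y) = x := by
  rw [S.xy_comm h, ← mul_assoc, S.yy h, one_mul]

/-- `W_s` -/
theorem w_s (h : R x y) : W y (x * y) = W x (x * y) := by
  have := S.w_third (S.third h)
  rwa [S.x_third h] at this

/-- `W_x` -/
theorem w_x (h : R x y) : W (x * y) x = W y x := by
  have := S.w_third (S.symm h)
  rwa [← S.xy_comm h] at this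

theorem mem_ln (h : R x y) {a : G} : a ∈ ln x y ↔ a = 1 ∨ a = x ∨ a = y ∨ a = x * y := by
  have hxy := S.xy_comm h
  have hxx := S.xx h
  have hyy := S.yy h
  constructor
  · intro ha
    have hle : ln x y ≤
        { carrier := {a | a = 1 ∨ a = x ∨ a = y ∨ a = x * y}
          mul_mem' := by
            rintro a b (rfl | rfl | rfl | rfl) (rfl | rfl | rfl | rfl)
            · simp
            · simp
            · simp
            · simp
            · simp
            · left; exact hxx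
            · simp
            · right; right; left; rw [← mul_assoc, hxx, one_mul]
            · simp
            · right; right; right; exact hxy.symm
            · left; exact hyy
            · right; left; rw [hxy, ← mul_assoc, hyy, one_mul]
            · simp
            · right; right; left; rw [hxy, mul_assoc, hxx, mul_one]
            · right; left; rw [mul_assoc, hyy, mul_one]
            · left
              calc x * y * (x * y) = x * (y * x) * y := by group
                _ = (x * x) * (y * y) := by rw [← hxy]; group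
                _ = 1 := by rw [hxx, hyy, mul_one]
          one_mem' := Or.inl rfl
          inv_mem' := by
            rintro a (rfl | rfl | rfl | rfl)
            · simp
            · right; left; exact inv_eq_of_mul_eq_one_left hxx
            · right; right; left; exact inv_eq_of_mul_eq_one_left hyy
            · right; right; right
              rw [mul_inv_rev, inv_eq_of_mul_eq_one_left hxx, inv_eq_of_mul_eq_one_left hyy, hxy] } := by
      refine (closure_le _).mpr ?_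
      rintro _ (rfl | rfl)
      · exact Or.inr (Or.inl rfl)
      · exact Or.inr (Or.inr (Or.inl rfl))
    exact hle ha
  · have h1 : x ∈ ln x y := subset_closure (Or.inl rfl)
    have h2 : y ∈ ln x y := subset_closure (Or.inr rfl)
    rintro (rfl | rfl | rfl | rfl)
    · exact one_mem _
    · exact h1
    · exact h2
    · exact mul_mem h1 h2

end basic

/-! ### the form -/

section form

variable (S : Dat R W) {x y : G}
include S

theorem bf_zero_iff (h : R x y) {a : G} : bf W x a y = 0 ↔ Cz (W x y) a := by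
  unfold bf
  have h1 := S.ne1' h
  have h2 := (S.ne h).symm
  constructor
  · intro e
    by_contra hc
    rw [if_neg (by simp [h1, h2, hc])] at e
    exact one_ne_zero e
  · intro hc
    rw [if_pos (Or.inr (Or.inr hc))]

theorem bf_one_iff (h : R x y) {a : G} : bf W x a y = 1 ↔ ¬ Cz (W x y) a := by
  rw [← S.bf_zero_iff h]
  constructor
  · intro e; rw [e]; exact one_ne_zero
  · exact z2_ne

omit S in
theorem bf_one_right (x a : G) : bf W x a 1 = 0 := by simp [bf]

omit S in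
theorem bf_x_right (x a : G) : bf W x a x = 0 := by simp [bf]

/-- a point of `W_x` -/
theorem pt_cases (h : R x y) {m : G} (hm : m ∈ W y x) : m = 1 ∨ m = x ∨ (R x m ∧ W m x = W y x) := by
  by_cases h1 : m = 1
  · exact Or.inl h1
  by_cases h2 : m = x
  · exact Or.inr (Or.inl h2)
  exact Or.inr (Or.inr (S.pt h m hm h1 h2))

theorem bf_one_left (h : R x y) {m : G} (hm : m ∈ W y x) : bf W x 1 m = 0 := by
  rcases S.pt_cases h hm with rfl | rfl | ⟨h1, -⟩
  · exact bf_one_right _ _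
  · exact bf_x_right _ _
  · exact (S.bf_zero_iff h1).mpr (Cz.one _)

theorem bf_x_left (h : R x y) {m : G} (hm : m ∈ W y x) : bf W x x m = 0 := by
  rcases S.pt_cases h hm with rfl | rfl | ⟨h1, -⟩
  · exact bf_one_right _ _
  · exact bf_x_right _ _
  · exact (S.bf_zero_iff h1).mpr fun b hb => S.comm h1 (S.mem h1).1 hb

theorem bf_self (h : R x y) {m : G} (hm : m ∈ W y x) : bf W x m m = 0 := by
  rcases S.pt_cases h hm with rfl | rfl | ⟨h1, -⟩
  · exact bf_one_right _ _
  · exact bf_x_right _ _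
  · exact (S.bf_zero_iff h1).mpr fun b hb => S.comm h1 (S.mem h1).2 hb

theorem bf_symm (h : R x y) {a m : G} (ha : a ∈ W y x) (hm : m ∈ W y x) : bf W x a m = bf W x m a := by
  rcases S.pt_cases h hm with rfl | rfl | ⟨h1, e1⟩
  · rw [bf_one_right, S.bf_one_left h ha]
  · rw [bf_x_right, S.bf_x_left h ha]
  rcases S.pt_cases h ha with rfl | rfl | ⟨h2, e2⟩
  · rw [bf_one_right, S.bf_one_left h hm]
  · rw [bf_x_right, S.bf_x_left h hm]
  have key : ∀ a m : G, R x a → R x m → W a x = W m x → bf W x a m = 0 → bf W x m a = 0 := by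
    intro a m h2 h1 e h3
    rw [S.bf_zero_iff h1] at h3
    rw [S.bf_zero_iff h2]
    refine S.perp h1 a ?_ (S.ne1' h2) (S.ne h2).symm h3
    rw [← e]
    exact (S.mem (S.symm h2)).1
  rcases z2 (bf W x a m) with h3 | h3
  · rw [h3, key a m h2 h1 (by rw [e1, e2]) h3]
  · rw [h3]
    symm
    refine z2_ne fun h4 => ?_
    rw [key m a h1 h2 (by rw [e1, e2]) h4] at h3
    exact zero_ne_one h3

theorem bf_mul_left (h : R x y) {a b m : G} (ha : a ∈ W y x) (hb : b ∈ W y x) (hm : m ∈ W y x) :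
    bf W x (a * b) m = bf W x a m + bf W x b m := by
  rcases S.pt_cases h hm with rfl | rfl | ⟨h1, e1⟩
  · simp [bf_one_right]
  · simp [bf_x_right]
  rw [← e1] at ha hb
  have hinv : ∀ c ∈ W m x, c⁻¹ = c := fun c hc => S.inv_eq (S.symm h1) hc
  rcases z2 (bf W x a m) with h2 | h2 <;> rcases z2 (bf W x b m) with h3 | h3
  · rw [h2, h3, add_zero]
    rw [S.bf_zero_iff h1] at h2 h3 ⊢
    exact h2.mul h3
  · rw [h2, h3, zero_add]
    rw [S.bf_zero_iff h1] at h2
    rw [S.bf_one_iff h1] at h3 ⊢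
    intro h4
    apply h3
    have := h2.inv.mul h4
    rwa [inv_mul_cancel_left] at this
  · rw [h2, h3, add_zero]
    rw [S.bf_zero_iff h1] at h3
    rw [S.bf_one_iff h1] at h2 ⊢
    intro h4
    apply h2
    have := h4.mul h3.inv
    rwa [mul_inv_cancel_right] at this
  · rw [h2, h3]
    rw [S.bf_one_iff h1] at h2 h3
    rw [(S.bf_zero_iff h1).mpr (S.idx h1 a ha b hb h2 h3)]
    decide

theorem bf_mul_right (h : R x y) {a b m : G} (ha : a ∈ W y x) (hb : b ∈ W y x) (hm : m ∈ W y x) :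
    bf W x m (a * b) = bf W x m a + bf W x m b := by
  rw [S.bf_symm h hm (mul_mem ha hb), S.bf_mul_left h ha hb hm, S.bf_symm h ha hm, S.bf_symm h hb hm]

/-- the radical is `⟨x⟩` -/
theorem rad (h : R x y) {m : G} (hm : m ∈ W y x) (h1 : m ≠ 1) (hx : m ≠ x) : ∃ a ∈ W y x, bf W x a m = 1 := by
  obtain ⟨h2, e⟩ := S.pt h m hm h1 hx
  obtain ⟨a, ha, hc⟩ := S.nc h2
  exact ⟨a, by rwa [← e], (S.bf_one_iff h2).mpr hc⟩

theorem rad' (h : R x y) {m : G} (hm : m ∈ W y x) (h0 : ∀ a ∈ W y x, bf W x a m = 0) : m = 1 ∨ m = x := by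
  by_contra hc
  push Not at hc
  obtain ⟨a, ha, h1⟩ := S.rad h hm hc.1 hc.2
  rw [h0 a ha] at h1
  exact zero_ne_one h1

theorem wconj_iff (g : G) (h : R x y) {a : G} : g * a * g⁻¹ ∈ W (g * x * g⁻¹) (g * y * g⁻¹) ↔ a ∈ W x y := by
  refine ⟨fun h1 => ?_, fun h1 => S.wconj g h a h1⟩
  have h2 := S.wconj g⁻¹ (S.conj g h) _ h1
  have e : ∀ a : G, g⁻¹ * (g * a * g⁻¹) * g⁻¹⁻¹ = a := fun a => by group
  rwa [e, e, e] at h2

theorem bf_conj (g : G) (h : R x y) {a m : G} (hm : m ∈ W y x) :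
    bf W (g * x * g⁻¹) (g * a * g⁻¹) (g * m * g⁻¹) = bf W x a m := by
  rcases S.pt_cases h hm with rfl | rfl | ⟨h1, e1⟩
  · have e : g * 1 * g⁻¹ = 1 := by group
    rw [e, bf_one_right, bf_one_right]
  · rw [bf_x_right, bf_x_right]
  have key : Cz (W (g * x * g⁻¹) (g * m * g⁻¹)) (g * a * g⁻¹) ↔ Cz (W x m) a := by
    constructor
    · intro h2 b hb
      have := h2 _ (S.wconj g h1 b hb)
      calc a * b = g⁻¹ * (g * a * g⁻¹ * (g * b * g⁻¹)) * g := by group
        _ = g⁻¹ * (g * b * g⁻¹ * (g * a * g⁻¹)) * g := by rw [this]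
        _ = b * a := by group
    · intro h2 b hb
      have h3 : g⁻¹ * b * g ∈ W x m := by
        rw [← S.wconj_iff g h1]
        have e : g * (g⁻¹ * b * g) * g⁻¹ = b := by group
        rwa [e]
      have := h2 _ h3
      calc g * a * g⁻¹ * b = g * (a * (g⁻¹ * b * g)) * g⁻¹ := by group
        _ = g * ((g⁻¹ * b * g) * a) * g⁻¹ := by rw [this]
        _ = b * (g * a * g⁻¹) := by group
  rcases z2 (bf W x a m) with h2 | h2
  · rw [h2, S.bf_zero_iff (S.conj g h1), key, ← S.bf_zero_iff h1, h2]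
  · rw [h2, S.bf_one_iff (S.conj g h1), key, ← S.bf_one_iff h1, h2]

/-- the commutator formula -/
theorem cm_eq (h : R x y) {a b : G} (ha : a ∈ W y x) (hb : b ∈ W x y) :
    b * a * b⁻¹ = pw (x * y) (bf W x a y * bf W y b x) * a := by
  have hs := S.symm h
  rcases z2 (bf W x a y) with h1 | h1
  · rw [h1, zero_mul, pw_zero, one_mul]
    rw [S.bf_zero_iff h] at h1
    rw [← h1 b hb]; group
  rcases z2 (bf W y b x) with h2 | h2
  · rw [h2, mul_zero, pw_zero, one_mul]
    rw [S.bf_zero_iff hs] at h2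
    rw [h2 a ha]; group
  rw [h1, h2, mul_one, pw_one]
  rcases S.cm h b hb a ha with e | e
  · exfalso
    have hab : b * a = a * b := by
      calc b * a = (b * a * b⁻¹ * a⁻¹) * (a * b) := by group
        _ = a * b := by rw [e, one_mul]
    rw [S.bf_one_iff h] at h1
    rw [S.bf_one_iff hs] at h2
    apply h1
    intro c hc
    by_cases hcc : Cz (W y x) c
    · exact (hcc a ha).symm
    · have h3 := S.idx hs b hb c hc h2 hcc a ha
      have h4 : b * (a * c) = b * (c * a) := by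
        calc b * (a * c) = (b * a) * c := by group
          _ = a * (b * c) := by rw [hab]; group
          _ = (b * c) * a := h3.symm
          _ = b * (c * a) := by group
      exact mul_left_cancel h4
  · calc b * a * b⁻¹ = (b * a * b⁻¹ * a⁻¹) * a := by group
      _ = x * y * a := by rw [e]

/-! ### double perpendiculars -/

theorem bf_pw_right (h : R x y) {a m : G} (hm : m ∈ W y x) (i : ZMod 2) :
    bf W x m (pw a i) = i * bf W x m a := by
  rcases z2 i with rfl | rfl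
  · rw [pw_zero, zero_mul, S.bf_symm h hm (one_mem _), S.bf_one_left h hm]
  · rw [pw_one, one_mul]

theorem bf_pw_left (h : R x y) {a m : G} (ha : a ∈ W y x) (hm : m ∈ W y x) (i : ZMod 2) :
    bf W x (pw a i) m = i * bf W x a m := by
  rw [S.bf_symm h (pw_mem ha i) hm, S.bf_pw_right h hm, S.bf_symm h hm ha]

/-- `b ∉ ⟨x, a⟩`: some `c ⊥ a` is not `⊥ b` -/
theorem dp1 (h : R x y) {a b : G} (ha : a ∈ W y x) (hb : b ∈ W y x)
    (h0 : ∀ c ∈ W y x, bf W x c a = 0 → bf W x c b = 0) : b = 1 ∨ b = x ∨ b = a ∨ b = x * a := by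
  by_cases h1 : ∀ c ∈ W y x, bf W x c b = 0
  · rcases S.rad' h hb h1 with e | e
    · exact Or.inl e
    · exact Or.inr (Or.inl e)
  push Not at h1
  obtain ⟨c, hc, hcb⟩ := h1
  have hcb := z2_ne hcb
  have hca : bf W x c a = 1 := by
    refine z2_ne fun e => ?_
    rw [h0 c hc e] at hcb
    exact zero_ne_one hcb
  have h2 : ∀ d ∈ W y x, bf W x d (b * a) = 0 := by
    intro d hd
    rw [S.bf_mul_right h hb ha hd]
    rcases z2 (bf W x d a) with h3 | h3
    · rw [h3, h0 d hd h3, add_zero]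
    · have h4 : bf W x (d * c) a = 0 := by
        rw [S.bf_mul_left h hd hc ha, h3, hca]; decide
      have h5 := h0 _ (mul_mem hd hc) h4
      rw [S.bf_mul_left h hd hc hb, hcb] at h5
      rw [h3, h5]
  have haa := S.inv_eq (S.symm h) ha
  rcases S.rad' h (mul_mem hb ha) h2 with e | e
  · right; right; left
    rw [← haa]; exact eq_inv_of_mul_eq_one_left e
  · right; right; right
    rw [← haa]; exact eq_mul_inv_of_mul_eq e

theorem dp2 (h : R x y) {a a' b u u' : G} (ha : a ∈ W y x) (ha' : a' ∈ W y x) (hb : b ∈ W y x)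
    (hu : u ∈ W y x) (hu' : u' ∈ W y x) (h1 : bf W x u a = 1) (h2 : bf W x u a' = 0) (h3 : bf W x u' a = 0)
    (h4 : bf W x u' a' = 1) (h0 : ∀ c ∈ W y x, bf W x c a = 0 → bf W x c a' = 0 → bf W x c b = 0) :
    b * pw a (bf W x u b) * pw a' (bf W x u' b) = 1 ∨ b * pw a (bf W x u b) * pw a' (bf W x u' b) = x := by
  have hp := pw_mem ha (bf W x u b)
  have hp' := pw_mem ha' (bf W x u' b)
  refine S.rad' h (mul_mem (mul_mem hb hp) hp') fun c hc => ?_
  rw [S.bf_mul_right h (mul_mem hb hp) hp' hc, S.bf_mul_right h hb hp hc, S.bf_pw_right h hc,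
    S.bf_pw_right h hc]
  have hu1 := pw_mem hu (bf W x c a)
  have hu2 := pw_mem hu' (bf W x c a')
  have e1 : bf W x (c * pw u (bf W x c a) * pw u' (bf W x c a')) a = 0 := by
    rw [S.bf_mul_left h (mul_mem hc hu1) hu2 ha, S.bf_mul_left h hc hu1 ha, S.bf_pw_left h hu ha,
      S.bf_pw_left h hu' ha, h1, h3, mul_one, mul_zero, add_zero]
    exact z2_add_self _
  have e2 : bf W x (c * pw u (bf W x c a) * pw u' (bf W x c a')) a' = 0 := by
    rw [S.bf_mul_left h (mul_mem hc hu1) hu2 ha', S.bf_mul_left h hc hu1 ha', S.bf_pw_left h hu ha',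
      S.bf_pw_left h hu' ha', h2, h4, mul_one, mul_zero, add_zero]
    exact z2_add_self _
  have e3 := h0 _ (mul_mem (mul_mem hc hu1) hu2) e1 e2
  rw [S.bf_mul_left h (mul_mem hc hu1) hu2 hb, S.bf_mul_left h hc hu1 hb, S.bf_pw_left h hu hb,
    S.bf_pw_left h hu' hb] at e3
  rw [← e3]
  ring

/-! ### elements of `Q_x` -/

/-- (1.6) -/
theorem exists_f (h : R x y) : ∃ f, f * x = x * f ∧ ∀ a ∈ W y x, f * a * f⁻¹ = pw x (bf W x a y) * a := by
  obtain ⟨b, hb, hb1⟩ := S.nc (S.symm h)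
  rw [← S.bf_one_iff (S.symm h)] at hb1
  have h2 := S.third h
  obtain ⟨c, hc, hc1⟩ := S.nc (S.symm h2)
  rw [← S.bf_one_iff (S.symm h2)] at hc1
  have hbx := S.comm h hb (S.mem h).1
  have hcx := S.comm h2 hc (S.mem h2).1
  have hby := S.comm h hb (S.mem h).2
  have hyX : y ∈ W y x := (S.mem (S.symm h)).1
  have hxX : x ∈ W y x := (S.mem (S.symm h)).2
  refine ⟨b * c, ?_, fun a ha => ?_⟩
  · calc b * c * x = b * (c * x) := by group
      _ = b * x * c := by rw [hcx]; group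
      _ = x * (b * c) := by rw [hbx]; group
  have ha' : a ∈ W (x * y) x := by rw [S.w_x h]; exact ha
  have e1 := S.cm_eq h2 ha' hc
  have e2 := S.cm_eq h ha hb
  rw [hc1, mul_one, S.x_third h, S.bf_mul_right h hxX hyX ha, bf_x_right, zero_add] at e1
  rw [hb1, mul_one] at e2
  rcases z2 (bf W x a y) with h3 | h3
  · rw [h3, pw_zero, one_mul] at e1 e2 ⊢
    calc b * c * a * (b * c)⁻¹ = b * (c * a * c⁻¹) * b⁻¹ := by group
      _ = a := by rw [e1, e2]
  · rw [h3, pw_one] at e1 e2 ⊢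
    calc b * c * a * (b * c)⁻¹ = b * (c * a * c⁻¹) * b⁻¹ := by group
      _ = (b * y) * a * b⁻¹ := by rw [e1]; group
      _ = y * (b * a * b⁻¹) := by rw [hby]; group
      _ = (y * (x * y)) * a := by rw [e2]; group
      _ = x * a := by rw [S.y_third h]

end form

/-- `f` interchanges `x` and `y` and acts trivially on `W_s / ⟨s⟩` -/
structure Sw (W : G → G → Subgroup G) (x y f : G) : Prop where
  fx : f * x * f⁻¹ = y
  fy : f * y * f⁻¹ = x
  act : ∀ a ∈ W x (x * y), ∃ i : ZMod 2, f * a * f⁻¹ = pw (x * y) i * a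

section sw

variable (S : Dat R W) {x y : G}
include S

theorem exists_sw (h : R x y) : ∃ f, Sw W x y f := by
  have hs := S.third h
  have hs' := S.symm hs
  have hx : x ∈ W x (x * y) := (S.mem hs).1
  have hsm : x * y ∈ W x (x * y) := (S.mem hs).2
  obtain ⟨t, ht, ht1⟩ := S.rad hs' hx (S.ne1 h) (S.ne hs)
  rcases S.pt_cases hs' ht with rfl | rfl | ⟨h2, e⟩
  · rw [S.bf_one_left hs' hx] at ht1; exact absurd ht1 zero_ne_one
  · rw [S.bf_x_left hs' hx] at ht1; exact absurd ht1 zero_ne_one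
  obtain ⟨f, hf, hf1⟩ := S.exists_f h2
  rw [e] at hf1
  have e1 : f * x * f⁻¹ = y := by
    rw [hf1 x hx, S.bf_symm hs' hx ht, ht1, pw_one]
    calc x * y * x = x * (y * x) := by group
      _ = y := by rw [← S.xy_comm h, S.x_third h]
  refine ⟨f, e1, ?_, fun a ha => ⟨_, hf1 a ha⟩⟩
  have e2 : f * (x * y) * f⁻¹ = x * y := by rw [hf]; group
  have e3 : f * y * f⁻¹ = (f * x * f⁻¹)⁻¹ * (f * (x * y) * f⁻¹) := by group
  rw [e3, e1, e2, ← mul_assoc]
  have : y⁻¹ = y := inv_eq_of_mul_eq_one_left (S.yy h)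
  rw [this, mul_assoc, S.y_third h]

end sw

/-! ### triples `(x, y; m)`: `m ∈ D_x - V` -/

section lemA

variable (S : Dat R W) {x y : G}
include S

/-- `f` maps `W_x` to `W_y` -/
theorem Sw.map (h : R x y) {f : G} (F : Sw W x y f) {a : G} : f * a * f⁻¹ ∈ W x y ↔ a ∈ W y x := by
  have := S.wconj_iff f (S.symm h) (a := a)
  rwa [F.fx, F.fy] at this

theorem Sw.map' (h : R x y) {f : G} (F : Sw W x y f) {a : G} (ha : a ∈ W x y) : f⁻¹ * a * f ∈ W y x := by
  rw [← Sw.map S h F]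
  have e : f * (f⁻¹ * a * f) * f⁻¹ = a := by group
  rwa [e]

theorem Sw.bf (h : R x y) {f : G} (F : Sw W x y f) {a m : G} (hm : m ∈ W y x) :
    bf W y (f * a * f⁻¹) (f * m * f⁻¹) = bf W x a m := by
  have := S.bf_conj f h (a := a) hm
  rwa [F.fx] at this

/-- `d ∈ W_x` centralizes `W_s` iff it centralizes `W_y` -/
theorem bf_s (h : R x y) {d : G} (hd : d ∈ W y x) : bf W x d (x * y) = bf W x d y := by
  rw [S.bf_mul_right h (S.mem (S.symm h)).2 (S.mem (S.symm h)).1 hd, bf_x_right, zero_add]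

theorem ln_third (h : R x y) {a : G} (ha : a ∈ ln (x * y) x) : a ∈ ln x y := by
  rw [S.mem_ln (S.symm (S.third h))] at ha
  rw [S.mem_ln h]
  rcases ha with rfl | rfl | rfl | rfl
  · simp
  · simp
  · simp
  · right; right; left
    rw [mul_assoc, ← S.xy_comm h, S.x_third h]

/-- conjugation by an element which centralizes the line -/
theorem conj_fix {g x y : G} (h : R x y) (hx : g * x = x * g) (hy : g * y = y * g) {a : G} :
    g * a * g⁻¹ ∈ W x y ↔ a ∈ W x y := by
  have e1 : g * x * g⁻¹ = x := by rw [hx]; group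
  have e2 : g * y * g⁻¹ = y := by rw [hy]; group
  have := S.wconj_iff g h (a := a)
  rwa [e1, e2] at this

theorem bf_fix {g x y : G} (h : R x y) (hx : g * x = x * g) {a m : G} (hm : m ∈ W y x) :
    bf W x (g * a * g⁻¹) (g * m * g⁻¹) = bf W x a m := by
  have e1 : g * x * g⁻¹ = x := by rw [hx]; group
  have := S.bf_conj g h (a := a) hm
  rwa [e1] at this

/-- `u = w⁻¹ f⁻¹ w f` is trivial on `D_x / V` -/
theorem sw_comm (h : R x y) {f : G} (F : Sw W x y f) {w : G} (hwx : w * x = x * w) (hwy : w * y = y * w)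
    {d : G} (hd : d ∈ W y x) (hd1 : bf W x d y = 0) :
    (w⁻¹ * f⁻¹ * w * f) * d * (w⁻¹ * f⁻¹ * w * f)⁻¹ * d⁻¹ ∈ ln x y := by
  have hs := S.third h
  have hs' := S.symm hs
  have hws : w * (x * y) = (x * y) * w := by
    calc w * (x * y) = (w * x) * y := by group
      _ = x * (w * y) := by rw [hwx]; group
      _ = (x * y) * w := by rw [hwy]; group
  have e0 : f⁻¹ * y * f = x := by rw [← F.fx]; group
  have e0' : f⁻¹ * x * f = y := by rw [← F.fy]; group
  have hux : (w⁻¹ * f⁻¹ * w * f) * x = x * (w⁻¹ * f⁻¹ * w * f) := by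
    have e1 : w * y * w⁻¹ = y := by rw [hwy]; group
    have e2 : w⁻¹ * x * w = x := by
      calc w⁻¹ * x * w = w⁻¹ * (w * x) := by rw [hwx]; group
        _ = x := by group
    calc (w⁻¹ * f⁻¹ * w * f) * x = w⁻¹ * (f⁻¹ * (w * (f * x * f⁻¹) * w⁻¹) * f) * w * (w⁻¹ * f⁻¹ * w * f) := by
          group
      _ = x * (w⁻¹ * f⁻¹ * w * f) := by rw [F.fx, e1, e0, e2]
  have huy : (w⁻¹ * f⁻¹ * w * f) * y = y * (w⁻¹ * f⁻¹ * w * f) := by
    have e1 : w * x * w⁻¹ = x := by rw [hwx]; group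
    have e2 : w⁻¹ * y * w = y := by
      calc w⁻¹ * y * w = w⁻¹ * (w * y) := by rw [hwy]; group
        _ = y := by group
    calc (w⁻¹ * f⁻¹ * w * f) * y = w⁻¹ * (f⁻¹ * (w * (f * y * f⁻¹) * w⁻¹) * f) * w * (w⁻¹ * f⁻¹ * w * f) := by
          group
      _ = y * (w⁻¹ * f⁻¹ * w * f) := by rw [F.fy, e1, e0', e2]
  have hus : (w⁻¹ * f⁻¹ * w * f) * (x * y) = (x * y) * (w⁻¹ * f⁻¹ * w * f) := by
    set u := w⁻¹ * f⁻¹ * w * f
    calc u * (x * y) = (u * x) * y := by group
      _ = x * (u * y) := by rw [hux]; group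
      _ = (x * y) * u := by rw [huy]; group
  have key := S.gg hs' (w⁻¹ * f⁻¹ * w * f) hus hux ?_ d ?_ ?_
  · exact S.ln_third h key
  · -- `u` is trivial on `W_s / s`
    intro a ha _
    rw [S.mem_ln hs']
    have hss := S.yy hs
    obtain ⟨i, hi⟩ := F.act a ha
    have hwa : w * a * w⁻¹ ∈ W x (x * y) := (S.conj_fix hs hwx hws).mpr ha
    obtain ⟨j, hj⟩ := F.act _ hwa
    have hfs : f * (x * y) * f⁻¹ = x * y := by
      calc f * (x * y) * f⁻¹ = (f * x * f⁻¹) * (f * y * f⁻¹) := by group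
        _ = x * y := by rw [F.fx, F.fy, S.xy_comm h]
    have h1 : ∀ k : ZMod 2, w * pw (x * y) k = pw (x * y) k * w := by
      intro k
      rcases z2 k with rfl | rfl
      · simp
      · rw [pw_one, hws]
    have h2 : ∀ k : ZMod 2, f⁻¹ * pw (x * y) k * f = pw (x * y) k := by
      intro k
      rcases z2 k with rfl | rfl
      · simp
      · rw [pw_one]
        calc f⁻¹ * (x * y) * f = f⁻¹ * (f * (x * y) * f⁻¹) * f := by rw [hfs]
          _ = x * y := by group
    have h3 : f⁻¹ * (w * a * w⁻¹) * f = pw (x * y) j * (w * a * w⁻¹) := by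
      have hp : pw (x * y) j * pw (x * y) j = 1 := by
        rcases z2 j with rfl | rfl
        · simp
        · rw [pw_one]; exact hss
      calc f⁻¹ * (w * a * w⁻¹) * f = f⁻¹ * ((pw (x * y) j * pw (x * y) j) * (w * a * w⁻¹)) * f := by
            rw [hp, one_mul]
        _ = (f⁻¹ * pw (x * y) j * f) * (f⁻¹ * (pw (x * y) j * (w * a * w⁻¹)) * f) := by group
        _ = pw (x * y) j * (f⁻¹ * (f * (w * a * w⁻¹) * f⁻¹) * f) := by rw [h2, hj]
        _ = pw (x * y) j * (w * a * w⁻¹) := by group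
    have h4 : (w⁻¹ * f⁻¹ * w * f) * a * (w⁻¹ * f⁻¹ * w * f)⁻¹ * a⁻¹ = pw (x * y) i * pw (x * y) j := by
      calc (w⁻¹ * f⁻¹ * w * f) * a * (w⁻¹ * f⁻¹ * w * f)⁻¹ * a⁻¹ =
          w⁻¹ * (f⁻¹ * (w * (f * a * f⁻¹) * w⁻¹) * f) * w * a⁻¹ := by group
        _ = w⁻¹ * (f⁻¹ * ((w * pw (x * y) i) * a * w⁻¹) * f) * w * a⁻¹ := by rw [hi]; group
        _ = w⁻¹ * ((f⁻¹ * pw (x * y) i * f) * (f⁻¹ * (w * a * w⁻¹) * f)) * w * a⁻¹ := by rw [h1]; group
        _ = w⁻¹ * (pw (x * y) i * (pw (x * y) j * w)) := by rw [h2, h3]; group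
        _ = w⁻¹ * ((pw (x * y) i * w) * pw (x * y) j) := by rw [← h1 j]; group
        _ = pw (x * y) i * pw (x * y) j := by rw [← h1 i]; group
    rw [h4]
    rcases z2 i with rfl | rfl <;> rcases z2 j with rfl | rfl
    · simp
    · simp
    · simp
    · rw [pw_one, hss]; simp
  · rw [S.w_x h]; exact hd
  · rw [← S.bf_zero_iff hs, S.bf_s h hd]; exact hd1

/-- LEMMA A: `W_m` acts on `D_y / V` as the transvection with centre `m^f` -/
theorem lemA (h : R x y) {f : G} (F : Sw W x y f) {m : G} (hm : R x m) (hmX : W m x = W y x)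
    {w t : G} (hw : w ∈ W x m) (hwy : w * y = y * w) (ht : t ∈ W x y) (ht1 : bf W y t x = 0) :
    (w * t * w⁻¹ * t⁻¹) * pw (f * m * f⁻¹) (bf W y t (f * m * f⁻¹) * bf W m w x) ∈ ln x y := by
  have hwx : w * x = x * w := S.comm hm hw (S.mem hm).1
  have hmm : m ∈ W y x := by rw [← hmX]; exact (S.mem (S.symm hm)).1
  set d := f⁻¹ * t * f with hd
  have hft : f * d * f⁻¹ = t := by rw [hd]; group
  have hdX : d ∈ W y x := Sw.map' S h F ht
  have hyX : y ∈ W y x := (S.mem (S.symm h)).1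
  have hd1 : bf W x d y = 0 := by
    have := Sw.bf S h F (a := d) hyX
    rw [hft, F.fy] at this
    rw [← this]; exact ht1
  have hu := S.sw_comm h F hwx hwy hdX hd1
  set u := w⁻¹ * f⁻¹ * w * f with hud
  have hbf : bf W y t (f * m * f⁻¹) = bf W x d m := by
    rw [← hft]; exact Sw.bf S h F hmm
  have hcm := S.cm_eq hm (by rw [hmX]; exact hdX) hw
  set i := bf W x d m * bf W m w x with hi
  rw [hbf, ← hi]
  -- `w f = f w u`
  have hwf : w * f = f * (w * u) := by rw [hud]; group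
  set v := u * d * u⁻¹ * d⁻¹ with hv
  have hvV := hu
  -- `f` normalizes `V`
  have hfV : ∀ v ∈ ln x y, f * v * f⁻¹ ∈ ln x y := by
    intro v hv
    rw [S.mem_ln h] at hv ⊢
    rcases hv with rfl | rfl | rfl | rfl
    · left; group
    · rw [F.fx]; simp
    · rw [F.fy]; simp
    · right; right; right
      calc f * (x * y) * f⁻¹ = (f * x * f⁻¹) * (f * y * f⁻¹) := by group
        _ = x * y := by rw [F.fx, F.fy, S.xy_comm h]
  have hwV : ∀ v ∈ ln x y, w * v = v * w := by
    intro v hv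
    rw [S.mem_ln h] at hv
    rcases hv with rfl | rfl | rfl | rfl
    · simp
    · exact hwx
    · exact hwy
    · calc w * (x * y) = (w * x) * y := by group
        _ = x * (w * y) := by rw [hwx]; group
        _ = (x * y) * w := by rw [hwy]; group
  have e1 : w * t * w⁻¹ * t⁻¹ = (f * v * f⁻¹) * (f * pw (x * m) i * f⁻¹) := by
    calc w * t * w⁻¹ * t⁻¹ = (w * f) * d * (w * f)⁻¹ * (f * d * f⁻¹)⁻¹ := by rw [← hft]; group
      _ = f * (w * (u * d * u⁻¹) * w⁻¹ * d⁻¹) * f⁻¹ := by rw [hwf]; group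
      _ = f * (w * (v * d) * w⁻¹ * d⁻¹) * f⁻¹ := by rw [hv]; group
      _ = f * ((w * v) * d * w⁻¹ * d⁻¹) * f⁻¹ := by group
      _ = f * (v * (w * d * w⁻¹) * d⁻¹) * f⁻¹ := by rw [hwV v hvV]; group
      _ = f * (v * (pw (x * m) i * d) * d⁻¹) * f⁻¹ := by rw [hcm]
      _ = (f * v * f⁻¹) * (f * pw (x * m) i * f⁻¹) := by group
  rw [e1]
  rcases z2 i with h3 | h3
  · rw [h3]
    simp only [pw_zero, mul_one, mul_inv_cancel]
    exact hfV v hvV
  · rw [h3, pw_one, pw_one]
    have hmm2 : m * m = 1 := S.yy hm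
    have e2 : (f * (x * m) * f⁻¹) * (f * m * f⁻¹) = y := by
      calc (f * (x * m) * f⁻¹) * (f * m * f⁻¹) = f * (x * (m * m)) * f⁻¹ := by group
        _ = y := by rw [hmm2, mul_one, F.fx]
    rw [mul_assoc, e2]
    exact mul_mem (hfV v hvV) (by rw [S.mem_ln h]; simp)

end lemA

end Dat

/-- `m ∈ D_x - V` -/
structure Tri (R : G → G → Prop) (W : G → G → Subgroup G) (x y m : G) : Prop where
  h : R x y
  hm : m ∈ W y x
  perp : bf W x m y = 0
  nl : m ∉ ln x y

/-- `e ⟨x⟩` is the centre of the action of `W_m` on `D_y` -/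
structure Ctr (W : G → G → Subgroup G) (x y m e : G) : Prop where
  memY : e ∈ W x y
  memM : e ∈ W x m
  nx : e ∉ W y x
  act : ∀ t ∈ W x y, bf W y t x = 0 → ∀ w ∈ W x m, ∃ i : ZMod 2,
    w * t * w⁻¹ * t⁻¹ = pw e (bf W y t e * bf W m w x) * pw x i

namespace Tri

open Dat

variable {R : G → G → Prop} {W : G → G → Subgroup G} {x y m : G} (T : Tri R W x y m) (S : Dat R W)
include T S

theorem ne_one : m ≠ 1 := fun e => T.nl ((S.mem_ln T.h).mpr (Or.inl e))
theorem ne_x : m ≠ x := fun e => T.nl ((S.mem_ln T.h).mpr (Or.inr (Or.inl e)))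
theorem ne_y : m ≠ y := fun e => T.nl ((S.mem_ln T.h).mpr (Or.inr (Or.inr (Or.inl e))))

theorem rm : R x m := (S.pt T.h m T.hm (T.ne_one S) (T.ne_x S)).1

theorem wm : W m x = W y x := (S.pt T.h m T.hm (T.ne_one S) (T.ne_x S)).2

theorem y_mem : y ∈ W y x := (S.mem (S.symm T.h)).1
theorem x_mem : x ∈ W y x := (S.mem (S.symm T.h)).2

theorem swap : Tri R W x m y where
  h := T.rm S
  hm := by rw [T.wm S]; exact T.y_mem S
  perp := by rw [S.bf_symm T.h (T.y_mem S) T.hm]; exact T.perp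
  nl := by
    rw [S.mem_ln (T.rm S)]
    rintro (e | e | e | e)
    · exact S.ne1' T.h e
    · exact (S.ne T.h).symm e
    · exact T.ne_y S e.symm
    · apply T.nl
      rw [S.mem_ln T.h]
      right; right; right
      rw [e, S.x_third (T.rm S)]

theorem third : Tri R W x (x * y) m where
  h := S.third T.h
  hm := by rw [S.w_x T.h]; exact T.hm
  perp := by rw [S.bf_s T.h T.hm]; exact T.perp
  nl := by
    have h1 := T.nl
    rw [S.mem_ln T.h] at h1
    rw [S.mem_ln (S.third T.h), S.x_third T.h]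
    rintro (e | e | e | e)
    · exact h1 (Or.inl e)
    · exact h1 (Or.inr (Or.inl e))
    · exact h1 (Or.inr (Or.inr (Or.inr e)))
    · exact h1 (Or.inr (Or.inr (Or.inl e)))

theorem w_x {w : G} (hw : w ∈ W x m) : w * x = x * w := S.comm (T.rm S) hw (S.mem (T.rm S)).1

theorem w_m {w : G} (hw : w ∈ W x m) : w * m = m * w := S.comm (T.rm S) hw (S.mem (T.rm S)).2

theorem w_y {w : G} (hw : w ∈ W x m) : w * y = y * w := by
  have := (T.swap S).perp
  rw [S.bf_zero_iff (T.rm S)] at this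
  exact (this w hw).symm

theorem t_x {t : G} (ht : t ∈ W x y) : t * x = x * t := S.comm T.h ht (S.mem T.h).1

theorem t_y {t : G} (ht : t ∈ W x y) : t * y = y * t := S.comm T.h ht (S.mem T.h).2

theorem t_m {t : G} (ht : t ∈ W x y) : t * m = m * t := (T.swap S).w_y S ht

theorem comm_mem {w t : G} (hw : w ∈ W x m) (ht : t ∈ W x y) :
    w * t * w⁻¹ * t⁻¹ ∈ W x y ∧ w * t * w⁻¹ * t⁻¹ ∈ W x m := by
  constructor
  · exact mul_mem ((S.conj_fix T.h (T.w_x S hw) (T.w_y S hw)).mpr ht) (inv_mem ht)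
  · have := (S.conj_fix (T.rm S) (T.t_x S ht) (T.t_m S ht)).mpr (inv_mem hw)
    have e : w * t * w⁻¹ * t⁻¹ = w * (t * w⁻¹ * t⁻¹) := by group
    rw [e]
    exact mul_mem hw this

theorem j_cent {a : G} (ha : a ∈ W x y) (ha' : a ∈ W x m) : Cz (W y x) a := by
  intro b hb
  have key : a * b * a⁻¹ * b⁻¹ = 1 := by
    rcases S.cm T.h a ha b hb with e | e
    · exact e
    rcases S.cm (T.rm S) a ha' b (by rw [T.wm S]; exact hb) with e' | e'
    · exact e'
    · rw [e] at e'
      exact absurd (mul_left_cancel e').symm (T.ne_y S)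
  calc a * b = (a * b * a⁻¹ * b⁻¹) * (b * a) := by group
    _ = b * a := by rw [key, one_mul]

theorem j_bf {a : G} (ha : a ∈ W x y) (ha' : a ∈ W x m) : bf W y a x = 0 :=
  (S.bf_zero_iff (S.symm T.h)).mpr (T.j_cent S ha ha')

theorem j_cap {a : G} (ha : a ∈ W x y) (ha' : a ∈ W x m) (hx : a ∈ W y x) : a = 1 ∨ a = x := by
  have hnl := T.nl
  rw [S.mem_ln T.h] at hnl
  rcases S.inter T.h a ha hx with e | e | e | e
  · exact Or.inl e
  · exact Or.inr e
  · exfalso
    rcases S.inter (T.rm S) a ha' (by rw [T.wm S]; exact hx) with e' | e' | e' | e'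
    · exact S.ne1' T.h (e.symm.trans e')
    · exact (S.ne T.h).symm (e.symm.trans e')
    · exact T.ne_y S (e'.symm.trans e)
    · apply hnl
      right; right; right
      rw [← e, e', S.x_third (T.rm S)]
  · exfalso
    rcases S.inter (T.rm S) a ha' (by rw [T.wm S]; exact hx) with e' | e' | e' | e'
    · have h1 := e.symm.trans e'
      have : y = x⁻¹ := by rw [eq_inv_iff_mul_eq_one, ← S.xy_comm T.h]; exact h1
      rw [inv_eq_of_mul_eq_one_left (S.xx T.h)] at this
      exact (S.ne T.h).symm this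
    · have h1 := e.symm.trans e'
      exact S.ne1' T.h (by simpa using h1)
    · exact hnl (Or.inr (Or.inr (Or.inr (e'.symm.trans e))))
    · exact T.ne_y S (mul_left_cancel (e'.symm.trans e))

theorem ln_le_X {a : G} (ha : a ∈ ln x y) : a ∈ W y x := by
  rw [S.mem_ln T.h] at ha
  rcases ha with rfl | rfl | rfl | rfl
  · exact one_mem _
  · exact T.x_mem S
  · exact T.y_mem S
  · exact mul_mem (T.x_mem S) (T.y_mem S)

theorem ln_le_Y {a : G} (ha : a ∈ ln x y) : a ∈ W x y := by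
  rw [S.mem_ln T.h] at ha
  have h1 := (S.mem T.h).1
  have h2 := (S.mem T.h).2
  rcases ha with rfl | rfl | rfl | rfl
  · exact one_mem _
  · exact h1
  · exact h2
  · exact mul_mem h1 h2

theorem bf_ln {t v : G} (ht : t ∈ W x y) (ht1 : bf W y t x = 0) (hv : v ∈ ln x y) : bf W y t v = 0 := by
  have hs := S.symm T.h
  rw [S.mem_ln T.h] at hv
  rcases hv with rfl | rfl | rfl | rfl
  · exact bf_one_right _ _
  · exact ht1
  · exact bf_x_right _ _
  · rw [S.bf_mul_right hs (S.mem T.h).1 (S.mem T.h).2 ht, ht1, bf_x_right, add_zero]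

/-- LEMMA B -/
theorem exists_ctr' {f : G} (F : Sw W x y f) : ∃ e, Ctr W x y m e ∧ e * (f * m * f⁻¹) ∈ ln x y := by
  have h := T.h
  have hs := S.symm h
  have hmY : f * m * f⁻¹ ∈ W x y := (Dat.Sw.map S h F).mpr T.hm
  have hm0 : bf W y (f * m * f⁻¹) x = 0 := by
    have := Dat.Sw.bf S h F (a := m) (T.y_mem S)
    rw [F.fy] at this
    rw [this]; exact T.perp
  have hfV : f * m * f⁻¹ ∉ ln x y := by
    intro h1
    apply T.nl
    rw [S.mem_ln h] at h1 ⊢
    have e0 : f⁻¹ * y * f = x := by rw [← F.fx]; group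
    have e0' : f⁻¹ * x * f = y := by rw [← F.fy]; group
    have e1 : m = f⁻¹ * (f * m * f⁻¹) * f := by group
    rcases h1 with e | e | e | e
    · left; rw [e1, e]; group
    · right; right; left; rw [e1, e, e0']
    · right; left; rw [e1, e, e0]
    · right; right; right
      calc m = (f⁻¹ * x * f) * (f⁻¹ * y * f) := by rw [e1, e]; group
        _ = x * y := by rw [e0, e0', S.xy_comm h]
  obtain ⟨t, ht, ht1, ht2⟩ : ∃ t ∈ W x y, bf W y t x = 0 ∧ bf W y t (f * m * f⁻¹) = 1 := by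
    by_contra hc
    push Not at hc
    apply hfV
    rw [S.mem_ln h]
    rcases S.dp1 hs (S.mem h).1 hmY (fun c hc1 hc2 => by
      by_contra h3
      exact hc c hc1 hc2 (z2_ne h3)) with e | e | e | e
    · exact Or.inl e
    · exact Or.inr (Or.inr (Or.inl e))
    · exact Or.inr (Or.inl e)
    · right; right; right; rw [e, S.xy_comm h]
  obtain ⟨w, hw, hw1⟩ := S.nc (S.symm (T.rm S))
  rw [← S.bf_one_iff (S.symm (T.rm S))] at hw1
  have hA := S.lemA h F (T.rm S) (T.wm S) hw (T.w_y S hw) ht ht1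
  rw [ht2, hw1, mul_one, pw_one] at hA
  obtain ⟨hJ1, hJ2⟩ := T.comm_mem S hw ht
  set e := w * t * w⁻¹ * t⁻¹ with he
  have hmm : f * m * f⁻¹ = (f * m * f⁻¹)⁻¹ := (S.inv_eq h hmY).symm
  refine ⟨e, ⟨hJ1, hJ2, ?_, ?_⟩, hA⟩
  · intro hx
    apply hfV
    have h1 : e ∈ ln x y := (S.mem_ln h).mpr (S.inter h e hJ1 hx)
    have e2 : f * m * f⁻¹ = e⁻¹ * (e * (f * m * f⁻¹)) := by group
    rw [e2]
    exact mul_mem (inv_mem h1) hA
  · intro t' ht' ht1' w' hw'
    have hA' := S.lemA h F (T.rm S) (T.wm S) hw' (T.w_y S hw') ht' ht1'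
    obtain ⟨hJ1', hJ2'⟩ := T.comm_mem S hw' ht'
    have hbf : bf W y t' e = bf W y t' (f * m * f⁻¹) := by
      have h1 := T.bf_ln S ht' ht1' hA
      rw [S.bf_mul_right hs hJ1 hmY ht'] at h1
      have h2 := z2_add_self (bf W y t' (f * m * f⁻¹))
      rw [← h2] at h1
      exact add_right_cancel h1
    rw [hbf]
    set c := w' * t' * w'⁻¹ * t'⁻¹ with hc
    set i := bf W y t' (f * m * f⁻¹) * bf W m w' x with hi
    have key : (pw e i)⁻¹ * c = 1 ∨ (pw e i)⁻¹ * c = x := by
      refine T.j_cap S (mul_mem (inv_mem (pw_mem hJ1 i)) hJ1') (mul_mem (inv_mem (pw_mem hJ2 i)) hJ2') ?_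
      rcases z2 i with h3 | h3
      · rw [h3, pw_zero] at hA' ⊢
        rw [mul_one] at hA'
        rw [inv_one, one_mul]
        exact T.ln_le_X S hA'
      · rw [h3, pw_one] at hA' ⊢
        refine T.ln_le_X S ?_
        have e3 : e⁻¹ * c = (f * m * f⁻¹) * (e * (f * m * f⁻¹))⁻¹ * (c * (f * m * f⁻¹)) * (f * m * f⁻¹)⁻¹ := by
          group
        have e4 : (f * m * f⁻¹) * (e * (f * m * f⁻¹))⁻¹ * (c * (f * m * f⁻¹)) * (f * m * f⁻¹)⁻¹ =
            (e * (f * m * f⁻¹))⁻¹ * (c * (f * m * f⁻¹)) := by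
          have h5 : (e * (f * m * f⁻¹))⁻¹ * (c * (f * m * f⁻¹)) ∈ W x y :=
            mul_mem (inv_mem (mul_mem hJ1 hmY)) (mul_mem hJ1' hmY)
          rw [mul_assoc (f * m * f⁻¹), S.comm h hmY h5]; group
        rw [e3, e4]
        exact mul_mem (inv_mem hA) hA'
    rcases key with e5 | e5
    · refine ⟨0, ?_⟩
      rw [pw_zero, mul_one]
      exact (inv_mul_eq_one.mp e5).symm
    · refine ⟨1, ?_⟩
      rw [pw_one]
      exact inv_mul_eq_iff_eq_mul.mp e5

theorem exists_ctr : ∃ e, Ctr W x y m e := by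
  obtain ⟨f, F⟩ := S.exists_sw T.h
  obtain ⟨e, he, -⟩ := T.exists_ctr' S F
  exact ⟨e, he⟩

end Tri

end Cfsg.Agent.Omega.NO3S.TV.Eight
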