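import Cfsg.Agent.Omega.NO3S.TV.Inter
import Cfsg.Agent.Omega.NO3S.TV.Def
import Cfsg.Agent.Omega.NO3S.TV.EightEnd
import Cfsg.Agent.Omega.NO3S.Fit.Fix

/-!
# NO-3S, `q = 2`, `n = 1`, transvection types: the bridge from families to section 8 (helper918)

* `Rel V x y` : `x ≠ y` are points of a conjugate of `V`; `WW V cf x y` : the `W`-group at `y` of the line `⟨x, y⟩`;
* `LocE T V z cf` : the facts about the points of `V`; `LocE.dat : Dat (Rel V) (WW V cf)`;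
* `LocE.false` : no element of `W_z - V` centralizes `W_y`.
-/

set_option autoImplicit false
set_option linter.unusedSectionVars false

namespace Cfsg.Agent.Omega.NO3S.TV

open Subgroup Cfsg Cfsg.Agent.ZN Cfsg.Agent.MinSimple.Geo Cfsg.Agent.Omega.CaseL
  Cfsg.Agent.Omega.NO3S.Fit
open Cfsg.Agent.ZN.Block (conj_mem_of_normalizer conj_mem_of_normalizer' le_normalizer_of_forall
  mem_normalizer_of)

universe u

variable {G : Type u} [Group G]

/-- `x ≠ y` are points of a conjugate of `V` -/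
def Rel (V : Subgroup G) (x y : G) : Prop := ∃ g : G, x ∈ cj g V ∧ y ∈ cj g V ∧ x ≠ 1 ∧ y ≠ 1 ∧ x ≠ y

/-- the `W`-group at `y` of the line `⟨x, y⟩` -/
def WW (V : Subgroup G) (cf : G → Subgroup G) (x y : G) : Subgroup G :=
  sSup {A | ∃ g : G, x ∈ cj g V ∧ y ∈ cj g V ∧ x ≠ 1 ∧ y ≠ 1 ∧ x ≠ y ∧ A = cj g (ww V cf (g⁻¹ * y * g))}

/-- **The facts about the points of `V`** at `r = 0`. -/
structure LocE (T V : Subgroup G) (z : G) (cf : G → Subgroup G) : Prop extends Fam T V z cf where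
  inter : jj V cf ≤ V
  two : CommTwo V cf
  one : Fam.One1 V cf
  pt : ∀ m ∈ ww V cf z, m ≠ 1 → m ≠ z → m ∈ pts V cf z
  perp : ∀ y ∈ V, y ≠ 1 → y ≠ z → ∀ m ∈ pts V cf z, (∀ b ∈ ww V cf y, m * b = b * m) →
    ∀ b ∈ wt V cf z m, y * b = b * y
  gg : ∀ y ∈ V, y ≠ 1 → y ≠ z → ∀ c ∈ centralizer (V : Set G),
    (∀ d ∈ ww V cf z, (∀ b ∈ ww V cf y, d * b = b * d) → c * d * c⁻¹ * d⁻¹ ∈ V) →
      ∀ d ∈ ww V cf y, (∀ b ∈ ww V cf z, d * b = b * d) → c * d * c⁻¹ * d⁻¹ ∈ V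

section WW

variable {T V : Subgroup G} {z : G} {cf : G → Subgroup G}

/-- a line is determined by two of its points -/
theorem cj_le_of (h : Fam T V z cf) {x y g g' : G} (hx : x ∈ cj g V) (hy : y ∈ cj g V) (hx' : x ∈ cj g' V)
    (hy' : y ∈ cj g' V) (hx1 : x ≠ 1) (hy1 : y ≠ 1) (hxy : x ≠ y) : cj g V ≤ cj g' V := by
  intro a ha
  rw [mem_cj] at hx hy ha
  have h1 : g⁻¹ * x * g ≠ 1 := Fam.conj_ne' hx1
  have h2 : g⁻¹ * y * g ≠ 1 := Fam.conj_ne' hy1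
  have h3 : g⁻¹ * x * g ≠ g⁻¹ * y * g := by
    intro e
    apply hxy
    calc x = g * (g⁻¹ * x * g) * g⁻¹ := by group
      _ = y := by rw [e]; group
  have e : a = g * (g⁻¹ * a * g) * g⁻¹ := by group
  rcases h.ln.four hx hy h1 h2 h3 ha with e1 | e1 | e1 | e1
  · rw [e, e1]; simp
  · rw [e, e1]
    have : g * (g⁻¹ * x * g) * g⁻¹ = x := by group
    rwa [this]
  · rw [e, e1]
    have : g * (g⁻¹ * y * g) * g⁻¹ = y := by group
    rwa [this]
  · rw [e, e1]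
    have : g * (g⁻¹ * x * g * (g⁻¹ * y * g)) * g⁻¹ = x * y := by group
    rw [this]
    exact mul_mem hx' hy'

theorem mem_normalizer_of_two (h : Fam T V z cf) {x y g g' : G} (hx : x ∈ cj g V) (hy : y ∈ cj g V)
    (hx' : x ∈ cj g' V) (hy' : y ∈ cj g' V) (hx1 : x ≠ 1) (hy1 : y ≠ 1) (hxy : x ≠ y) :
    g⁻¹ * g' ∈ normalizer (V : Set G) := by
  have e : cj g V = cj g' V :=
    le_antisymm (cj_le_of h hx hy hx' hy' hx1 hy1 hxy) (cj_le_of h hx' hy' hx hy hx1 hy1 hxy)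
  rw [mem_normalizer_iff_cj]
  have h1 : cj g⁻¹ (cj g' V) = cj g⁻¹ (cj g V) := by rw [e]
  rw [cj_cj, cj_cj, inv_mul_cancel, cj_one] at h1
  exact h1

/-- the computation of `WW` -/
theorem WW_eq (h : Fam T V z cf) {x y g : G} (hx : x ∈ cj g V) (hy : y ∈ cj g V) (hx1 : x ≠ 1) (hy1 : y ≠ 1)
    (hxy : x ≠ y) : WW V cf x y = cj g (ww V cf (g⁻¹ * y * g)) := by
  apply le_antisymm
  · refine sSup_le ?_
    rintro A ⟨g', hx', hy', -, -, -, rfl⟩
    have hn := mem_normalizer_of_two h hx hy hx' hy' hx1 hy1 hxy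
    have hy0 : g'⁻¹ * y * g' ∈ V := mem_cj.mp hy'
    have h1 := h.cj_ww hn hy0 (Fam.conj_ne' hy1)
    have e : (g⁻¹ * g') * (g'⁻¹ * y * g') * (g⁻¹ * g')⁻¹ = g⁻¹ * y * g := by group
    rw [e] at h1
    rw [← h1, cj_cj, mul_inv_cancel_left]
  · exact le_sSup ⟨g, hx, hy, hx1, hy1, hxy, rfl⟩

/-- normal form of a pair -/
theorem Rel.rep (h : Fam T V z cf) {x y : G} (hr : Rel V x y) :
    ∃ g y0 : G, y0 ∈ V ∧ y0 ≠ 1 ∧ y0 ≠ z ∧ x = g * z * g⁻¹ ∧ y = g * y0 * g⁻¹ := by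
  obtain ⟨g, hx, hy, hx1, hy1, hxy⟩ := hr
  rw [mem_cj] at hx hy
  obtain ⟨n, hn, hnz⟩ := h.ln.trans _ hx (Fam.conj_ne' hx1)
  refine ⟨g * n, n⁻¹ * (g⁻¹ * y * g) * n, h.conj_pt' hn hy, Fam.conj_ne' (Fam.conj_ne' hy1), ?_, ?_, ?_⟩
  · intro e
    apply hxy
    have e1 : g⁻¹ * y * g = g⁻¹ * x * g := by
      rw [← hnz, ← e]; group
    calc x = g * (g⁻¹ * x * g) * g⁻¹ := by group
      _ = y := by rw [← e1]; group
  · calc x = g * (g⁻¹ * x * g) * g⁻¹ := by group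
      _ = g * n * z * (g * n)⁻¹ := by rw [← hnz]; group
  · group

theorem rel_base (h : Fam T V z cf) {y0 : G} (hy : y0 ∈ V) (hy1 : y0 ≠ 1) (hyz : y0 ≠ z) (g : G) :
    Rel V (g * z * g⁻¹) (g * y0 * g⁻¹) := by
  refine ⟨g, conj_mem_cj h.ln.z_mem, conj_mem_cj hy, Fam.conj_ne h.ln.z_ne, Fam.conj_ne hy1, fun e => hyz ?_⟩
  have := congrArg (fun a => g⁻¹ * a * g) e
  calc y0 = g⁻¹ * (g * y0 * g⁻¹) * g := by group
    _ = g⁻¹ * (g * z * g⁻¹) * g := this.symm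
    _ = z := by group

theorem WW_base (h : Fam T V z cf) {p q : G} (hp : p ∈ V) (hp1 : p ≠ 1) (hq : q ∈ V) (hq1 : q ≠ 1)
    (hpq : p ≠ q) (g : G) : WW V cf (g * p * g⁻¹) (g * q * g⁻¹) = cj g (ww V cf q) := by
  have hne : g * p * g⁻¹ ≠ g * q * g⁻¹ := by
    intro e
    apply hpq
    calc p = g⁻¹ * (g * p * g⁻¹) * g := by group
      _ = g⁻¹ * (g * q * g⁻¹) * g := by rw [e]
      _ = q := by group
  rw [WW_eq h (conj_mem_cj hp) (conj_mem_cj hq) (Fam.conj_ne hp1) (Fam.conj_ne hq1) hne]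
  congr 2
  group

end WW

namespace LocE

variable {T V : Subgroup G} {z : G} {cf : G → Subgroup G}

theorem cz_iff {A : Subgroup G} {g a : G} : Eight.Cz (cj g A) (g * a * g⁻¹) ↔ Eight.Cz A a := by
  constructor
  · intro h b hb
    have := h _ (conj_mem_cj hb)
    calc a * b = g⁻¹ * (g * a * g⁻¹ * (g * b * g⁻¹)) * g := by group
      _ = g⁻¹ * (g * b * g⁻¹ * (g * a * g⁻¹)) * g := by rw [this]
      _ = b * a := by group
  · intro h b hb
    have := h _ (mem_cj.mp hb)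
    calc g * a * g⁻¹ * b = g * (a * (g⁻¹ * b * g)) * g⁻¹ := by group
      _ = g * ((g⁻¹ * b * g) * a) * g⁻¹ := by rw [this]
      _ = b * (g * a * g⁻¹) := by group

theorem conj_back {A : Subgroup G} {g a : G} : g * a * g⁻¹ ∈ cj g A ↔ a ∈ A := by
  rw [mem_cj]
  have e : g⁻¹ * (g * a * g⁻¹) * g = a := by group
  rw [e]

theorem exists_conj (g a : G) : ∃ b, a = g * b * g⁻¹ := ⟨g⁻¹ * a * g, by group⟩

/-- `a ∈ W_p` centralizes `W_q` iff it is in `Q_q` -/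
theorem cz_iff_qq [Finite G] (L : LocE T V z cf) {p q a : G} (hp : p ∈ V) (hp1 : p ≠ 1) (hq : q ∈ V) (hq1 : q ≠ 1)
    (hqp : q ≠ p) (ha : a ∈ ww V cf p) : Eight.Cz (ww V cf q) a ↔ a ∈ qq V cf q := by
  have h := L.toFam
  constructor
  · intro h1
    refine h.mem_qq_of hq hq1 (h.ww_le_cf' hp hp1 hq hq1 ha) fun w hw => Or.inl ?_
    rw [h1 w hw]; group
  · intro h1 b hb
    rcases h.qq_cases hq h1 hb with e | e
    · exact comm_of_conj_eq e
    · rcases L.two p hp hp1 q hq hq1 hqp a ha b hb with e' | e'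
      · exact comm_of_conj_eq (mul_inv_eq_one.mp e')
      · exfalso
        have e2 : a * b * a⁻¹ * b⁻¹ = q := by rw [e]; group
        rw [e2] at e'
        exact hp1 (by simpa using e')

/-- **the bridge** -/
theorem dat [Finite G] (L : LocE T V z cf) : Eight.Dat (Rel V) (WW V cf) := by
  have h := L.toFam
  have hz := h.ln.z_mem
  have hz1 := h.ln.z_ne
  have sq := h.ln.sq
  -- `WW` for a pair in normal form
  have w1 : ∀ (g y0 : G), y0 ∈ V → y0 ≠ 1 → y0 ≠ z →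
      WW V cf (g * z * g⁻¹) (g * y0 * g⁻¹) = cj g (ww V cf y0) := fun g y0 hy hy1 hyz =>
    WW_base h hz hz1 hy hy1 (Ne.symm hyz) g
  have w2 : ∀ (g y0 : G), y0 ∈ V → y0 ≠ 1 → y0 ≠ z →
      WW V cf (g * y0 * g⁻¹) (g * z * g⁻¹) = cj g (ww V cf z) := fun g y0 hy hy1 hyz =>
    WW_base h hy hy1 hz hz1 hyz g
  have hsymm : ∀ {x y : G}, Rel V x y → Rel V y x := by
    rintro x y ⟨g, hx, hy, hx1, hy1, hxy⟩
    exact ⟨g, hy, hx, hy1, hx1, hxy.symm⟩
  refine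
    { symm := hsymm
      third := ?_
      ne := fun ⟨g, hx, hy, hx1, hy1, hxy⟩ => hxy
      ne1 := fun ⟨g, hx, hy, hx1, hy1, hxy⟩ => hx1
      sq := ?_
      mem := ?_
      w_third := ?_
      inter := ?_
      cm := ?_
      idx := ?_
      nc := ?_
      pt := ?_
      perp := ?_
      conj := ?_
      wconj := ?_
      gg := ?_ }
  · -- third
    rintro x y ⟨g, hx, hy, hx1, hy1, hxy⟩
    rw [mem_cj] at hx hy
    refine ⟨g, mem_cj.mpr hx, ?_, hx1, ?_, fun e => hy1 (by simpa using e.symm)⟩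
    · rw [mem_cj]
      have := mul_mem hx hy
      have e : g⁻¹ * (x * y) * g = (g⁻¹ * x * g) * (g⁻¹ * y * g) := by group
      rwa [e]
    · intro e
      apply hxy
      have h1 := sq _ hx
      have h2 : x * x = 1 := by
        calc x * x = g * ((g⁻¹ * x * g) * (g⁻¹ * x * g)) * g⁻¹ := by group
          _ = 1 := by rw [h1]; group
      exact mul_left_cancel (h2.trans e.symm)
  · -- sq
    intro x y hr a ha
    obtain ⟨g, y0, hy, hy1, hyz, rfl, rfl⟩ := hr.rep h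
    rw [w1 g y0 hy hy1 hyz, mem_cj] at ha
    have := h.sq hy hy1 _ ha
    calc a * a = g * ((g⁻¹ * a * g) * (g⁻¹ * a * g)) * g⁻¹ := by group
      _ = 1 := by rw [this]; group
  · -- mem
    intro x y hr
    obtain ⟨g, y0, hy, hy1, hyz, rfl, rfl⟩ := hr.rep h
    rw [w1 g y0 hy hy1 hyz]
    exact ⟨conj_mem_cj (h.V_le hz), conj_mem_cj (h.V_le hy)⟩
  · -- w_third
    intro x y hr
    obtain ⟨g, y0, hy, hy1, hyz, rfl, rfl⟩ := hr.rep h
    have e : g * z * g⁻¹ * (g * y0 * g⁻¹) = g * (z * y0) * g⁻¹ := by group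
    rw [w1 g y0 hy hy1 hyz, e, WW_base h (mul_mem hz hy) (h.mul_ne_one hy (Ne.symm hyz)) hy hy1
      (fun e => hz1 (by simpa using e))]
  · -- inter
    intro x y hr a ha hb
    obtain ⟨g, y0, hy, hy1, hyz, rfl, rfl⟩ := hr.rep h
    rw [w1 g y0 hy hy1 hyz, mem_cj] at ha
    rw [w2 g y0 hy hy1 hyz, mem_cj] at hb
    have h1 := L.inter (h.mem_jj hy hy1 hz hz1 (Ne.symm hyz) ha hb)
    have e : a = g * (g⁻¹ * a * g) * g⁻¹ := by group
    rcases h.ln.four hz hy hz1 hy1 (Ne.symm hyz) h1 with e1 | e1 | e1 | e1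
    · left; rw [e, e1]; group
    · right; left; rw [e, e1]
    · right; right; left; rw [e, e1]
    · right; right; right; rw [e, e1]; group
  · -- cm
    intro x y hr a ha b hb
    obtain ⟨g, y0, hy, hy1, hyz, rfl, rfl⟩ := hr.rep h
    rw [w1 g y0 hy hy1 hyz, mem_cj] at ha
    rw [w2 g y0 hy hy1 hyz, mem_cj] at hb
    have e : a * b * a⁻¹ * b⁻¹ =
        g * ((g⁻¹ * a * g) * (g⁻¹ * b * g) * (g⁻¹ * a * g)⁻¹ * (g⁻¹ * b * g)⁻¹) * g⁻¹ := by group
    rcases L.two y0 hy hy1 z hz hz1 (Ne.symm hyz) _ ha _ hb with e1 | e1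
    · left; rw [e, e1]; group
    · right; rw [e, e1, h.ln.comm hy hz]; group
  · -- idx
    intro x y hr a ha b hb hna hnb
    obtain ⟨g, y0, hy, hy1, hyz, rfl, rfl⟩ := hr.rep h
    obtain ⟨a, rfl⟩ := exists_conj g a
    obtain ⟨b, rfl⟩ := exists_conj g b
    rw [w2 g y0 hy hy1 hyz, conj_back] at ha hb
    rw [w1 g y0 hy hy1 hyz, cz_iff, L.cz_iff_qq hz hz1 hy hy1 hyz ha] at hna
    rw [w1 g y0 hy hy1 hyz, cz_iff, L.cz_iff_qq hz hz1 hy hy1 hyz hb] at hnb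
    have e : g * a * g⁻¹ * (g * b * g⁻¹) = g * (a * b) * g⁻¹ := by group
    rw [w1 g y0 hy hy1 hyz, e, cz_iff, L.cz_iff_qq hz hz1 hy hy1 hyz (mul_mem ha hb)]
    exact L.one z hz hz1 y0 hy hy1 hyz a ha b hb hna hnb
  · -- nc
    intro x y hr
    obtain ⟨g, y0, hy, hy1, hyz, rfl, rfl⟩ := hr.rep h
    obtain ⟨a, ha, b, hb, hab⟩ := h.nc' hz hz1 hy hy1 hyz
    refine ⟨g * a * g⁻¹, ?_, ?_⟩
    · rw [w2 g y0 hy hy1 hyz, conj_back]; exact ha
    · rw [w1 g y0 hy hy1 hyz, cz_iff]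
      exact fun hc => hab (hc b hb)
  · -- pt
    intro x y hr m hm hm1 hmx
    obtain ⟨g, y0, hy, hy1, hyz, rfl, rfl⟩ := hr.rep h
    obtain ⟨m, rfl⟩ := exists_conj g m
    rw [w2 g y0 hy hy1 hyz, conj_back] at hm
    obtain ⟨y', hy', hy1', hyz', c, hc, rfl⟩ := L.pt m hm (fun e => hm1 (by rw [e]; group))
      (fun e => hmx (by rw [e]))
    have hcz : c * z * c⁻¹ = z := conj_eq_of_comm (h.cf_comm hz hz1 hc)
    have e1 : g * z * g⁻¹ = (g * c) * z * (g * c)⁻¹ := by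
      calc g * z * g⁻¹ = g * (c * z * c⁻¹) * g⁻¹ := by rw [hcz]
        _ = (g * c) * z * (g * c)⁻¹ := by group
    have e2 : g * (c * y' * c⁻¹) * g⁻¹ = (g * c) * y' * (g * c)⁻¹ := by group
    refine ⟨?_, ?_⟩
    · rw [e1, e2]; exact rel_base h hy' hy1' hyz' _
    · rw [w2 g y0 hy hy1 hyz, e1, e2, w2 (g * c) y' hy' hy1' hyz', ← cj_cj,
        cj_eq_of_mem_normalizer (h.cf_norm hc)]
  · -- perp
    intro x y hr m hm hm1 hmx hc
    obtain ⟨g, y0, hy, hy1, hyz, rfl, rfl⟩ := hr.rep h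
    obtain ⟨m, rfl⟩ := exists_conj g m
    rw [w2 g y0 hy hy1 hyz, conj_back] at hm
    rw [w1 g y0 hy hy1 hyz, cz_iff] at hc
    have hmp := L.pt m hm (fun e => hm1 (by rw [e]; group)) (fun e => hmx (by rw [e]))
    have h1 := L.perp y0 hy hy1 hyz m hmp hc
    obtain ⟨y', hy', hy1', hyz', c, hcc, rfl⟩ := hmp
    have hcz : c * z * c⁻¹ = z := conj_eq_of_comm (h.cf_comm hz hz1 hcc)
    have e1 : g * z * g⁻¹ = (g * c) * z * (g * c)⁻¹ := by
      calc g * z * g⁻¹ = g * (c * z * c⁻¹) * g⁻¹ := by rw [hcz]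
        _ = (g * c) * z * (g * c)⁻¹ := by group
    have e2 : g * (c * y' * c⁻¹) * g⁻¹ = (g * c) * y' * (g * c)⁻¹ := by group
    rw [e1, e2, w1 (g * c) y' hy' hy1' hyz', ← cj_cj, cz_iff]
    rw [wt_conj h hy' hy1' hyz' hcc] at h1
    exact h1
  · -- conj
    rintro x y k hr
    obtain ⟨g, y0, hy, hy1, hyz, rfl, rfl⟩ := hr.rep h
    have e1 : k * (g * z * g⁻¹) * k⁻¹ = (k * g) * z * (k * g)⁻¹ := by group
    have e2 : k * (g * y0 * g⁻¹) * k⁻¹ = (k * g) * y0 * (k * g)⁻¹ := by group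
    rw [e1, e2]
    exact rel_base h hy hy1 hyz _
  · -- wconj
    intro x y k hr a ha
    obtain ⟨g, y0, hy, hy1, hyz, rfl, rfl⟩ := hr.rep h
    rw [w1 g y0 hy hy1 hyz] at ha
    have e1 : k * (g * z * g⁻¹) * k⁻¹ = (k * g) * z * (k * g)⁻¹ := by group
    have e2 : k * (g * y0 * g⁻¹) * k⁻¹ = (k * g) * y0 * (k * g)⁻¹ := by group
    rw [e1, e2, w1 (k * g) y0 hy hy1 hyz, ← cj_cj]
    exact conj_mem_cj ha
  · -- gg
    intro x y hr c hcx hcy h1 d hd hd1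
    obtain ⟨g, y0, hy, hy1, hyz, rfl, rfl⟩ := hr.rep h
    obtain ⟨c, rfl⟩ := exists_conj g c
    obtain ⟨d, rfl⟩ := exists_conj g d
    have hln : Eight.ln (g * z * g⁻¹) (g * y0 * g⁻¹) = cj g V := by
      apply le_antisymm
      · refine (closure_le _).mpr ?_
        rintro _ (rfl | rfl)
        · exact conj_mem_cj hz
        · exact conj_mem_cj hy
      · intro v hv
        obtain ⟨v, rfl⟩ := exists_conj g v
        rw [conj_back] at hv
        have m1 : g * z * g⁻¹ ∈ Eight.ln (g * z * g⁻¹) (g * y0 * g⁻¹) := subset_closure (Or.inl rfl)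
        have m2 : g * y0 * g⁻¹ ∈ Eight.ln (g * z * g⁻¹) (g * y0 * g⁻¹) := subset_closure (Or.inr rfl)
        rcases h.ln.four hz hy hz1 hy1 (Ne.symm hyz) hv with e1 | e1 | e1 | e1
        · rw [e1]; simp
        · rw [e1]; exact m1
        · rw [e1]; exact m2
        · rw [e1]
          have : g * (z * y0) * g⁻¹ = g * z * g⁻¹ * (g * y0 * g⁻¹) := by group
          rw [this]
          exact mul_mem m1 m2
    rw [hln] at h1 ⊢
    have hback : ∀ a : G, (g * c * g⁻¹) * (g * a * g⁻¹) = (g * a * g⁻¹) * (g * c * g⁻¹) → c * a = a * c := by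
      intro a ha
      calc c * a = g⁻¹ * ((g * c * g⁻¹) * (g * a * g⁻¹)) * g := by group
        _ = g⁻¹ * ((g * a * g⁻¹) * (g * c * g⁻¹)) * g := by rw [ha]
        _ = a * c := by group
    have hcV : c ∈ centralizer (V : Set G) := h.mem_centralizer_of hz hz1 hy hy1 hyz (hback _ hcx) (hback _ hcy)
    rw [w2 g y0 hy hy1 hyz, cz_iff] at hd1
    rw [w1 g y0 hy hy1 hyz, conj_back] at hd
    have e : g * c * g⁻¹ * (g * d * g⁻¹) * (g * c * g⁻¹)⁻¹ * (g * d * g⁻¹)⁻¹ =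
        g * (c * d * c⁻¹ * d⁻¹) * g⁻¹ := by group
    rw [e, conj_back]
    refine L.gg y0 hy hy1 hyz c hcV ?_ d hd hd1
    intro d' hd' hd1'
    have h2 := h1 (g * d' * g⁻¹) (by rw [w2 g y0 hy hy1 hyz, conj_back]; exact hd')
      (by rw [w1 g y0 hy hy1 hyz, cz_iff]; exact hd1')
    have e' : g * c * g⁻¹ * (g * d' * g⁻¹) * (g * c * g⁻¹)⁻¹ * (g * d' * g⁻¹)⁻¹ =
        g * (c * d' * c⁻¹ * d'⁻¹) * g⁻¹ := by group
    rwa [e', conj_back] at h2

/-- **Section 8**: at `r = 0` no element of `W_z - V` centralizes `W_y`. -/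
theorem false [Finite G] (L : LocE T V z cf) {y m : G} (hy : y ∈ V) (hy1 : y ≠ 1) (hyz : y ≠ z) (hm : m ∈ ww V cf z)
    (hmV : m ∉ V) (hc : ∀ b ∈ ww V cf y, m * b = b * m) : False := by
  have h := L.toFam
  have hz := h.ln.z_mem
  have hz1 := h.ln.z_ne
  have D := L.dat
  have w1 := WW_base h hz hz1 hy hy1 (Ne.symm hyz) 1
  have w2 := WW_base h hy hy1 hz hz1 hyz 1
  have hr := rel_base h hy hy1 hyz 1
  simp only [one_mul, inv_one, mul_one, cj_one] at w1 w2 hr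
  refine Eight.Tri.false (x := z) (y := y) (m := m) ⟨hr, ?_, ?_, ?_⟩ D
  · rw [w2]; exact hm
  · rw [D.bf_zero_iff hr, w1]; exact hc
  · intro h1
    apply hmV
    rw [D.mem_ln hr] at h1
    rcases h1 with rfl | rfl | rfl | rfl
    · exact one_mem _
    · exact hz
    · exact hy
    · exact mul_mem hz hy

end LocE

end Cfsg.Agent.Omega.NO3S.TV
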