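import Cfsg.Agent.Omega.NO3S.TV.Sub

/-!
# NO-3a.4, transvection types (helper311's text #16747): the outer end

* `Sys.exists_abelian` : if `u ⟂ v`, `u` in the component of `v`, implies `u = v`, then `H` has an abelian normal
  subgroup which is centralised by no transvection `a_v`;
* `Tvf.exists_abelian_of` : the same for the full family, from a statement on the connected subfamily.
-/

set_option autoImplicit false
set_option linter.unusedSectionVars false

namespace Cfsg.Agent.Omega.NO3S.TV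

open Subgroup Cfsg Cfsg.Agent.ZN Cfsg.Agent.MinSimple.Geo Cfsg.Agent.Omega.CaseL Cfsg.Agent.Omega.NO3S.Fit
open Cfsg.Agent.ZN.Block (conj_mem_of_normalizer conj_mem_of_normalizer' le_normalizer_of_forall
  mem_normalizer_of)

universe u

namespace Sys

variable {M : Type*} [AddCommGroup M] {X : Set M} {B : M → M → ZMod 2} {H : Type*} [Group H]
  [DistribMulAction H M]

/-- `a` is the transvection with centre `v` -/
def IsTv (B : M → M → ZMod 2) (a : H) (v : M) : Prop :=
  ∀ m : M, (B m v = 0 → a • m = m) ∧ (B m v = 1 → a • m = m + v)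

theorem isTv_unique [FaithfulSMul H M] {a b : H} {v : M} (ha : IsTv B a v) (hb : IsTv B b v) : a = b := by
  refine FaithfulSMul.eq_of_smul_eq_smul (M := H) (α := M) fun m => ?_
  rcases z2 (B m v) with e | e
  · rw [(ha m).1 e, (hb m).1 e]
  · rw [(ha m).2 e, (hb m).2 e]

theorem isTv_conj (A : Act X B H) {a x : H} {v : M} (ha : IsTv B a v) : IsTv B (x * a * x⁻¹) (x • v) := by
  intro m
  have e : B (x⁻¹ • m) v = B m (x • v) := by
    rw [← A.form x (x⁻¹ • m) v, smul_inv_smul]
  constructor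
  · intro h1
    rw [mul_smul, mul_smul, (ha _).1 (e.trans h1), smul_inv_smul]
  · intro h1
    rw [mul_smul, mul_smul, (ha _).2 (e.trans h1), smul_add, smul_inv_smul]

theorem exists_abelian (S : Sys X B) (A : Act X B H) [FaithfulSMul H M]
    (hP : ∀ v ∈ X, ∀ u ∈ cmp X B v, B u v = 0 → u = v) :
    ∃ N : Subgroup H, N.Normal ∧ (∀ a ∈ N, ∀ b ∈ N, a * b = b * a) ∧
      ∀ v ∈ X, ∀ a : H, IsTv B a v → ∃ n ∈ N, a * n ≠ n * a := by
  classical
  choose! τ hτ using A.tv
  have hτ' : ∀ v ∈ X, IsTv B (τ v) v := hτ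
  have h3 : ∀ u ∈ X, ∀ v ∈ X, ∀ w ∈ X, B u v = 1 → B v w = 1 → w = u ∨ w = u + v := by
    intro u hu v hv w hw huv hvw
    have hvu : B v u = 1 := by rw [S.symm]; exact huv
    rcases z2 (B w u) with e | e
    · left
      exact hP u hu w (cmp_step (cmp_step (self_mem_cmp u) hv huv) hw hvw) e
    · right
      have e' : B u w = 1 := by rw [S.symm]; exact e
      have h1 : u + w ∈ X := S.refl u hu w hw e'
      have h2 : u + w ∈ cmp X B v := cmp_step (cmp_step (self_mem_cmp v) hu hvu) h1
        (by rw [S.add_right, S.alt, e', zero_add])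
      have h4 : u + w = v := hP v hv _ h2 (by rw [S.add_left, huv, S.symm w v, hvw]; decide)
      rw [← h4, S.add_cancel]
  have hsq : ∀ v ∈ X, τ v * τ v = 1 := by
    intro v hv
    refine FaithfulSMul.eq_of_smul_eq_smul (M := H) (α := M) fun m => ?_
    rw [one_smul, mul_smul]
    rcases z2 (B m v) with e | e
    · rw [(hτ v hv m).1 e, (hτ v hv m).1 e]
    · rw [(hτ v hv m).2 e, (hτ v hv _).2 (by rw [S.add_left, e, S.alt, add_zero]), S.add_cancel']
  -- `τ u` and `τ v` commute if `u ⟂ v`
  have hcomm : ∀ u ∈ X, ∀ v ∈ X, B u v = 0 → τ u * τ v = τ v * τ u := by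
    intro u hu v hv e
    have h1 := isTv_conj A (x := τ u) (hτ' v hv)
    have h2 : τ u • v = v := (hτ u hu v).1 (by rw [S.symm]; exact e)
    rw [h2] at h1
    exact mul_inv_eq_iff_eq_mul.mp (isTv_unique h1 (hτ' v hv))
  -- `τ (u + v) = τ u τ v τ u`
  have hadd : ∀ u ∈ X, ∀ v ∈ X, B u v = 1 → τ (u + v) = τ u * τ v * τ u := by
    intro u hu v hv e
    have h1 := isTv_conj A (x := τ u) (hτ' v hv)
    have h2 : τ u • v = u + v := by
      rw [(hτ u hu v).2 (by rw [S.symm]; exact e), add_comm]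
    rw [h2] at h1
    have h4 : (τ u)⁻¹ = τ u := inv_eq_of_mul_eq_one_left (hsq u hu)
    rw [h4] at h1
    exact isTv_unique (hτ' _ (S.refl u hu v hv e)) h1
  -- neighbours
  have hstep : ∀ u ∈ X, ∀ v ∈ X, ∀ w ∈ X, B u v = 1 → B v w = 1 →
      τ v * τ w = τ u * τ v ∨ τ v * τ w = τ v * τ u := by
    intro u hu v hv w hw huv hvw
    rcases h3 u hu v hv w hw huv hvw with e | e
    · right; rw [e]
    · left
      have hvu : B v u = 1 := by rw [S.symm]; exact huv
      rw [e, add_comm, hadd v hv u hu hvu]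
      calc τ v * (τ v * τ u * τ v) = (τ v * τ v) * (τ u * τ v) := by group
        _ = τ u * τ v := by rw [hsq v hv, one_mul]
  have hinv : ∀ u ∈ X, ∀ v ∈ X, (τ u * τ v)⁻¹ = τ v * τ u := by
    intro u hu v hv
    rw [mul_inv_rev, inv_eq_of_mul_eq_one_left (hsq u hu), inv_eq_of_mul_eq_one_left (hsq v hv)]
  -- the generators of one component
  have hpar : ∀ u ∈ X, ∀ v ∈ X, ∀ w ∈ X, B u v = 1 → B v w = 1 →
      τ v * τ w = τ u * τ v ∨ τ v * τ w = (τ u * τ v)⁻¹ := by
    intro u hu v hv w hw huv hvw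
    rcases hstep u hu v hv w hw huv hvw with e | e
    · exact Or.inl e
    · right; rw [e, hinv u hu v hv]
  have hsame : ∀ u ∈ X, ∀ v ∈ X, ∀ u' ∈ X, ∀ v' ∈ X, B u v = 1 → B u' v' = 1 → B u u' = 1 →
      τ u' * τ v' = τ u * τ v ∨ τ u' * τ v' = (τ u * τ v)⁻¹ := by
    intro u hu v hv u' hu' v' hv' huv huv' huu
    have h1 := hpar v hv u hu u' hu' (by rw [S.symm]; exact huv) huu
    have h2 := hpar u hu u' hu' v' hv' huu huv'
    have h4 := hinv u hu v hv
    rcases h1 with e1 | e1 <;> rcases h2 with e2 | e2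
    · right; rw [e2, e1, h4]
    · left; rw [e2, e1, ← h4, inv_inv]
    · left; rw [e2, e1, ← h4, inv_inv]
    · right; rw [e2, e1, ← h4, inv_inv]
  -- generators commute
  have hgc : ∀ u ∈ X, ∀ v ∈ X, ∀ u' ∈ X, ∀ v' ∈ X, B u v = 1 → B u' v' = 1 →
      (τ u * τ v) * (τ u' * τ v') = (τ u' * τ v') * (τ u * τ v) := by
    intro u hu v hv u' hu' v' hv' huv huv'
    have key : ∀ g k : H, (k = g ∨ k = g⁻¹) → g * k = k * g := by
      rintro g k (rfl | rfl)
      · rfl
      · rw [mul_inv_cancel, inv_mul_cancel]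
    have huvs : B v u = 1 := by rw [S.symm]; exact huv
    have huvs' : B v' u' = 1 := by rw [S.symm]; exact huv'
    have i1 := hinv u hu v hv
    have i2 := hinv u' hu' v' hv'
    rcases z2 (B u u') with e1 | e1
    · rcases z2 (B u v') with e2 | e2
      · rcases z2 (B v u') with e3 | e3
        · rcases z2 (B v v') with e4 | e4
          · have c1 := hcomm u hu u' hu' e1
            have c2 := hcomm u hu v' hv' e2
            have c3 := hcomm v hv u' hu' e3
            have c4 := hcomm v hv v' hv' e4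
            calc (τ u * τ v) * (τ u' * τ v') = τ u * (τ v * τ u') * τ v' := by group
              _ = τ u * (τ u' * τ v) * τ v' := by rw [c3]
              _ = (τ u * τ u') * (τ v * τ v') := by group
              _ = (τ u' * τ u) * (τ v' * τ v) := by rw [c1, c4]
              _ = τ u' * (τ u * τ v') * τ v := by group
              _ = τ u' * (τ v' * τ u) * τ v := by rw [c2]
              _ = (τ u' * τ v') * (τ u * τ v) := by group
          · apply key
            rcases hsame v hv u hu v' hv' u' hu' huvs huvs' e4 with e | e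
            · left; rw [← i1, ← i2] at e; exact inv_injective e
            · right; rw [← i1, ← i2] at e; exact inv_injective e
        · apply key
          rcases hsame v hv u hu u' hu' v' hv' huvs huv' e3 with e | e
          · right; rw [e, i1]
          · left; rw [e, ← i1, inv_inv]
      · apply key
        rcases hsame u hu v hv v' hv' u' hu' huv huvs' e2 with e | e
        · right; rw [← i2] at e; rw [← e, inv_inv]
        · left; rw [← i2] at e; exact inv_injective e
    · exact key _ _ (hsame u hu v hv u' hu' v' hv' huv huv' e1)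
  let Y : Set H := {g | ∃ u ∈ X, ∃ v ∈ X, B u v = 1 ∧ g = τ u * τ v}
  refine ⟨closure Y, ?_, ?_, ?_⟩
  · refine ⟨fun n hn x => ?_⟩
    have key : closure Y ≤ (closure Y).comap (MulAut.conj x).toMonoidHom := by
      rw [closure_le]
      rintro _ ⟨u, hu, v, hv, huv, rfl⟩
      change x * (τ u * τ v) * x⁻¹ ∈ closure Y
      have hu' := A.smul_mem x u hu
      have hv' := A.smul_mem x v hv
      have e1 := isTv_unique (isTv_conj A (x := x) (hτ' u hu)) (hτ' _ hu')
      have e2 := isTv_unique (isTv_conj A (x := x) (hτ' v hv)) (hτ' _ hv')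
      refine subset_closure ⟨x • u, hu', x • v, hv', by rw [A.form]; exact huv, ?_⟩
      rw [← e1, ← e2]; group
    exact key hn
  · have h5 : closure Y ≤ centralizer (closure Y : Set H) := by
      have h6 : closure Y ≤ centralizer Y := by
        rw [closure_le]
        rintro _ ⟨u, hu, v, hv, huv, rfl⟩
        rw [SetLike.mem_coe, mem_centralizer_iff]
        rintro _ ⟨u', hu', v', hv', huv', rfl⟩
        exact (hgc u hu v hv u' hu' v' hv' huv huv').symm
      rw [centralizer_closure]
      exact h6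
    intro a ha b hb
    exact (mem_centralizer_iff.mp (h5 ha) b hb).symm
  · intro v hv a ha
    obtain ⟨u, hu, hvu⟩ := S.exists_nd hv
    refine ⟨τ v * τ u, subset_closure ⟨v, hv, u, hu, hvu, rfl⟩, fun e => ?_⟩
    rw [isTv_unique ha (hτ' v hv)] at e
    -- `τ v` commutes with `τ u`
    have h7 : τ u = τ v * τ u * τ v := by
      calc τ u = (τ v * τ v) * τ u := by rw [hsq v hv, one_mul]
        _ = τ v * (τ v * τ u) := by group
        _ = τ v * τ u * τ v := e
    have e1 : τ v * τ u = τ u * τ v := by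
      calc τ v * τ u = τ v * (τ v * τ u * τ v) := by rw [← h7]
        _ = (τ v * τ v) * τ u * τ v := by group
        _ = τ u * τ v := by rw [hsq v hv, one_mul]
    have e2 := congrArg (fun g : H => g • v) e1
    simp only [mul_smul] at e2
    have huv : B u v = 1 := by rw [S.symm]; exact hvu
    rw [(hτ u hu v).2 hvu, (hτ v hv v).1 (S.alt v), (hτ u hu v).2 hvu, smul_add, (hτ v hv v).1 (S.alt v),
      (hτ v hv u).2 huv] at e2
    have e3 : u + v = u := add_left_cancel e2
    exact S.ne_zero hv (by simpa using e3)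

end Sys

namespace Tvf

variable {G : Type u} [Group G] {T V : Subgroup G} {z : G} {cf : G → Subgroup G}

/-- **the outer end**: if the connected subfamilies have `TT' ∩ v0^⊥ = {v0}`, then `H` has an abelian normal subgroup
which is not centralised by `A` -/
theorem exists_abelian_of (h : Tvf T V z cf) [Finite G] {M H : Type u} [AddCommGroup M] [Group H]
    [DistribMulAction H M] [FaithfulSMul H M] (R : MRep V cf z M H) {y : G} (hy : y ∈ V) (hy1 : y ≠ 1) (hyz : y ≠ z)
    (hM : ∀ cf' : G → Subgroup G, Tvf T V z cf' → (∀ p ∈ V, p ≠ 1 → cf' p ≤ cf p) →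
      ∀ (M' H' : Type u) [AddCommGroup M'] [Group H'] [DistribMulAction H' M'] [FaithfulSMul H' M']
        (R' : MRep V cf' z M' H') (B' : M' → M' → ZMod 2), IsB R' B' → Conn (TT R') B' →
        ∀ t ∈ pts V cf' z, B' (R'.pi t) (R'.pi y) = 0 → R'.pi t = R'.pi y) :
    ∃ N : Subgroup H, N.Normal ∧ (∀ a ∈ N, ∀ b ∈ N, a * b = b * a) ∧
      ∀ w ∈ ww V cf y, w ∉ qq V cf z → ∃ n ∈ N, R.phi w * n ≠ n * R.phi w := by
  obtain ⟨B, hB⟩ := h.exists_isB R
  have S := h.sys R hB
  have A := h.act R hB
  have hyp := mem_pts (cf := cf) hy hy1 hyz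
  have hv := pi_mem_TT R hyp
  have F := h.sub R hB hy hy1 hyz
  -- the component of `v0`
  have h0 : ∀ u ∈ cmp (TT R) B (R.pi y), B u (R.pi y) = 0 → u = R.pi y := by
    intro u hu hu0
    obtain ⟨t, ht, rfl⟩ := cmp_sub hv hu
    obtain ⟨M', H', _, _, _, _, _, _, ⟨R'⟩⟩ := F.exists_mrep
    obtain ⟨B', hB'⟩ := F.exists_isB R'
    have ht' := (h.sub_pts R hB hy hy1 hyz).mpr ⟨ht, hu⟩
    have hy' : y ∈ pts V (h.cfc R hB hy hy1 hyz) z := mem_pts hy hy1 hyz
    have e := h.sub_form_pt R hB hy hy1 hyz R' hB' (F.pt_mem ht') hy'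
    have e1 := hM _ F (fun p hp hp1 => h.cfc_le R hB hy hy1 hyz hp hp1) M' H' R' B' hB'
      (h.sub_conn R hB hy hy1 hyz R' hB') t ht' (e.trans hu0)
    rw [R'.pi_eq F.toFam (F.pt_mem ht') (F.pt_mem hy')] at e1
    exact (R.pi_eq h.toFam (h.pt_mem ht) (h.pt_mem hyp)).mpr e1
  have hP : ∀ v ∈ TT R, ∀ u ∈ cmp (TT R) B v, B u v = 0 → u = v := by
    intro v hvv u hu hu0
    obtain ⟨x, hx⟩ := h.TT_trans R hvv hv
    have h1 := cmp_smul A x hu
    rw [hx] at h1
    have h2 : B (x • u) (R.pi y) = 0 := by rw [← hx, A.form]; exact hu0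
    have h3 := h0 _ h1 h2
    rw [← hx] at h3
    exact smul_left_cancel x h3
  obtain ⟨N, hN, hN1, hN2⟩ := S.exists_abelian A hP
  refine ⟨N, hN, hN1, fun w hw hwz => hN2 _ hv _ ?_⟩
  have hwt : w ∈ wt V cf z y := by rw [wt_eq h.toFam hy hy1 hyz]; exact hw
  exact fun m => h.phi_wt R hB hyp hwt hwz m

end Tvf

end Cfsg.Agent.Omega.NO3S.TV
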