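import Cfsg.Agent.Omega.NO3S.TV.Main
import Cfsg.Agent.Omega.NO3S.TV.End
import Cfsg.Agent.Omega.NO3S.TwoOne.Main

/-!
# NO-3S, `q = 2`, `n = 1`: THEOREM TV (helper311's text #16747), the assembly (helper918)

* `allConn_of_conn` : the graph is connected for every module if it is so for one;
* `Tvf.exists_abelian_full` : for a full transvection family `H` has an abelian normal subgroup which is not
  centralized by the image of any `w ∈ W_y - Q_z`;
* `tvf_of_tv` : `Fam`, `k = 1`, some `w ∈ W_y - Q_z` acts as a transvection with centre `y` ⟹ `Tvf`;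
* `tv_false` : **THEOREM TV**: impossible if `A` centralizes every nilpotent normal subgroup of `H`.
-/

set_option autoImplicit false
set_option linter.unusedSectionVars false

namespace Cfsg.Agent.Omega.NO3S.TV

open Subgroup Cfsg Cfsg.Agent.ZN Cfsg.Agent.MinSimple.Geo Cfsg.Agent.Omega.CaseL Cfsg.Agent.Omega.NO3S.Fit
open Cfsg.Agent.ZN.Block (conj_mem_of_normalizer conj_mem_of_normalizer' le_normalizer_of_forall
  mem_normalizer_of)

universe u

variable {G : Type u} [Group G] {T V : Subgroup G} {z : G} {cf : G → Subgroup G}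
variable {M H : Type u} [AddCommGroup M] [Group H] [DistribMulAction H M] {B : M → M → ZMod 2}

theorem allConn_of_conn [Finite G] (h : Tvf T V z cf) (R : MRep V cf z M H) (hB : IsB R B) (hc : Conn (TT R) B) :
    AllConn V cf z := by
  intro M2 H2 _ _ _ R2 B2 hB2 S2 hS2 hne hcl
  let S1 : Set M := {m | ∃ t ∈ pts V cf z, R.pi t = m ∧ R2.pi t ∈ S2}
  have hsub : S1 ⊆ TT R := by
    rintro m ⟨t, ht, rfl, -⟩
    exact Tvf.pi_mem_TT R ht
  have hall : TT R ⊆ S1 := by
    refine hc S1 hsub ?_ ?_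
    · obtain ⟨m, hm⟩ := hne
      obtain ⟨t, ht, rfl⟩ := hS2 hm
      exact ⟨R.pi t, t, ht, rfl, hm⟩
    · rintro _ ⟨t, ht, rfl, htS⟩ _ ⟨t', ht', rfl⟩ h1
      refine ⟨t', ht', rfl, hcl _ htS _ (Tvf.pi_mem_TT R2 ht') ?_⟩
      refine z2_ne fun h2 => ?_
      rw [h.form_pt R2 hB2 ht' (h.pt_mem ht), ← h.form_pt R hB ht' (h.pt_mem ht)] at h2
      rw [h2] at h1
      exact zero_ne_one h1
  rintro _ ⟨t, ht, rfl⟩
  obtain ⟨t', ht', e, hS⟩ := hall (Tvf.pi_mem_TT R ht)
  have e2 : R2.pi t = R2.pi t' := by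
    rw [R2.pi_eq h.toFam (h.pt_mem ht) (h.pt_mem ht'), ← R.pi_eq h.toFam (h.pt_mem ht) (h.pt_mem ht'), e]
  rw [e2]
  exact hS

namespace Tvf

/-- the points of `V` are the only ones perpendicular to `y` in a connected family -/
theorem perp_unique [Finite G] (h : Tvf T V z cf) (hj : jj V cf ≤ V) (R : MRep V cf z M H) (hB : IsB R B)
    (hc : Conn (TT R) B) {y t : G} (hy : y ∈ V) (hy1 : y ≠ 1) (hyz : y ≠ z) (ht : t ∈ pts V cf z)
    (h0 : B (R.pi t) (R.pi y) = 0) : R.pi t = R.pi y := by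
  have htk : t ∈ kk V cf y := (h.perp_iff R hB hy hy1 hyz (h.pt_mem ht)).mp h0
  by_contra hne
  have htV : t ∉ V := by
    intro htV
    apply hne
    rcases h.ln.four h.z_mem hy h.z_ne hy1 (Ne.symm hyz) htV with e | e | e | e
    · exact absurd e (h.pt_ne ht)
    · exact absurd e (h.pt_nz ht)
    · rw [e]
    · rw [e]; exact h.pi_zmul R (h.V_le hy)
  exact h.false_of_conn hj (allConn_of_conn h R hB hc) hy hy1 hyz ht htk htV

/-- **THEOREM TV**, first form -/
theorem exists_abelian_full [Finite G] [Finite M] [Finite H] [FaithfulSMul H M] (h : Tvf T V z cf)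
    (full : ∀ p ∈ V, p ≠ 1 → centralizer ({p} : Set G) ≤ cf p) (R : MRep V cf z M H)
    {y : G} (hy : y ∈ V) (hy1 : y ≠ 1) (hyz : y ≠ z) :
    ∃ N : Subgroup H, N.Normal ∧ (∀ a ∈ N, ∀ b ∈ N, a * b = b * a) ∧
      ∀ w ∈ ww V cf y, w ∉ qq V cf z → ∃ n ∈ N, R.phi w * n ≠ n * R.phi w := by
  obtain ⟨B, hB⟩ := h.exists_isB R
  have hj : jj V cf ≤ V := by
    have e := h.TT_eq R hy hy1 hyz
    have S := h.sys R hB
    have I := h.inj R hB
    have A := h.act R hB
    rw [e] at S I A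
    refine jj_le_V h.toFam full R hy hy1 hyz h.cm_two S I A ?_
    intro w hw hwy
    rw [h.perp_iff R hB hy hy1 hyz hw, kk, mem_centralizer_iff]
    exact fun b hb => (hwy b hb).symm
  refine h.exists_abelian_of R hy hy1 hyz ?_
  intro cf' h' hle M' H' _ _ _ _ R' B' hB' hc' t ht h0
  exact h'.perp_unique ((jj_mono hle).trans hj) R' hB' hc' hy hy1 hyz ht h0

end Tvf

/-- `k = 1` and a transvection ⟹ `Tvf` -/
theorem tvf_of_tv [Finite G] (h : Fam T V z cf) (hk : Fam.One1 V cf) (R : MRep V cf z M H) {y w0 : G} (hy : y ∈ V)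
    (hy1 : y ≠ 1) (hyz : y ≠ z) (hw0 : w0 ∈ ww V cf y) (hw0z : w0 ∉ qq V cf z)
    (htv : ∀ m : M, R.phi w0 • m = m ∨ R.phi w0 • m = m + R.pi y) : Tvf T V z cf where
  toFam := h
  one := hk
  comm' := by
    have hz := h.ln.z_mem
    have hz1 := h.ln.z_ne
    have key : ∀ a ∈ ww V cf z, ∀ b ∈ ww V cf y, a * b * a⁻¹ * b⁻¹ ∈ V := by
      intro a ha b hb
      have hbc := h.ww_le_cf' hy hy1 hz hz1 hb
      have hw0c := h.ww_le_cf' hy hy1 hz hz1 hw0
      have e : a * b * a⁻¹ * b⁻¹ = (b * a * b⁻¹ * a⁻¹)⁻¹ := by group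
      rw [e]
      apply inv_mem
      have hba : b * a * b⁻¹ ∈ ww V cf z := conj_mem_wf hbc ha
      by_cases hbz : b ∈ qq V cf z
      · rcases h.qq_cases hz hbz ha with e1 | e1
        · rw [e1, mul_inv_cancel]; exact one_mem _
        · rw [e1, mul_inv_cancel_right]; exact hz
      · have h1 : R.phi b = R.phi w0 := by
          have h2 := hk y hy hy1 z hz hz1 (Ne.symm hyz) b hb w0 hw0 hbz hw0z
          have h3 : R.phi (b * w0) = 1 := (R.phi_ker _ (mul_mem hbc hw0c)).mpr h2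
          rw [R.phi_mul b hbc w0 hw0c] at h3
          have h4 : R.phi w0 * R.phi w0 = 1 := R.sq_A h hy hy1 hw0
          calc R.phi b = R.phi b * (R.phi w0 * R.phi w0) := by rw [h4, mul_one]
            _ = R.phi b * R.phi w0 * R.phi w0 := by rw [mul_assoc]
            _ = R.phi w0 := by rw [h3, one_mul]
        have h5 : R.phi b • R.pi a = R.pi (b * a * b⁻¹) := R.act b hbc a ha
        rw [h1] at h5
        rcases htv (R.pi a) with h6 | h6
        · rw [h6] at h5
          rcases (R.pi_eq h hba ha).mp h5.symm with e1 | e1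
          · rw [e1, mul_inv_cancel]; exact one_mem _
          · rw [e1, mul_inv_cancel_right]; exact hz
        · rw [h6] at h5
          have hya : y * a ∈ ww V cf z := mul_mem (h.V_le hy) ha
          have h7 : R.pi (b * a * b⁻¹) = R.pi (y * a) := by
            rw [← h5, R.pi_mul y (h.V_le hy) a ha, add_comm]
          rcases (R.pi_eq h hba hya).mp h7 with e1 | e1
          · rw [e1, mul_inv_cancel_right]; exact hy
          · have : b * a * b⁻¹ * a⁻¹ = z * y := by rw [e1]; group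
            rw [this]; exact mul_mem hz hy
    intro p hp hp1 q hq hq1 hqp a ha b hb
    obtain ⟨g, hg, e1, e2⟩ := h.trans2 hp hp1 hq hq1 hqp hz hz1 hy hy1 hyz
    have h1 := h.conj_ww hg hp hp1 ha
    have h2 := h.conj_ww hg hq hq1 hb
    rw [e1] at h1
    rw [e2] at h2
    have h3 := h.conj_pt' hg (key _ h1 _ h2)
    have e3 : g⁻¹ * (g * a * g⁻¹ * (g * b * g⁻¹) * (g * a * g⁻¹)⁻¹ * (g * b * g⁻¹)⁻¹) * g = a * b * a⁻¹ * b⁻¹ := by
      group
    rwa [e3] at h3

open Cfsg.Agent.Omega.NO3S.TwoOne in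
/-- **THEOREM TV**: if `A = ⟨a⟩` centralizes the nilpotent normal subgroups of `H`, then `a` is not a transvection
with centre `v0`. -/
theorem tv_false [Finite G] [Finite M] [Finite H] [FaithfulSMul H M] (h : Fam T V z cg) (hk : Fam.One1 V cg)
    (R : MRep V cg z M H) (hcen : CenFit R) {y w0 : G} (hy : y ∈ V) (hy1 : y ≠ 1) (hyz : y ≠ z)
    (hw0 : w0 ∈ ww V cg y) (hw0z : w0 ∉ qq V cg z)
    (htv : ∀ m : M, R.phi w0 • m = m ∨ R.phi w0 • m = m + R.pi y) : False := by
  have hT := tvf_of_tv h hk R hy hy1 hyz hw0 hw0z htv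
  obtain ⟨N, hN, hab, hne⟩ := hT.exists_abelian_full (fun p _ _ => le_rfl) R hy hy1 hyz
  obtain ⟨n, hn, hne⟩ := hne w0 hw0 hw0z
  apply hne
  have hcomm : ∀ a b : N, a * b = b * a := fun a b => Subtype.ext (hab a a.2 b b.2)
  have hnil : Group.IsNilpotent N := by
    let _ : CommGroup N := { (inferInstance : Group N) with mul_comm := hcomm }
    exact CommGroup.isNilpotent
  have h1 := hcen N hN hnil y hy hy1 hyz
  have hwc := h.ww_le_cf' hy hy1 h.ln.z_mem h.ln.z_ne
  have h2 : R.phi w0 ∈ R.img (ww V cg y) := (R.mem_img (fun w hw => hwc hw)).mpr ⟨w0, hw0, rfl⟩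
  exact (mem_centralizer_iff.mp (h1 h2) n hn).symm

end Cfsg.Agent.Omega.NO3S.TV
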