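import Cfsg.Agent.Omega.NO3S.TV.Def
import Cfsg.Agent.Omega.NO3S.TV.Abs

/-!
# NO-3a.4, transvection types (helper311's text #16747): section 1

`h : Tvf T V z cf` (`k = 1`, `[W_p, W_q] ≤ V`), `R : MRep V cf z M H`, `y ∈ V`, `y ≠ 1, z`, `v0 = R.pi y`.

* `Tvf.point` : every point of `V` is as good as `z`;
* `Tvf.exists_special`, `Tvf.pre` : (1.1) for `v0` and `a0 = φ(w0)`, `w0 ∈ W_y - Q_z`;
* `Tvf.rel` : the GOOD case: `W_p ∩ Q_q` centralises `W_q`, `⁅a, b⁆ = p q` otherwise.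
-/

set_option autoImplicit false
set_option linter.unusedSectionVars false

namespace Cfsg.Agent.Omega.NO3S.TV

open Subgroup Cfsg Cfsg.Agent.ZN Cfsg.Agent.MinSimple.Geo Cfsg.Agent.Omega.CaseL Cfsg.Agent.Omega.NO3S.Fit
open scoped commutatorElement
open Cfsg.Agent.ZN.Block (conj_mem_of_normalizer conj_mem_of_normalizer' le_normalizer_of_forall
  mem_normalizer_of)

universe u

variable {G : Type u} [Group G]

/-! ### commutators -/

/-- the commutator, expanded -/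
theorem cm_def (a b : G) : ⁅a, b⁆ = a * b * a⁻¹ * b⁻¹ := rfl

theorem cm_eq_one {a b : G} : ⁅a, b⁆ = 1 ↔ a * b = b * a := commutatorElement_eq_one_iff_mul_comm

theorem cm_inv (a b : G) : ⁅a, b⁆⁻¹ = ⁅b, a⁆ := commutatorElement_inv a b

theorem cm_conj (g a b : G) : g * ⁅a, b⁆ * g⁻¹ = ⁅g * a * g⁻¹, g * b * g⁻¹⁆ := by
  rw [cm_def, cm_def]; group

/-- `⁅a, b c⁆ = ⁅a, b⁆ ⁅a, c⁆` if `b` commutes with `⁅a, c⁆` -/
theorem cm_mul_right {a b c : G} (h : b * ⁅a, c⁆ = ⁅a, c⁆ * b) : ⁅a, b * c⁆ = ⁅a, b⁆ * ⁅a, c⁆ := by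
  have e : ⁅a, b * c⁆ = ⁅a, b⁆ * (b * ⁅a, c⁆ * b⁻¹) := by simp only [cm_def]; group
  rw [e, h]; group

/-- `⁅a b, c⁆ = ⁅a, c⁆ ⁅b, c⁆` if `a` commutes with `⁅b, c⁆` and with the product -/
theorem cm_mul_left {a b c : G} (h : a * ⁅b, c⁆ = ⁅b, c⁆ * a) (h' : ⁅b, c⁆ * ⁅a, c⁆ = ⁅a, c⁆ * ⁅b, c⁆) :
    ⁅a * b, c⁆ = ⁅a, c⁆ * ⁅b, c⁆ := by
  have e : ⁅a * b, c⁆ = (a * ⁅b, c⁆ * a⁻¹) * ⁅a, c⁆ := by simp only [cm_def]; group
  rw [e, h, ← h']; group

variable {T V : Subgroup G} {z : G} {cf : G → Subgroup G}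

namespace Tvf

/-! ### points -/

theorem point (h : Tvf T V z cf) {p : G} (hp : p ∈ V) (hp1 : p ≠ 1) :
    ∃ g ∈ normalizer (V : Set G), g * z * g⁻¹ = p ∧ Tvf (cj g T) V p cf := by
  obtain ⟨g, hg, e, hf⟩ := h.toFam.point hp hp1
  exact ⟨g, hg, e, ⟨hf, h.one, h.comm'⟩⟩

variable (h : Tvf T V z cf)
include h

theorem z_mem : z ∈ V := h.ln.z_mem

theorem z_ne : z ≠ 1 := h.ln.z_ne

/-- `⁅a, b⁆ ∈ V` -/
theorem cm_mem {p q : G} (hp : p ∈ V) (hp1 : p ≠ 1) (hq : q ∈ V) (hq1 : q ≠ 1) (hqp : q ≠ p) {a b : G}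
    (ha : a ∈ ww V cf p) (hb : b ∈ ww V cf q) : ⁅a, b⁆ ∈ V := h.comm' p hp hp1 q hq hq1 hqp a ha b hb

/-- elements of `W_p` commute with the elements of `V` -/
theorem wV {p v a : G} (hp : p ∈ V) (hp1 : p ≠ 1) (ha : a ∈ ww V cf p) (hv : v ∈ V) : a * v = v * a :=
  (mem_centralizer_iff.mp (h.ww_le_cent hp hp1 ha) v hv).symm

theorem VV {v w : G} (hv : v ∈ V) (hw : w ∈ V) : v * w = w * v :=
  h.comm h.z_mem h.z_ne v (h.V_le hv) w (h.V_le hw)

/-- `⁅a, b c⁆ = ⁅a, b⁆ ⁅a, c⁆` -/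
theorem cm_mulr {p q : G} (hp : p ∈ V) (hp1 : p ≠ 1) (hq : q ∈ V) (hq1 : q ≠ 1) (hqp : q ≠ p) {a b c : G}
    (ha : a ∈ ww V cf p) (hb : b ∈ ww V cf q) (hc : c ∈ ww V cf q) : ⁅a, b * c⁆ = ⁅a, b⁆ * ⁅a, c⁆ :=
  cm_mul_right (h.wV hq hq1 hb (h.cm_mem hp hp1 hq hq1 hqp ha hc))

/-- `⁅a b, c⁆ = ⁅a, c⁆ ⁅b, c⁆` -/
theorem cm_mull {p q : G} (hp : p ∈ V) (hp1 : p ≠ 1) (hq : q ∈ V) (hq1 : q ≠ 1) (hqp : q ≠ p) {a b c : G}
    (ha : a ∈ ww V cf p) (hb : b ∈ ww V cf p) (hc : c ∈ ww V cf q) : ⁅a * b, c⁆ = ⁅a, c⁆ * ⁅b, c⁆ :=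
  cm_mul_left (h.wV hp hp1 ha (h.cm_mem hp hp1 hq hq1 hqp hb hc))
    (h.VV (h.cm_mem hp hp1 hq hq1 hqp hb hc) (h.cm_mem hp hp1 hq hq1 hqp ha hc))

/-- the commutator is symmetric -/
theorem cm_symm {p q : G} (hp : p ∈ V) (hp1 : p ≠ 1) (hq : q ∈ V) (hq1 : q ≠ 1) (hqp : q ≠ p) {a b : G}
    (ha : a ∈ ww V cf p) (hb : b ∈ ww V cf q) : ⁅b, a⁆ = ⁅a, b⁆ := by
  rw [← cm_inv, h.ln.inv_eq (h.cm_mem hp hp1 hq hq1 hqp ha hb)]

/-- `a ∈ W_p ∩ Q_q` iff `⁅a, b⁆ ∈ {1, q}` for all `b ∈ W_q` -/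
theorem mem_qq_iff {p q : G} (hp : p ∈ V) (hp1 : p ≠ 1) (hq : q ∈ V) (hq1 : q ≠ 1) {a : G}
    (ha : a ∈ ww V cf p) : a ∈ qq V cf q ↔ ∀ b ∈ ww V cf q, ⁅a, b⁆ = 1 ∨ ⁅a, b⁆ = q := by
  constructor
  · intro h1 b hb
    have := h1.2.2 b hb
    rwa [mem_zpowers_iff_of_mul_self (h.ln.sq q hq)] at this
  · intro h1
    refine ⟨h.ww_le_cf' hp hp1 hq hq1 ha, h.wV hp hp1 ha hq, fun b hb => ?_⟩
    rw [mem_zpowers_iff_of_mul_self (h.ln.sq q hq)]
    exact h1 b hb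

variable [Finite G]

/-- **The special element of `W_y`**: every `m ∈ W_z` with `⁅m, w⁆ ∈ {1, z}` commutes with `w`. -/
theorem exists_special {y : G} (hy : y ∈ V) (hy1 : y ≠ 1) (hyz : y ≠ z) :
    ∃ w ∈ ww V cf y, w ∉ qq V cf z ∧ ∀ m ∈ ww V cf z, (⁅m, w⁆ = 1 ∨ ⁅m, w⁆ = z) → m * w = w * m := by
  have hz := h.z_mem
  have hz1 := h.z_ne
  by_cases hb : ∃ w ∈ ww V cf y, w ∉ qq V cf z ∧ ∀ m ∈ ww V cf z, ⁅m, w⁆ = 1 ∨ ⁅m, w⁆ = y
  · obtain ⟨w, hw, hwz, hw1⟩ := hb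
    refine ⟨w, hw, hwz, fun m hm hmz => cm_eq_one.mp ?_⟩
    rcases hw1 m hm with e | e
    · exact e
    · rcases hmz with e' | e'
      · exact e'
      · rw [e] at e'; exact absurd e' hyz
  · push Not at hb
    obtain ⟨w0, hw0, hw0z⟩ := h.exists_not_qq hy hy1 hz hz1 (Ne.symm hyz)
    refine ⟨w0, hw0, hw0z, fun m hm hmz => cm_eq_one.mp ?_⟩
    -- all commutators of `m` are in `{1, z}`
    have hall : ∀ w ∈ ww V cf y, ⁅m, w⁆ = 1 ∨ ⁅m, w⁆ = z := by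
      intro w hw
      by_cases hwz : w ∈ qq V cf z
      · have := (h.mem_qq_iff hy hy1 hz hz1 hw).mp hwz m hm
        rwa [h.cm_symm hz hz1 hy hy1 hyz hm hw] at this
      · have h1 := h.one y hy hy1 z hz hz1 (Ne.symm hyz) w0 hw0 w hw hw0z hwz
        have h2 := (h.mem_qq_iff hy hy1 hz hz1 (mul_mem hw0 hw)).mp h1 m hm
        rw [h.cm_symm hz hz1 hy hy1 hyz hm (mul_mem hw0 hw), h.cm_mulr hz hz1 hy hy1 hyz hm hw0 hw] at h2
        have hzz := h.ln.sq z hz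
        rcases hmz with e | e <;> rcases h2 with e2 | e2 <;> rw [e] at e2
        · left; simpa using e2
        · right; simpa using e2
        · right
          calc ⁅m, w⁆ = z * z * ⁅m, w⁆ := by rw [hzz, one_mul]
            _ = z * (z * ⁅m, w⁆) := mul_assoc _ _ _
            _ = z := by rw [e2, mul_one]
        · left
          exact mul_left_cancel (e2.trans (mul_one z).symm)
    -- so `m ∈ Q_y` by the good case at `(y, z)`
    have hmy : m ∈ qq V cf y := by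
      by_contra hmy
      obtain ⟨g, hg, e1, e2⟩ := h.trans2 hz hz1 hy hy1 hyz hy hy1 hz hz1 (Ne.symm hyz)
      have hm' : g * m * g⁻¹ ∈ ww V cf y := by
        have := h.conj_ww hg hz hz1 hm
        rwa [e1] at this
      have hm'z : g * m * g⁻¹ ∉ qq V cf z := by
        intro h3
        apply hmy
        have := h.conj_qq (inv_mem hg) hz hz1 h3
        have e3 : g⁻¹ * z * g⁻¹⁻¹ = y := by rw [← e2]; group
        have e4 : g⁻¹ * (g * m * g⁻¹) * g⁻¹⁻¹ = m := by group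
        rwa [e3, e4] at this
      obtain ⟨n, hn, hn1⟩ := hb _ hm' hm'z
      have hn' : g⁻¹ * n * g ∈ ww V cf y := by
        have := h.conj_ww (inv_mem hg) hz hz1 hn
        have e3 : g⁻¹ * z * g⁻¹⁻¹ = y := by rw [← e2]; group
        rwa [e3, inv_inv] at this
      have e5 : g * ⁅g⁻¹ * n * g, m⁆ * g⁻¹ = ⁅n, g * m * g⁻¹⁆ := by
        rw [cm_conj]; congr 1; group
      have h6 := hall _ hn'
      rw [← h.cm_symm hz hz1 hy hy1 hyz hm hn'] at h6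
      rcases h6 with e6 | e6
      · rw [e6] at e5
        exact hn1.1 (by rw [← e5]; group)
      · rw [e6, e1] at e5
        exact hn1.2 e5.symm
    rcases (h.mem_qq_iff hz hz1 hy hy1 hm).mp hmy w0 hw0 with e | e
    · exact e
    · rcases hmz with e' | e'
      · exact e'
      · rw [e] at e'; exact absurd e' hyz

/-! ### (1.1) -/

variable {M H : Type u} [AddCommGroup M] [Group H] [DistribMulAction H M]

omit [Finite G] in
/-- all elements of `W_y - Q_z` have the same image -/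
theorem phi_eq_of (R : MRep V cf z M H) {y w w' : G} (hy : y ∈ V) (hy1 : y ≠ 1) (hyz : y ≠ z)
    (hw : w ∈ ww V cf y) (hw' : w' ∈ ww V cf y) (hwz : w ∉ qq V cf z) (hwz' : w' ∉ qq V cf z) :
    R.phi w = R.phi w' := by
  have hz := h.z_mem
  have hz1 := h.z_ne
  have hwc := h.ww_le_cf' hy hy1 hz hz1 hw
  have hwc' := h.ww_le_cf' hy hy1 hz hz1 hw'
  have h1 := h.one y hy hy1 z hz hz1 (Ne.symm hyz) w hw w' hw' hwz hwz'
  have h2 := (R.phi_ker _ (mul_mem hwc hwc')).mpr h1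
  rw [R.phi_mul w hwc w' hwc'] at h2
  calc R.phi w = R.phi w * (R.phi w' * R.phi w') := by rw [R.sq_A h.toFam hy hy1 hw', mul_one]
    _ = R.phi w' := by rw [← mul_assoc, h2, one_mul]

omit [Finite G] in
theorem phi_one_of (R : MRep V cf z M H) {w : G} (hw : w ∈ qq V cf z) : R.phi w = 1 :=
  (R.phi_ker w hw.1).mpr hw

/-- **(1.1)**, group part -/
theorem pre (R : MRep V cf z M H) [FaithfulSMul H M] {y w0 : G} (hy : y ∈ V) (hy1 : y ≠ 1) (hyz : y ≠ z)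
    (hw0 : w0 ∈ ww V cf y) (hw0z : w0 ∉ qq V cf z) : Abs.Pre (R.pi y) (R.phi w0) := by
  have hz := h.z_mem
  have hz1 := h.z_ne
  have hyW : y ∈ ww V cf z := h.V_le hy
  have hwc0 := h.ww_le_cf' hy hy1 hz hz1 hw0
  have hmv : ∀ m : M, R.phi w0 • m = m ∨ R.phi w0 • m = m + R.pi y := by
    intro m
    obtain ⟨b, hb, rfl⟩ := R.pi_surj m
    have h1 := R.comm_eq h.toFam hwc0 hb
    have hv : w0 * b * w0⁻¹ * b⁻¹ ∈ V := h.comm' y hy hy1 z hz hz1 (Ne.symm hyz) w0 hw0 b hb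
    rcases h.ln.four hz hy hz1 hy1 (Ne.symm hyz) hv with e | e | e | e
    · left; rw [e, R.pi_one h.toFam, sub_eq_zero] at h1; exact h1
    · left; rw [e, R.pi_z h.toFam, sub_eq_zero] at h1; exact h1
    · right; rw [e, sub_eq_iff_eq_add, add_comm] at h1; exact h1
    · right
      rw [e, R.pi_mul z h.z_mem_ww y hyW, R.pi_z h.toFam, zero_add, sub_eq_iff_eq_add, add_comm] at h1
      exact h1
  have hstab : ∀ x : H, x • R.pi y = R.pi y → x * R.phi w0 = R.phi w0 * x := by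
    intro x hx
    obtain ⟨w', hw', e, d, hd, rfl, rfl⟩ := R.norm_A h.toFam hy hy1 hy hy1 hyz hx hw0
    have hdc := h.cent_le_cf hz hz1 hd
    have hn : d * w0 * d⁻¹ ∉ qq V cf z := by
      intro h3
      apply hw0z
      have := conj_mem_of_normalizer (h.cf_norm_qq hz hz1) (inv_mem hdc) h3
      have e4 : d⁻¹ * (d * w0 * d⁻¹) * d⁻¹⁻¹ = w0 := by group
      rwa [e4] at this
    rw [h.phi_eq_of R hy hy1 hyz hw' hw0 hn hw0z] at e
    exact mul_inv_eq_iff_eq_mul.mp e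
  have hne : ∃ m : M, R.phi w0 • m ≠ m := by
    by_contra hcon
    push Not at hcon
    apply hw0z
    rw [← R.phi_ker w0 hwc0]
    refine FaithfulSMul.eq_of_smul_eq_smul (M := H) (α := M) fun m => ?_
    rw [one_smul, hcon]
  refine ⟨R.two h.toFam, hne, hmv, hstab, R.span h.toFam hy hy1 hyz, ?_⟩
  intro x hx
  obtain ⟨c, hc, rfl⟩ := R.phi_surj x
  obtain ⟨w, hw, hwz, hsp⟩ := h.exists_special hy hy1 hyz
  have hwc := h.ww_le_cf' hy hy1 hz hz1 hw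
  have he : R.phi w0 = R.phi w := h.phi_eq_of R hy hy1 hyz hw0 hw hw0z hwz
  have htW : c * y * c⁻¹ ∈ ww V cf z := conj_mem_wf hc hyW
  have hcz := h.cf_comm hz hz1 hc
  -- `w` commutes with `t`
  have hwt : (c * y * c⁻¹) * w = w * (c * y * c⁻¹) := by
    apply hsp _ htW
    rw [R.act c hc y hyW, he] at hx
    have h1 := R.comm_eq h.toFam hwc htW
    rw [hx, sub_self] at h1
    have h2 : w * (c * y * c⁻¹) * w⁻¹ * (c * y * c⁻¹)⁻¹ ∈ ww V cf z :=
      mul_mem (conj_mem_wf hwc htW) (inv_mem htW)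
    have h3 := (R.pi_ker _ h2).mp h1.symm
    have h4 : ⁅c * y * c⁻¹, w⁆ = ⁅w, c * y * c⁻¹⁆ := h.cm_symm hy hy1 hz hz1 (Ne.symm hyz) hw htW
    rw [h4]
    exact h3
  -- `c⁻¹ w c` centralizes `V`
  have hcen : c⁻¹ * w * c ∈ centralizer (V : Set G) := by
    refine h.mem_centralizer_of hz hz1 hy hy1 hyz ?_ ?_
    · have h1 : w * z = z * w := h.wV hy hy1 hw hz
      have h2 : c⁻¹ * z = z * c⁻¹ := (show Commute c z from hcz).inv_left
      calc c⁻¹ * w * c * z = c⁻¹ * w * (c * z) := by group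
        _ = c⁻¹ * w * (z * c) := by rw [hcz]
        _ = c⁻¹ * (w * z) * c := by group
        _ = c⁻¹ * (z * w) * c := by rw [h1]
        _ = c⁻¹ * z * w * c := by group
        _ = z * c⁻¹ * w * c := by rw [h2]
        _ = z * (c⁻¹ * w * c) := by group
    · calc c⁻¹ * w * c * y = c⁻¹ * (w * (c * y * c⁻¹)) * c := by group
        _ = c⁻¹ * ((c * y * c⁻¹) * w) * c := by rw [hwt]
        _ = y * (c⁻¹ * w * c) := by group
  have h5 : ((R.phi c)⁻¹ * R.phi w0 * R.phi c) • R.pi y = R.pi y := by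
    have := R.cent_v0 h.toFam hy hcen
    rwa [R.phi_mul _ (mul_mem (inv_mem hc) hwc) _ hc, R.phi_mul _ (inv_mem hc) _ hwc, R.phi_inv hc, ← he] at this
  have h6 := hstab _ h5
  -- `a0` commutes with `a_u`
  have h7 : (R.phi c * R.phi w0 * (R.phi c)⁻¹) * R.phi w0 = R.phi w0 * (R.phi c * R.phi w0 * (R.phi c)⁻¹) := by
    calc (R.phi c * R.phi w0 * (R.phi c)⁻¹) * R.phi w0
        = R.phi c * (R.phi w0 * ((R.phi c)⁻¹ * R.phi w0 * R.phi c)) * (R.phi c)⁻¹ := by group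
      _ = R.phi c * (((R.phi c)⁻¹ * R.phi w0 * R.phi c) * R.phi w0) * (R.phi c)⁻¹ := by rw [h6]
      _ = R.phi w0 * (R.phi c * R.phi w0 * (R.phi c)⁻¹) := by group
  obtain ⟨m, hm⟩ := hne
  have hm1 := (hmv m).resolve_left hm
  set a := R.phi c * R.phi w0 * (R.phi c)⁻¹ with ha
  have h8 : a • m + a • R.pi y = R.phi w0 • a • m := by
    rw [← smul_add, ← hm1, ← mul_smul, ← mul_smul, h7]
  rcases hmv (a • m) with e | e
  · rw [e] at h8
    have h9 : a • R.pi y = 0 := by simpa using h8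
    exact absurd ((smul_eq_zero_iff_eq a).mp h9) (R.v0_ne h.toFam hy hy1 hyz)
  · rw [e] at h8
    exact add_left_cancel h8

/-- the form exists -/
theorem exists_isForm (R : MRep V cf z M H) [FaithfulSMul H M] {y w0 : G} (hy : y ∈ V) (hy1 : y ≠ 1) (hyz : y ≠ z)
    (hw0 : w0 ∈ ww V cf y) (hw0z : w0 ∉ qq V cf z) : ∃ B, Abs.IsForm (R.pi y) (R.phi w0) B :=
  (h.pre R hy hy1 hyz hw0 hw0z).exists_form

/-- `W_z ∩ Q_y` is the orthogonal space of `y` -/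
theorem form_qq (R : MRep V cf z M H) {y w0 : G} (hy : y ∈ V) (hy1 : y ≠ 1) (hyz : y ≠ z)
    {B : M → M → ZMod 2} (F : Abs.IsForm (R.pi y) (R.phi w0) B) {w : G} (hw : w ∈ ww V cf z) :
    B (R.pi w) (R.pi y) = 0 ↔ w ∈ qq V cf y := by
  classical
  have hz := h.z_mem
  have hz1 := h.z_ne
  have hyW : y ∈ ww V cf z := h.V_le hy
  have hzQ : z ∈ qq V cf y := h.kk_le_qq hy hy1 (h.V_le_kk hy hy1 hz)
  let g : M → ZMod 2 := fun m => if ∃ w ∈ ww V cf z, R.pi w = m ∧ w ∈ qq V cf y then 0 else 1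
  have hg0 : ∀ w ∈ ww V cf z, g (R.pi w) = 0 ↔ w ∈ qq V cf y := by
    intro w hw
    constructor
    · intro h1
      by_contra hcon
      have h2 : ¬ ∃ w' ∈ ww V cf z, R.pi w' = R.pi w ∧ w' ∈ qq V cf y := by
        rintro ⟨w', hw', e, hq⟩
        rcases (R.pi_eq h.toFam hw' hw).mp e with e | e
        · exact hcon (e ▸ hq)
        · have : w = z * w' := by rw [e, ← mul_assoc, h.ln.sq z hz, one_mul]
          exact hcon (this ▸ mul_mem hzQ hq)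
      have h3 : g (R.pi w) = 1 := if_neg h2
      rw [h3] at h1
      exact one_ne_zero h1
    · intro h1
      exact if_pos ⟨w, hw, rfl, h1⟩
  have hg1 : ∀ w ∈ ww V cf z, g (R.pi w) = 1 ↔ w ∉ qq V cf y := by
    intro w hw
    rw [← hg0 w hw]
    exact Abs.zmod_ne_zero.symm
  have hadd : ∀ a b, g (a + b) = g a + g b := by
    intro a b
    obtain ⟨u, hu, rfl⟩ := R.pi_surj a
    obtain ⟨v, hv, rfl⟩ := R.pi_surj b
    rw [← R.pi_mul u hu v hv]
    by_cases h1 : u ∈ qq V cf y <;> by_cases h2 : v ∈ qq V cf y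
    · rw [(hg0 u hu).mpr h1, (hg0 v hv).mpr h2, (hg0 _ (mul_mem hu hv)).mpr (mul_mem h1 h2), add_zero]
    · rw [(hg0 u hu).mpr h1, (hg1 v hv).mpr h2, zero_add]
      refine (hg1 _ (mul_mem hu hv)).mpr fun h3 => h2 ?_
      have := mul_mem (inv_mem h1) h3
      rwa [inv_mul_cancel_left] at this
    · rw [(hg1 u hu).mpr h1, (hg0 v hv).mpr h2, add_zero]
      refine (hg1 _ (mul_mem hu hv)).mpr fun h3 => h1 ?_
      have := mul_mem h3 (inv_mem h2)
      rwa [mul_inv_cancel_right] at this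
    · rw [(hg1 u hu).mpr h1, (hg1 v hv).mpr h2, (hg0 _ (mul_mem hu hv)).mpr (h.one z hz hz1 y hy hy1 hyz u hu v hv h1 h2)]
      decide
  have hinv : ∀ x : H, x • R.pi y = R.pi y → ∀ m, g (x • m) = g m := by
    intro x hx m
    obtain ⟨d, hd, rfl⟩ := R.stab h.toFam hy hy1 hyz hx
    obtain ⟨u, hu, rfl⟩ := R.pi_surj m
    have hdc := h.cent_le_cf hz hz1 hd
    have hdy := h.cent_le_cf hy hy1 hd
    have hu' := conj_mem_wf hdc hu
    rw [R.act d hdc u hu]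
    have key : d * u * d⁻¹ ∈ qq V cf y ↔ u ∈ qq V cf y := by
      constructor
      · intro h1
        have := conj_mem_of_normalizer (h.cf_norm_qq hy hy1) (inv_mem hdy) h1
        have e4 : d⁻¹ * (d * u * d⁻¹) * d⁻¹⁻¹ = u := by group
        rwa [e4] at this
      · intro h1
        exact conj_mem_of_normalizer (h.cf_norm_qq hy hy1) hdy h1
    by_cases h1 : u ∈ qq V cf y
    · rw [(hg0 u hu).mpr h1, (hg0 _ hu').mpr (key.mpr h1)]
    · rw [(hg1 u hu).mpr h1, (hg1 _ hu').mpr fun h2 => h1 (key.mp h2)]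
  have h0 : ∀ u ∈ Set.range (fun x : H => x • R.pi y), B (R.pi y) u = 0 → g u = 0 := by
    rintro _ ⟨x, rfl⟩ hx
    obtain ⟨m, hm⟩ := F.sys.nd _ (Set.mem_range_self x)
    have h1 := F.fix x (R.pi y) hx
    have h2 := hinv _ h1 m
    rw [F.mv x m (by rw [F.symm]; exact hm), hadd] at h2
    simpa using h2
  have hgy : ∀ m, g m = B (R.pi y) m := by
    rcases F.sys.fun_eq ⟨1, one_smul _ _⟩ hadd h0 with h1 | h1
    · exfalso
      obtain ⟨w, hw, hwy⟩ := h.exists_not_qq hz hz1 hy hy1 hyz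
      exact hwy ((hg0 w hw).mp (h1 _))
    · exact h1
  rw [← hg0 w hw, hgy, F.symm]

omit [Finite G] in
/-- transport of `Q_q` by `N_G(V)` -/
theorem qq_conj_iff {g q a : G} (hg : g ∈ normalizer (V : Set G)) (hq : q ∈ V) (hq1 : q ≠ 1) :
    g * a * g⁻¹ ∈ qq V cf (g * q * g⁻¹) ↔ a ∈ qq V cf q := by
  constructor
  · intro h1
    have := h.conj_qq (inv_mem hg) (h.conj_pt hg hq) (Fam.conj_ne hq1) h1
    have e1 : g⁻¹ * (g * q * g⁻¹) * g⁻¹⁻¹ = q := by group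
    have e2 : g⁻¹ * (g * a * g⁻¹) * g⁻¹⁻¹ = a := by group
    rwa [e1, e2] at this
  · exact h.conj_qq hg hq hq1

/-- **GOOD**: `W_p ∩ Q_q` centralises `W_q` -/
theorem good {p q a b : G} (hp : p ∈ V) (hp1 : p ≠ 1) (hq : q ∈ V) (hq1 : q ≠ 1) (hqp : q ≠ p)
    (ha : a ∈ ww V cf p) (haq : a ∈ qq V cf q) (hb : b ∈ ww V cf q) : a * b = b * a := by
  have hz := h.z_mem
  have hz1 := h.z_ne
  -- at `(z, y)`
  have key : ∀ y ∈ V, y ≠ 1 → y ≠ z → ∀ w ∈ ww V cf z, w ∈ qq V cf y → ∀ b ∈ ww V cf y, ⁅w, b⁆ = 1 := by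
    intro y hy hy1 hyz w hw hwy b hb
    obtain ⟨w0, hw0, hw0z⟩ := h.exists_not_qq hy hy1 hz hz1 (Ne.symm hyz)
    obtain ⟨M, H, _, _, _, _, _, _, ⟨R⟩⟩ := h.exists_mrep
    obtain ⟨B, F⟩ := h.exists_isForm R hy hy1 hyz hw0 hw0z
    have h1 := (h.form_qq R hy hy1 hyz F hw).mpr hwy
    have hbc := h.ww_le_cf' hy hy1 hz hz1 hb
    have h2 : R.phi b • R.pi w = R.pi w := by
      by_cases hbz : b ∈ qq V cf z
      · rw [h.phi_one_of R hbz, one_smul]
      · rw [h.phi_eq_of R hy hy1 hyz hb hw0 hbz hw0z]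
        have := F.fix 1 (R.pi w) (by rwa [one_smul])
        rwa [one_mul, inv_one, mul_one] at this
    have h3 := R.comm_eq h.toFam hbc hw
    rw [h2, sub_self] at h3
    have h4 : b * w * b⁻¹ * w⁻¹ ∈ ww V cf z := mul_mem (conj_mem_wf hbc hw) (inv_mem hw)
    have h5 := (R.pi_ker _ h4).mp h3.symm
    have h6 := (h.mem_qq_iff hz hz1 hy hy1 hw).mp hwy b hb
    have h7 := h.cm_symm hz hz1 hy hy1 hyz hw hb
    rw [← cm_def, h7] at h5
    rcases h5 with e | e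
    · exact e
    · rcases h6 with e' | e'
      · exact e'
      · rw [e] at e'; exact absurd e'.symm hyz
  obtain ⟨y, hy, hy1, hyz⟩ := h.ln.exists_y
  obtain ⟨g, hg, e1, e2⟩ := h.trans2 hp hp1 hq hq1 hqp hz hz1 hy hy1 hyz
  have h1 := h.conj_ww hg hp hp1 ha
  have h2 := h.conj_ww hg hq hq1 hb
  have h3 := (h.qq_conj_iff hg hq hq1).mpr haq
  rw [e1] at h1
  rw [e2] at h2 h3
  have h4 := key y hy hy1 hyz _ h1 h3 _ h2
  rw [← cm_conj] at h4
  exact cm_eq_one.mp (conj_eq_one_iff.mp h4)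

/-- `⁅a, b⁆ = p q` for `a ∈ W_p - Q_q`, `b ∈ W_q - Q_p` -/
theorem cm_eq {p q a b : G} (hp : p ∈ V) (hp1 : p ≠ 1) (hq : q ∈ V) (hq1 : q ≠ 1) (hqp : q ≠ p)
    (ha : a ∈ ww V cf p) (haq : a ∉ qq V cf q) (hb : b ∈ ww V cf q) (hbp : b ∉ qq V cf p) :
    a * b * a⁻¹ * b⁻¹ = p * q := by
  -- the commutator is constant
  have hconst : ∀ a ∈ ww V cf p, a ∉ qq V cf q → ∀ b ∈ ww V cf q, b ∉ qq V cf p → ∀ a' ∈ ww V cf p,
      a' ∉ qq V cf q → ∀ b' ∈ ww V cf q, b' ∉ qq V cf p → ⁅a, b⁆ = ⁅a', b'⁆ := by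
    intro a ha haq b hb hbp a' ha' haq' b' hb' hbp'
    have h1 := h.one p hp hp1 q hq hq1 hqp a ha a' ha' haq haq'
    have h2 := h.one q hq hq1 p hp hp1 (Ne.symm hqp) b hb b' hb' hbp hbp'
    have h3 := cm_eq_one.mpr (h.good hp hp1 hq hq1 hqp (mul_mem ha ha') h1 hb)
    rw [h.cm_mull hp hp1 hq hq1 hqp ha ha' hb] at h3
    have h4 := cm_eq_one.mpr (h.good hq hq1 hp hp1 (Ne.symm hqp) (mul_mem hb hb') h2 ha').symm
    rw [h.cm_mulr hp hp1 hq hq1 hqp ha' hb hb'] at h4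
    have s1 := h.ln.sq _ (h.cm_mem hp hp1 hq hq1 hqp ha' hb)
    have s2 := h.ln.sq _ (h.cm_mem hp hp1 hq hq1 hqp ha' hb')
    calc ⁅a, b⁆ = ⁅a, b⁆ * (⁅a', b⁆ * ⁅a', b⁆) := by rw [s1, mul_one]
      _ = ⁅a', b⁆ := by rw [← mul_assoc, h3, one_mul]
      _ = ⁅a', b⁆ * (⁅a', b'⁆ * ⁅a', b'⁆) := by rw [s2, mul_one]
      _ = ⁅a', b'⁆ := by rw [← mul_assoc, h4, one_mul]
  -- it is not trivial
  have hne : ⁅a, b⁆ ≠ 1 := by
    obtain ⟨a', ha', b', hb', hab'⟩ := h.nc' hp hp1 hq hq1 hqp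
    have h1 : a' ∉ qq V cf q := fun h1 => hab' (h.good hp hp1 hq hq1 hqp ha' h1 hb')
    have h2 : b' ∉ qq V cf p := fun h2 => hab' (h.good hq hq1 hp hp1 (Ne.symm hqp) hb' h2 ha').symm
    rw [hconst a ha haq b hb hbp a' ha' h1 b' hb' h2]
    exact fun e => hab' (cm_eq_one.mp e)
  -- it is fixed by the elements which interchange `p` and `q`
  obtain ⟨g, hg, e1, e2⟩ := h.trans2 hp hp1 hq hq1 hqp hq hq1 hp hp1 (Ne.symm hqp)
  have h1 := h.conj_ww hg hp hp1 ha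
  have h2 := h.conj_ww hg hq hq1 hb
  have h3 : g * a * g⁻¹ ∉ qq V cf p := by
    intro h3
    rw [← e2] at h3
    exact haq ((h.qq_conj_iff hg hq hq1).mp h3)
  have h4 : g * b * g⁻¹ ∉ qq V cf q := by
    intro h4
    rw [← e1] at h4
    exact hbp ((h.qq_conj_iff hg hp hp1).mp h4)
  rw [e1] at h1
  rw [e2] at h2
  have h5 : g * ⁅a, b⁆ * g⁻¹ = ⁅a, b⁆ := by
    rw [cm_conj, h.cm_symm hp hp1 hq hq1 hqp h2 h1]
    exact hconst _ h2 h4 _ h1 h3 a ha haq b hb hbp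
  rw [← cm_def]
  rcases h.ln.four hp hq hp1 hq1 (Ne.symm hqp) (h.cm_mem hp hp1 hq hq1 hqp ha hb) with e | e | e | e
  · exact absurd e hne
  · rw [e, e1] at h5; exact absurd h5 hqp
  · rw [e, e2] at h5; exact absurd h5.symm hqp
  · exact e

omit [Finite G] in
theorem exists_wy [Finite G] : ∃ y ∈ V, y ≠ 1 ∧ y ≠ z ∧ ∃ w ∈ ww V cf y, w ∉ qq V cf z := by
  obtain ⟨y, hy, hy1, hyz⟩ := h.ln.exists_y
  obtain ⟨w, hw, hwz⟩ := h.exists_not_qq hy hy1 h.z_mem h.z_ne (Ne.symm hyz)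
  exact ⟨y, hy, hy1, hyz, w, hw, hwz⟩

end Tvf

section IsB

variable {M H : Type u} [AddCommGroup M] [Group H] [DistribMulAction H M]

/-- `B` is the form of `M = W_z/⟨z⟩` -/
def IsB (R : MRep V cf z M H) (B : M → M → ZMod 2) : Prop :=
  ∀ y ∈ V, y ≠ 1 → y ≠ z → ∀ w ∈ ww V cf y, w ∉ qq V cf z → Abs.IsForm (R.pi y) (R.phi w) B

/-- the orbit `TT` -/
def TT (R : MRep V cf z M H) : Set M := R.pi '' pts V cf z

end IsB

/-! ### points -/

namespace Tvf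

variable (h : Tvf T V z cf) {t : G} (ht : t ∈ pts V cf z)
include h ht

theorem pt_mem : t ∈ ww V cf z := by
  obtain ⟨y, hy, -, -, c, hc, rfl⟩ := ht
  exact conj_mem_wf hc (h.V_le hy)

theorem pt_ne : t ≠ 1 := by
  obtain ⟨y, hy, hy1, -, c, hc, rfl⟩ := ht
  exact fun e => hy1 (conj_eq_one_iff.mp e)

theorem pt_nz : t ≠ z := by
  obtain ⟨y, hy, hy1, hyz, c, hc, rfl⟩ := ht
  intro e
  apply hyz
  have h1 := h.cf_comm h.z_mem h.z_ne hc
  calc y = c⁻¹ * (c * y * c⁻¹) * c := by group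
    _ = c⁻¹ * (z * c) := by rw [e]; group
    _ = c⁻¹ * (c * z) := by rw [h1]
    _ = z := by group

theorem pt_z : z * t ∈ pts V cf z := by
  obtain ⟨y, hy, hy1, hyz, c, hc, rfl⟩ := ht
  have h1 := h.cf_comm h.z_mem h.z_ne hc
  refine ⟨z * y, mul_mem h.z_mem hy, h.mul_ne_one hy (Ne.symm hyz), fun e => hy1 (by simpa using e), c, hc, ?_⟩
  calc z * (c * y * c⁻¹) = (z * c) * y * c⁻¹ := by group
    _ = (c * z) * y * c⁻¹ := by rw [h1]
    _ = c * (z * y) * c⁻¹ := by group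

theorem pt_comm : t * z = z * t := h.ab t (h.pt_mem ht) z h.z_mem_ww

theorem pt_sq : t * t = 1 := h.sqz t (h.pt_mem ht)

/-- `W_t` is a conjugate of some `W_y` -/
theorem wt_ex : ∃ y ∈ V, y ≠ 1 ∧ y ≠ z ∧ ∃ c ∈ cf z, t = c * y * c⁻¹ ∧ wt V cf z t = cj c (ww V cf y) := by
  obtain ⟨y, hy, hy1, hyz, c, hc, rfl⟩ := ht
  exact ⟨y, hy, hy1, hyz, c, hc, rfl, wt_conj h.toFam hy hy1 hyz hc⟩

theorem wt_le_cf : wt V cf z t ≤ cf z := by
  obtain ⟨y, hy, hy1, hyz, c, hc, -, e⟩ := h.wt_ex ht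
  rw [e]
  intro w hw
  have h1 := h.ww_le_cf' hy hy1 h.z_mem h.z_ne (mem_cj.mp hw)
  have e1 : w = c * (c⁻¹ * w * c) * c⁻¹ := by group
  rw [e1]
  exact mul_mem (mul_mem hc h1) (inv_mem hc)

theorem z_mem_wt : z ∈ wt V cf z t := by
  obtain ⟨y, hy, hy1, hyz, c, hc, -, e⟩ := h.wt_ex ht
  rw [e, mem_cj]
  have h1 := h.cf_comm h.z_mem h.z_ne hc
  have : c⁻¹ * z * c = z := by
    calc c⁻¹ * z * c = c⁻¹ * (z * c) := by group
      _ = c⁻¹ * (c * z) := by rw [h1]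
      _ = z := by group
  rw [this]
  exact h.V_le h.z_mem

theorem pt_mem_wt : t ∈ wt V cf z t := by
  obtain ⟨y, hy, hy1, hyz, c, hc, e1, e⟩ := h.wt_ex ht
  rw [e, mem_cj, e1]
  have : c⁻¹ * (c * y * c⁻¹) * c = y := by group
  rw [this]
  exact h.V_le hy

theorem wt_ab {a b : G} (ha : a ∈ wt V cf z t) (hb : b ∈ wt V cf z t) : a * b = b * a := by
  obtain ⟨y, hy, hy1, hyz, c, hc, e1, e⟩ := h.wt_ex ht
  rw [e, mem_cj] at ha hb
  have := h.comm hy hy1 _ ha _ hb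
  calc a * b = c * ((c⁻¹ * a * c) * (c⁻¹ * b * c)) * c⁻¹ := by group
    _ = c * ((c⁻¹ * b * c) * (c⁻¹ * a * c)) * c⁻¹ := by rw [this]
    _ = b * a := by group

theorem wt_sq {a : G} (ha : a ∈ wt V cf z t) : a * a = 1 := by
  obtain ⟨y, hy, hy1, hyz, c, hc, e1, e⟩ := h.wt_ex ht
  rw [e, mem_cj] at ha
  have := h.sq hy hy1 _ ha
  calc a * a = c * ((c⁻¹ * a * c) * (c⁻¹ * a * c)) * c⁻¹ := by group
    _ = 1 := by rw [this]; group

/-- elements of `cf z` which commute with `t` normalise `W_t` -/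
theorem wt_norm {c : G} (hc : c ∈ cf z) (hct : c * t = t * c) : c ∈ normalizer ((wt V cf z t : Subgroup G) : Set G) := by
  rw [mem_normalizer_iff_cj, ← wt_cj h.toFam ht hc]
  congr 1
  rw [hct]; group

theorem ww_norm_wt {a : G} (ha : a ∈ ww V cf z) : a ∈ normalizer ((wt V cf z t : Subgroup G) : Set G) :=
  h.wt_norm ht (h.ww_le_cf h.z_mem h.z_ne ha) (h.ab a ha t (h.pt_mem ht))

/-- two elements of `W_t - Q_z` differ by an element of `Q_z` -/
theorem wt_one {a b : G} (ha : a ∈ wt V cf z t) (hb : b ∈ wt V cf z t) (ha' : a ∉ qq V cf z)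
    (hb' : b ∉ qq V cf z) : a * b ∈ qq V cf z := by
  obtain ⟨y, hy, hy1, hyz, c, hc, e1, e⟩ := h.wt_ex ht
  rw [e, mem_cj] at ha hb
  have hn := h.cf_norm_qq h.z_mem h.z_ne hc
  have key : ∀ a : G, c⁻¹ * a * c ∈ qq V cf z ↔ a ∈ qq V cf z := by
    intro a
    have := mem_normalizer_iff.mp hn (c⁻¹ * a * c)
    rw [this]
    have e2 : c * (c⁻¹ * a * c) * c⁻¹ = a := by group
    rw [e2]
  have h1 := h.one y hy hy1 z h.z_mem h.z_ne (Ne.symm hyz) _ ha _ hb (fun h2 => ha' ((key a).mp h2))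
    (fun h2 => hb' ((key b).mp h2))
  have e3 : c⁻¹ * a * c * (c⁻¹ * b * c) = c⁻¹ * (a * b) * c := by group
  rw [e3] at h1
  exact (key _).mp h1

variable [Finite G]

/-- some element of `W_t` is not in `Q_z` -/
theorem exists_wt : ∃ b ∈ wt V cf z t, b ∉ qq V cf z := by
  obtain ⟨y, hy, hy1, hyz, c, hc, e1, e⟩ := h.wt_ex ht
  obtain ⟨b, hb, hbz⟩ := h.exists_not_qq hy hy1 h.z_mem h.z_ne (Ne.symm hyz)
  refine ⟨c * b * c⁻¹, ?_, ?_⟩
  · rw [e, mem_cj]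
    have : c⁻¹ * (c * b * c⁻¹) * c = b := by group
    rwa [this]
  · intro h2
    exact hbz ((mem_normalizer_iff.mp (h.cf_norm_qq h.z_mem h.z_ne hc) b).mpr h2)

/-- `W_t ∩ Q_z` centralises `W_z` -/
theorem wt_kk {b : G} (hb : b ∈ wt V cf z t) (hbz : b ∈ qq V cf z) {a : G} (ha : a ∈ ww V cf z) : a * b = b * a := by
  obtain ⟨y, hy, hy1, hyz, c, hc, e1, e⟩ := h.wt_ex ht
  rw [e, mem_cj] at hb
  have h1 : c⁻¹ * b * c ∈ qq V cf z := by
    have := conj_mem_of_normalizer (h.cf_norm_qq h.z_mem h.z_ne) (inv_mem hc) hbz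
    rwa [inv_inv] at this
  have h2 : c⁻¹ * a * c ∈ ww V cf z := by
    have := conj_mem_wf (inv_mem hc) ha
    rwa [inv_inv] at this
  have h3 := h.good hy hy1 h.z_mem h.z_ne (Ne.symm hyz) hb h1 h2
  calc a * b = c * ((c⁻¹ * a * c) * (c⁻¹ * b * c)) * c⁻¹ := by group
    _ = c * ((c⁻¹ * b * c) * (c⁻¹ * a * c)) * c⁻¹ := by rw [h3]
    _ = b * a := by group

/-- `⁅a, b⁆ = z t` for `a ∈ W_z`, `b ∈ W_t` which do not commute -/
theorem wt_cm {a b : G} (ha : a ∈ ww V cf z) (hb : b ∈ wt V cf z t) (hab : a * b ≠ b * a) :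
    a * b * a⁻¹ * b⁻¹ = z * t := by
  obtain ⟨y, hy, hy1, hyz, c, hc, e1, e⟩ := h.wt_ex ht
  rw [e, mem_cj] at hb
  have h2 : c⁻¹ * a * c ∈ ww V cf z := by
    have := conj_mem_wf (inv_mem hc) ha
    rwa [inv_inv] at this
  have hcz := h.cf_comm h.z_mem h.z_ne hc
  have hab' : ¬ ((c⁻¹ * a * c) * (c⁻¹ * b * c) = (c⁻¹ * b * c) * (c⁻¹ * a * c)) := by
    intro h3
    apply hab
    calc a * b = c * ((c⁻¹ * a * c) * (c⁻¹ * b * c)) * c⁻¹ := by group
      _ = c * ((c⁻¹ * b * c) * (c⁻¹ * a * c)) * c⁻¹ := by rw [h3]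
      _ = b * a := by group
  have h3 : c⁻¹ * a * c ∉ qq V cf y := fun h3 => hab' (h.good h.z_mem h.z_ne hy hy1 hyz h2 h3 hb)
  have h4 : c⁻¹ * b * c ∉ qq V cf z := fun h4 =>
    hab' (h.good hy hy1 h.z_mem h.z_ne (Ne.symm hyz) hb h4 h2).symm
  have h5 := h.cm_eq h.z_mem h.z_ne hy hy1 hyz h2 h3 hb h4
  calc a * b * a⁻¹ * b⁻¹ = c * ((c⁻¹ * a * c) * (c⁻¹ * b * c) * (c⁻¹ * a * c)⁻¹ * (c⁻¹ * b * c)⁻¹) * c⁻¹ := by group
    _ = c * (z * y) * c⁻¹ := by rw [h5]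
    _ = (c * z) * y * c⁻¹ := by group
    _ = (z * c) * y * c⁻¹ := by rw [hcz]
    _ = z * t := by rw [e1]; group

/-- (1.5) T3: `W_t ∩ W_u` centralises `W_z` for `t ≠ u` -/
theorem wt_inf {u : G} (hu : u ∈ pts V cf z) (htu : t ≠ u) {b : G} (hb : b ∈ wt V cf z t)
    (hb' : b ∈ wt V cf z u) {a : G} (ha : a ∈ ww V cf z) : a * b = b * a := by
  by_contra hab
  have h1 := h.wt_cm ht ha hb hab
  have h2 := h.wt_cm hu ha hb' hab
  exact htu (mul_left_cancel (h1.symm.trans h2))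

end Tvf

/-! ### the module -/

namespace Tvf

variable (h : Tvf T V z cf) [Finite G] {M H : Type u} [AddCommGroup M] [Group H] [DistribMulAction H M]
  (R : MRep V cf z M H)
include h

/-- all points `y ≠ z` of `V` have the same image, and the elements of all `W_y - Q_z`, too -/
theorem pi_phi_eq {y w y' w' : G} (hy : y ∈ V) (hy1 : y ≠ 1) (hyz : y ≠ z)
    (hw : w ∈ ww V cf y) (hwz : w ∉ qq V cf z) (hy' : y' ∈ V) (hy1' : y' ≠ 1) (hyz' : y' ≠ z)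
    (hw' : w' ∈ ww V cf y') (hwz' : w' ∉ qq V cf z) : R.pi y' = R.pi y ∧ R.phi w' = R.phi w := by
  have hz := h.z_mem
  have hz1 := h.z_ne
  rcases h.ln.four hz hy hz1 hy1 (Ne.symm hyz) hy' with e | e | e | e
  · exact absurd e hy1'
  · exact absurd e hyz'
  · subst e
    exact ⟨rfl, h.phi_eq_of R hy' hy1' hyz' hw' hw hwz' hwz⟩
  · subst e
    refine ⟨by rw [R.pi_mul z h.z_mem_ww y (h.V_le hy), R.pi_z h.toFam, zero_add], ?_⟩
    obtain ⟨k, hk, hk1⟩ := h.exists_mover hz hz1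
    have e1 := h.move hz hz1 hy hy1 hyz hk hk1
    have hkV := h.qq_le_normalizer hz hk
    have h2 : k⁻¹ * w' * k ∈ ww V cf y := by
      have := h.conj_ww (inv_mem hkV) hy' hy1' hw'
      have e2 : k⁻¹ * (z * y) * k⁻¹⁻¹ = y := by rw [← e1]; group
      rw [e2] at this
      rwa [inv_inv] at this
    have hwc' := h.ww_le_cf' hy' hy1' hz hz1 hw'
    have h3 : k⁻¹ * w' * k ∉ qq V cf z := by
      intro h3
      apply hwz'
      have := mul_mem (mul_mem hk h3) (inv_mem hk)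
      have e4 : k * (k⁻¹ * w' * k) * k⁻¹ = w' := by group
      rwa [e4] at this
    rw [← h.phi_eq_of R hy hy1 hyz h2 hw h3 hwz, R.phi_mul _ (mul_mem (inv_mem hk.1) hwc') _ hk.1,
      R.phi_mul _ (inv_mem hk.1) _ hwc', R.phi_inv hk.1, h.phi_one_of R hk, inv_one, one_mul, mul_one]

/-- **the form exists** -/
theorem exists_isB [FaithfulSMul H M] : ∃ B : M → M → ZMod 2, IsB R B := by
  obtain ⟨y, hy, hy1, hyz, w, hw, hwz⟩ := h.exists_wy
  obtain ⟨B, F⟩ := h.exists_isForm R hy hy1 hyz hw hwz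
  refine ⟨B, fun y' hy' hy1' hyz' w' hw' hwz' => ?_⟩
  obtain ⟨e1, e2⟩ := h.pi_phi_eq R hy hy1 hyz hw hwz hy' hy1' hyz' hw' hwz'
  rw [e1, e2]
  exact F

theorem TT_eq {y : G} (hy : y ∈ V) (hy1 : y ≠ 1) (hyz : y ≠ z) : TT R = Set.range fun x : H => x • R.pi y := by
  obtain ⟨w, hw, hwz⟩ := h.exists_not_qq hy hy1 h.z_mem h.z_ne (Ne.symm hyz)
  ext m
  constructor
  · rintro ⟨t, ⟨y', hy', hy1', hyz', c, hc, rfl⟩, rfl⟩
    obtain ⟨w', hw', hwz'⟩ := h.exists_not_qq hy' hy1' h.z_mem h.z_ne (Ne.symm hyz')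
    refine ⟨R.phi c, ?_⟩
    change R.phi c • R.pi y = _
    rw [← R.act c hc y' (h.V_le hy'), (h.pi_phi_eq R hy hy1 hyz hw hwz hy' hy1' hyz' hw' hwz').1]
  · rintro ⟨x, rfl⟩
    obtain ⟨c, hc, rfl⟩ := R.phi_surj x
    exact ⟨c * y * c⁻¹, mem_pts_conj hy hy1 hyz hc, (R.act c hc y (h.V_le hy)).symm⟩

variable {B : M → M → ZMod 2} (hB : IsB R B)

include hB in
/-- the transvection system -/
theorem sys : Sys (TT R) B := by
  obtain ⟨y, hy, hy1, hyz, w, hw, hwz⟩ := h.exists_wy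
  rw [h.TT_eq R hy hy1 hyz]
  exact (hB y hy hy1 hyz w hw hwz).sys

include hB in
/-- `H` acts on the transvection system -/
theorem act : Act (TT R) B H := by
  obtain ⟨y, hy, hy1, hyz, w, hw, hwz⟩ := h.exists_wy
  rw [h.TT_eq R hy hy1 hyz]
  exact (hB y hy hy1 hyz w hw hwz).act

/-- `H` is transitive on `TT` -/
theorem TT_trans {u v : M} (hu : u ∈ TT R) (hv : v ∈ TT R) : ∃ x : H, x • u = v := by
  obtain ⟨y, hy, hy1, hyz, w, hw, hwz⟩ := h.exists_wy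
  rw [h.TT_eq R hy hy1 hyz] at hu hv
  obtain ⟨a, rfl⟩ := hu
  obtain ⟨b, rfl⟩ := hv
  refine ⟨b * a⁻¹, ?_⟩
  change (b * a⁻¹) • a • R.pi y = b • R.pi y
  rw [mul_smul, inv_smul_smul]

omit h [Finite G] in
theorem pi_mem_TT {t : G} (ht : t ∈ pts V cf z) : R.pi t ∈ TT R := ⟨t, ht, rfl⟩

include hB in
theorem form_conj {c a b : G} (hc : c ∈ cf z) (ha : a ∈ ww V cf z) (hb : b ∈ ww V cf z) :
    B (R.pi (c * a * c⁻¹)) (R.pi (c * b * c⁻¹)) = B (R.pi a) (R.pi b) := by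
  rw [← R.act c hc a ha, ← R.act c hc b hb]
  exact (h.act R hB).form _ _ _

include hB in
/-- `B a t = 0` iff `a` centralises `W_t` -/
theorem form_pt {t : G} (ht : t ∈ pts V cf z) {a : G} (ha : a ∈ ww V cf z) :
    B (R.pi a) (R.pi t) = 0 ↔ ∀ b ∈ wt V cf z t, a * b = b * a := by
  obtain ⟨y, hy, hy1, hyz, c, hc, e1, e⟩ := h.wt_ex ht
  obtain ⟨w, hw, hwz⟩ := h.exists_not_qq hy hy1 h.z_mem h.z_ne (Ne.symm hyz)
  have hyW := h.V_le (p := z) hy
  have ha' : c⁻¹ * a * c ∈ ww V cf z := by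
    have := conj_mem_wf (inv_mem hc) ha
    rwa [inv_inv] at this
  have h1 : B (R.pi a) (R.pi t) = B (R.pi (c⁻¹ * a * c)) (R.pi y) := by
    rw [← h.form_conj R hB hc ha' hyW, ← e1]
    congr 2
    group
  rw [h1, h.form_qq R hy hy1 hyz (hB y hy hy1 hyz w hw hwz) ha']
  constructor
  · intro h2 b hb
    rw [e, mem_cj] at hb
    have h3 := h.good h.z_mem h.z_ne hy hy1 hyz ha' h2 hb
    calc a * b = c * ((c⁻¹ * a * c) * (c⁻¹ * b * c)) * c⁻¹ := by group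
      _ = c * ((c⁻¹ * b * c) * (c⁻¹ * a * c)) * c⁻¹ := by rw [h3]
      _ = b * a := by group
  · intro h2
    rw [h.mem_qq_iff h.z_mem h.z_ne hy hy1 ha']
    intro b hb
    left
    rw [cm_eq_one]
    have h3 := h2 (c * b * c⁻¹) (by rw [e, mem_cj]; have : c⁻¹ * (c * b * c⁻¹) * c = b := by group
                                    rwa [this])
    calc (c⁻¹ * a * c) * b = c⁻¹ * (a * (c * b * c⁻¹)) * c := by group
      _ = c⁻¹ * ((c * b * c⁻¹) * a) * c := by rw [h3]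
      _ = b * (c⁻¹ * a * c) := by group

include hB in
/-- the element `b ∈ W_t - Q_z` acts as the transvection with centre `t` -/
theorem phi_wt {t b : G} (ht : t ∈ pts V cf z) (hb : b ∈ wt V cf z t) (hbz : b ∉ qq V cf z) (m : M) :
    (B m (R.pi t) = 0 → R.phi b • m = m) ∧ (B m (R.pi t) = 1 → R.phi b • m = m + R.pi t) := by
  obtain ⟨y, hy, hy1, hyz, c, hc, e1, e⟩ := h.wt_ex ht
  have hbc := h.wt_le_cf ht hb
  rw [e, mem_cj] at hb
  have hyW := h.V_le (p := z) hy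
  have hb' : c⁻¹ * b * c ∉ qq V cf z := by
    intro h2
    apply hbz
    have := conj_mem_of_normalizer (h.cf_norm_qq h.z_mem h.z_ne) hc h2
    have e4 : c * (c⁻¹ * b * c) * c⁻¹ = b := by group
    rwa [e4] at this
  have F := hB y hy hy1 hyz _ hb hb'
  have h1 := F.fix (R.phi c) m
  have h2 := F.mv (R.phi c) m
  have h3 : R.phi c • R.pi y = R.pi t := by rw [R.act c hc y hyW, e1]
  have h4 : R.phi c * R.phi (c⁻¹ * b * c) * (R.phi c)⁻¹ = R.phi b := by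
    rw [R.phi_mul _ (mul_mem (inv_mem hc) hbc) _ hc, R.phi_mul _ (inv_mem hc) _ hbc, R.phi_inv hc]
    group
  rw [h3, h4] at h1 h2
  exact ⟨h1, h2⟩

include hB in
/-- `a b ≠ b a` for `b ∈ W_t - Q_z`, `B a t = 1` -/
theorem not_comm {t a b : G} (ht : t ∈ pts V cf z) (ha : a ∈ ww V cf z) (hb : b ∈ wt V cf z t)
    (hbz : b ∉ qq V cf z) (h1 : B (R.pi a) (R.pi t) = 1) : a * b ≠ b * a := by
  intro e
  have h2 := (h.phi_wt R hB ht hb hbz (R.pi a)).2 h1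
  have hbc := h.wt_le_cf ht hb
  rw [R.act b hbc a ha, conj_eq_of_comm e.symm] at h2
  have h3 : R.pi t = 0 := by simpa using h2
  rcases (R.pi_ker t (h.pt_mem ht)).mp h3 with e1 | e1
  · exact h.pt_ne ht e1
  · exact h.pt_nz ht e1

include hB in
/-- `⁅a, b⁆ = z t` for `b ∈ W_t - Q_z`, `B a t = 1` -/
theorem cm_pt {t a b : G} (ht : t ∈ pts V cf z) (ha : a ∈ ww V cf z) (hb : b ∈ wt V cf z t)
    (hbz : b ∉ qq V cf z) (h1 : B (R.pi a) (R.pi t) = 1) : a * b * a⁻¹ * b⁻¹ = z * t :=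
  h.wt_cm ht ha hb (h.not_comm R hB ht ha hb hbz h1)

include hB in
/-- `b a b⁻¹ = z t a` for `b ∈ W_t - Q_z`, `B a t = 1` -/
theorem conj_pt' {t a b : G} (ht : t ∈ pts V cf z) (ha : a ∈ ww V cf z) (hb : b ∈ wt V cf z t)
    (hbz : b ∉ qq V cf z) (h1 : B (R.pi a) (R.pi t) = 1) : b * a * b⁻¹ = z * t * a := by
  have h2 := h.cm_pt R hB ht ha hb hbz h1
  have h3 : (z * t) * (z * t) = 1 := h.sqz _ (mul_mem h.z_mem_ww (h.pt_mem ht))
  calc b * a * b⁻¹ = (a * b * a⁻¹ * b⁻¹)⁻¹ * a := by group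
    _ = (z * t)⁻¹ * a := by rw [h2]
    _ = z * t * a := by rw [inv_eq_of_mul_eq_one_left h3]

omit [Finite G] in
theorem pi_zmul {a : G} (ha : a ∈ ww V cf z) : R.pi (z * a) = R.pi a := by
  rw [R.pi_mul z h.z_mem_ww a ha, R.pi_z h.toFam, zero_add]

include hB in
/-- (1.6): `f_t ∈ Q_z` acts on `W_z` as `a ↦ a z^{(a, t)}` -/
theorem exists_f {t : G} (ht : t ∈ pts V cf z) : ∃ f ∈ qq V cf z,
    (∃ b ∈ wt V cf z t, ∃ b' ∈ wt V cf z (z * t), b ∉ qq V cf z ∧ b' ∉ qq V cf z ∧ f = b * b') ∧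
    ∀ a ∈ ww V cf z, (B (R.pi a) (R.pi t) = 0 → f * a * f⁻¹ = a) ∧
      (B (R.pi a) (R.pi t) = 1 → f * a * f⁻¹ = z * a) := by
  have hz := h.z_mem
  have hz1 := h.z_ne
  have ht' := h.pt_z ht
  obtain ⟨b, hb, hbz⟩ := h.exists_wt ht
  obtain ⟨b', hb', hbz'⟩ := h.exists_wt ht'
  have hbc := h.wt_le_cf ht hb
  have hbc' := h.wt_le_cf ht' hb'
  have key : ∀ a ∈ ww V cf z, (B (R.pi a) (R.pi t) = 0 → (b * b') * a * (b * b')⁻¹ = a) ∧
      (B (R.pi a) (R.pi t) = 1 → (b * b') * a * (b * b')⁻¹ = z * a) := by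
    intro a ha
    have e1 : R.pi (z * t) = R.pi t := h.pi_zmul R (h.pt_mem ht)
    constructor
    · intro h1
      have h2 := (h.form_pt R hB ht ha).mp h1 b hb
      have h3 := (h.form_pt R hB ht' ha).mp (by rw [e1]; exact h1) b' hb'
      calc (b * b') * a * (b * b')⁻¹ = b * (b' * a) * b'⁻¹ * b⁻¹ := by group
        _ = b * (a * b') * b'⁻¹ * b⁻¹ := by rw [h3]
        _ = (b * a) * b⁻¹ := by group
        _ = (a * b) * b⁻¹ := by rw [h2]
        _ = a := by group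
    · intro h1
      have h2 := h.conj_pt' R hB ht ha hb hbz h1
      have h3 := h.conj_pt' R hB ht' ha hb' hbz' (by rw [e1]; exact h1)
      have h4 := h.wt_ab ht hb (h.pt_mem_wt ht)
      have e3 : z * (z * t) * a = t * a := by
        calc z * (z * t) * a = (z * z) * (t * a) := by group
          _ = t * a := by rw [h.ln.sq z hz, one_mul]
      calc (b * b') * a * (b * b')⁻¹ = b * (b' * a * b'⁻¹) * b⁻¹ := by group
        _ = b * (t * a) * b⁻¹ := by rw [h3, e3]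
        _ = (b * t) * b⁻¹ * (b * a * b⁻¹) := by group
        _ = (t * b) * b⁻¹ * (z * t * a) := by rw [h4, h2]
        _ = (t * z) * (t * a) := by group
        _ = (z * t) * (t * a) := by rw [h.pt_comm ht]
        _ = z * (t * t) * a := by group
        _ = z * a := by rw [h.pt_sq ht, mul_one]
  refine ⟨b * b', ⟨mul_mem hbc hbc', h.cf_comm hz hz1 (mul_mem hbc hbc'), fun w hw => ?_⟩,
    ⟨b, hb, b', hb', hbz, hbz', rfl⟩, key⟩
  rcases z2 (B (R.pi w) (R.pi t)) with h1 | h1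
  · rw [(key w hw).1 h1, mul_inv_cancel]
    exact one_mem _
  · rw [(key w hw).2 h1, mul_assoc, mul_inv_cancel, mul_one]
    exact mem_zpowers z

include hB in
/-- (0.1) for the module: an element of `H` which is trivial on `M/Rad` and on `Rad` is trivial -/
theorem eq_one_of_rad [FaithfulSMul H M] {x : H} (h1 : ∀ m n, B (x • m + m) n = 0)
    (h2 : ∀ r, (∀ n, B r n = 0) → x • r = r) : x = 1 := by
  have S := h.sys R hB
  have A := h.act R hB
  have hrad : ∀ (x : H) (r : M), (∀ n, B r n = 0) → ∀ n, B (x • r) n = 0 := by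
    intro x r hr n
    have := A.form x r (x⁻¹ • n)
    rw [smul_inv_smul, hr] at this
    exact this
  let N : Subgroup H :=
    { carrier := {x | (∀ m n, B (x • m + m) n = 0) ∧ ∀ r, (∀ n, B r n = 0) → x • r = r}
      mul_mem' := by
        rintro a b ⟨ha, ha'⟩ ⟨hb, hb'⟩
        refine ⟨fun m n => ?_, fun r hr => by rw [mul_smul, hb' r hr, ha' r hr]⟩
        have e : (a * b) • m + m = (a • (b • m) + b • m) + (b • m + m) := by
          rw [mul_smul]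
          calc a • b • m + m = a • b • m + m + (b • m + b • m) := by rw [S.two, add_zero]
            _ = a • b • m + b • m + (b • m + m) := by abel
        rw [e, S.add_left, ha, hb, add_zero]
      one_mem' := ⟨fun m n => by rw [one_smul, S.two, S.zero_left], fun r _ => one_smul _ _⟩
      inv_mem' := by
        rintro a ⟨ha, ha'⟩
        refine ⟨fun m n => ?_, fun r hr => ?_⟩
        · have e : a⁻¹ • m + m = a⁻¹ • (a • m + m) := by
            rw [smul_add, inv_smul_smul, add_comm]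
          rw [e]
          exact hrad _ _ (ha m) n
        · rw [inv_smul_eq_iff, ha' r hr] }
  have hN : ∀ x ∈ N, x * x = 1 := by
    intro x hx
    refine FaithfulSMul.eq_of_smul_eq_smul (M := H) (α := M) fun m => ?_
    rw [one_smul, mul_smul]
    have e1 := hx.2 _ (hx.1 m)
    rw [smul_add] at e1
    have e2 : x • x • m + (x • m + x • m) = m + (x • m + x • m) := by
      calc x • x • m + (x • m + x • m) = (x • x • m + x • m) + x • m := by abel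
        _ = m + (x • m + x • m) := by rw [e1]; abel
    exact add_right_cancel e2
  have hc : ∀ x ∈ N, ∀ g : H, g * x * g⁻¹ ∈ N := by
    rintro x ⟨hx, hx'⟩ g
    refine ⟨fun m n => ?_, fun r hr => ?_⟩
    · have e : (g * x * g⁻¹) • m + m = g • (x • (g⁻¹ • m) + g⁻¹ • m) := by
        rw [mul_smul, mul_smul, smul_add, smul_inv_smul]
      rw [e]
      exact hrad _ _ (hx _) n
    · rw [mul_smul, mul_smul, hx' _ (hrad _ _ hr), smul_inv_smul]
  have hle : R.pre N ≤ qq V cf z := by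
    refine h.o2h (R.pre_le N) (le_normalizer_of_forall fun c hc' n hn => ?_) fun n hn => ⟨1, ?_⟩
    · rw [R.mem_pre] at hn ⊢
      refine ⟨mul_mem (mul_mem hc' hn.1) (inv_mem hc'), ?_⟩
      rw [R.phi_mul _ (mul_mem hc' hn.1) _ (inv_mem hc'), R.phi_mul c hc' n hn.1, R.phi_inv hc']
      exact hc _ hn.2 _
    · rw [R.mem_pre] at hn
      rw [pow_one, pow_two, ← R.phi_ker _ (mul_mem hn.1 hn.1), R.phi_mul n hn.1 n hn.1]
      exact hN _ hn.2
  obtain ⟨c, hc', rfl⟩ := R.phi_surj x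
  exact (R.phi_ker c hc').mpr (hle (R.mem_pre.mpr ⟨hc', h1, h2⟩))

include hB in
/-- (1.3) -/
theorem inj [FaithfulSMul H M] : Inj (TT R) B := by
  have S := h.sys R hB
  have A := h.act R hB
  intro u hu v hv huv
  obtain ⟨a, ha⟩ := A.tv u hu
  obtain ⟨b, hb⟩ := A.tv v hv
  have huv' : ∀ m, B m u = B m v := fun m => by rw [S.symm, huv, S.symm]
  have key : ∀ m, (B m v = 0 → (a * b) • m = m) ∧ (B m v = 1 → (a * b) • m = m + (u + v)) := by
    intro m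
    constructor
    · intro h1
      rw [mul_smul, (hb m).1 h1, (ha m).1 (by rw [huv', h1])]
    · intro h1
      rw [mul_smul, (hb m).2 h1, (ha (m + v)).2 (by rw [huv', S.add_left, h1, S.alt, add_zero])]
      abel
  have hr : ∀ n, B (u + v) n = 0 := fun n => by rw [S.add_left, huv, z2_add]
  have h1 : a * b = 1 := by
    refine h.eq_one_of_rad R hB (fun m n => ?_) fun r hr' => (key r).1 (hr' v)
    rcases z2 (B m v) with h1 | h1
    · rw [(key m).1 h1, S.two, S.zero_left]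
    · rw [(key m).2 h1]
      have e : m + (u + v) + m = u + v := by
        calc m + (u + v) + m = u + v + (m + m) := by abel
          _ = u + v := by rw [S.two, add_zero]
      rw [e, hr]
  obtain ⟨m, hm⟩ := S.nd v hv
  have h2 := (key m).2 (by rw [S.symm]; exact hm)
  rw [h1, one_smul] at h2
  exact S.eq_of_add (by simpa using h2.symm)

end Tvf

end Cfsg.Agent.Omega.NO3S.TV
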