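import Cfsg.Agent.Omega.NO3S.TV.Sys

/-!
# NO-3S, `q = 2`, `n = 1`, transvection types (helper311's text #16747): the module part of (3.6), sections 4 and 7

`Sys TT B` on `M`; `h` : an isometry preserving `TT`, fixing `v ∈ TT`, and trivial on `v^⊥ / (⟨v⟩ + Rad)`; `t ∈ TT` with
`(t, v) = 1`, `j = h t + t`.

* `Sys.mem_closure` : `v^⊥` is generated by `TT ∩ v^⊥`; `Sys.rd_of` : `v^⊥⊥ = ⟨v⟩ + Rad`;
* `HAct.act` (3.6) : `h m = m + (m, j) v + ρ(m)`, `ρ(m) ∈ Rad`, for `m ∈ v^⊥`;
* `HAct.four` (section 4) : no planar pair ⟹ `h` is trivial on `v^⊥`, and `h m + m ∈ {0, v}` for all `m`;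
* `HAct.seven` (section 7) : planar pairs, `a + b + r ∈ TT` for all distinct perpendicular `a, b ∈ TT` ⟹ as in `four`, or
  `h m = m + (m, j) (v + r)` on `v^⊥`, and `(·, j) ≠ 0` on `v^⊥`.
-/

set_option autoImplicit false

namespace Cfsg.Agent.Omega.NO3S.TV

variable {M : Type*} [AddCommGroup M]

/-- `m` is in the radical -/
def Rd (B : M → M → ZMod 2) (m : M) : Prop := ∀ a, B a m = 0

namespace Sys

variable {TT : Set M} {B : M → M → ZMod 2}

theorem rd_left (S : Sys TT B) {ρ : M} (hρ : Rd B ρ) (a : M) : B ρ a = 0 := by rw [S.symm]; exact hρ a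

theorem rd_add (S : Sys TT B) {a b : M} (ha : Rd B a) (hb : Rd B b) : Rd B (a + b) := fun m => by
  rw [S.add_right, ha m, hb m, add_zero]

/-- (1.3) for `Rd` -/
theorem eq_of_rd (S : Sys TT B) (I : Inj TT B) {a b : M} (ha : a ∈ TT) (hb : b ∈ TT) (h : Rd B (a + b)) : a = b := by
  refine I a ha b hb fun m => ?_
  have := h m
  rw [S.add_right, S.symm m, S.symm m] at this
  exact z2_eq_of_add this

/-- `v^⊥` is generated by `TT ∩ v^⊥` -/
theorem mem_closure (S : Sys TT B) {v : M} (hv : v ∈ TT) {m : M} (hm : B m v = 0) :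
    m ∈ AddSubgroup.closure {t | t ∈ TT ∧ B t v = 0} := by
  obtain ⟨t, ht, hvt⟩ := S.exists_nd hv
  have htv : B t v = 1 := by rw [S.symm]; exact hvt
  set K := AddSubgroup.closure {t | t ∈ TT ∧ B t v = 0} with hK
  have hvK : v ∈ K := AddSubgroup.subset_closure ⟨hv, S.alt v⟩
  -- `t + t' ∈ K`
  have key : ∀ t' ∈ TT, B t' v = 1 → t' + t ∈ K := by
    intro t' ht' h'
    rcases z2 (B t t') with e | e
    · have h1 : v + t ∈ TT := S.refl v hv t ht hvt
      have h2 : v + t + t' ∈ TT := S.refl _ h1 t' ht' (by rw [S.add_left, e, S.symm, h', add_zero])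
      have h3 : v + t + t' ∈ K := AddSubgroup.subset_closure ⟨h2, by
        rw [S.add_left, S.add_left, S.alt, htv, h']; decide⟩
      have h4 := add_mem hvK h3
      have h5 : v + (v + t + t') = t' + t := by rw [add_assoc, S.add_cancel, add_comm]
      rwa [h5] at h4
    · refine AddSubgroup.subset_closure ⟨?_, by rw [S.add_left, h', htv]; decide⟩
      rw [add_comm]
      exact S.refl t ht t' ht' e
  have all : ∀ m ∈ AddSubgroup.closure TT, (B m v = 0 ∧ m ∈ K) ∨ (B m v = 1 ∧ m + t ∈ K) := by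
    intro m hm
    induction hm using AddSubgroup.closure_induction with
    | mem x hx =>
      rcases z2 (B x v) with e | e
      · exact Or.inl ⟨e, AddSubgroup.subset_closure ⟨hx, e⟩⟩
      · exact Or.inr ⟨e, key x hx e⟩
    | zero => exact Or.inl ⟨S.zero_left v, zero_mem _⟩
    | add a b _ _ ha hb =>
      rcases ha with ⟨a1, a2⟩ | ⟨a1, a2⟩ <;> rcases hb with ⟨b1, b2⟩ | ⟨b1, b2⟩
      · exact Or.inl ⟨by rw [S.add_left, a1, b1, add_zero], add_mem a2 b2⟩
      · refine Or.inr ⟨by rw [S.add_left, a1, b1, zero_add], ?_⟩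
        rw [add_assoc]; exact add_mem a2 b2
      · refine Or.inr ⟨by rw [S.add_left, a1, b1, add_zero], ?_⟩
        have : a + b + t = a + t + b := by abel
        rw [this]; exact add_mem a2 b2
      · refine Or.inl ⟨by rw [S.add_left, a1, b1]; decide, ?_⟩
        have h1 := add_mem a2 b2
        have : a + t + (b + t) = a + b := by
          calc a + t + (b + t) = a + b + (t + t) := by abel
            _ = a + b := by rw [S.two, add_zero]
        rwa [this] at h1
    | neg a _ ha => rw [S.neg_eq]; exact ha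
  rcases all m (by rw [S.span]; exact AddSubgroup.mem_top m) with h | h
  · exact h.2
  · rw [hm] at h
    exact absurd h.1 zero_ne_one

/-- a functional `(·, j)` which vanishes on `v^⊥`: `j ∈ {0, v} + Rad` -/
theorem rd_of (S : Sys TT B) {v t : M} (htv : B t v = 1) {j : M} (hj : ∀ m, B m v = 0 → B m j = 0) :
    Rd B j ∨ Rd B (j + v) := by
  rcases z2 (B t j) with e | e
  · left
    intro m
    rcases z2 (B m v) with e1 | e1
    · exact hj m e1
    · have h1 : B (m + t) v = 0 := by rw [S.add_left, e1, htv]; decide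
      have h2 := hj _ h1
      rw [S.add_left, e, add_zero] at h2
      exact h2
  · right
    intro m
    rcases z2 (B m v) with e1 | e1
    · rw [S.add_right, e1, hj m e1, add_zero]
    · have h1 : B (m + t) v = 0 := by rw [S.add_left, e1, htv]; decide
      have h2 := hj _ h1
      rw [S.add_left, e] at h2
      rw [S.add_right, e1]
      exact h2

/-- the vectors perpendicular to `j` -/
def pp (S : Sys TT B) (j : M) : AddSubgroup M where
  carrier := {m | B m j = 0}
  add_mem' {a b} ha hb := by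
    change B a j = 0 at ha
    change B b j = 0 at hb
    change B (a + b) j = 0
    rw [S.add_left, ha, hb, add_zero]
  zero_mem' := S.zero_left j
  neg_mem' {a} ha := by
    change B a j = 0 at ha
    change B (-a) j = 0
    rw [S.neg_eq]; exact ha

end Sys

/-- the situation of (3.6) for `h` acting on the module at `y`, `v = x̄` -/
structure HAct (TT : Set M) (B : M → M → ZMod 2) (v t : M) (h : M →+ M) : Prop where
  sys : Sys TT B
  inj : Inj TT B
  v_mem : v ∈ TT
  t_mem : t ∈ TT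
  tv : B t v = 1
  iso : ∀ a b, B (h a) (h b) = B a b
  map : ∀ a ∈ TT, h a ∈ TT
  hv : h v = v
  tri : ∀ m, B m v = 0 → ∃ ρ, Rd B ρ ∧ (h m = m + ρ ∨ h m = m + v + ρ)

namespace HAct

variable {TT : Set M} {B : M → M → ZMod 2} {v t : M} {h : M →+ M}

/-- `j ⊥ v` -/
theorem jv (c : HAct TT B v t h) : B (h t + t) v = 0 := by
  have h1 := c.iso t v
  rw [c.hv, c.tv] at h1
  rw [c.sys.add_left, h1, c.tv]
  decide

/-- **(3.6)** -/
theorem act (c : HAct TT B v t h) {m : M} (hm : B m v = 0) : ∃ ρ, Rd B ρ ∧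
    ((B m (h t + t) = 0 ∧ h m = m + ρ) ∨ (B m (h t + t) = 1 ∧ h m = m + v + ρ)) := by
  obtain ⟨ρ, hρ, e⟩ := c.tri m hm
  have h1 := c.iso m t
  have hρ' : ∀ a, B ρ a = 0 := fun a => c.sys.rd_left hρ a
  refine ⟨ρ, hρ, ?_⟩
  rcases e with e | e
  · left
    refine ⟨?_, e⟩
    rw [e, c.sys.add_left, hρ', add_zero] at h1
    rw [c.sys.add_right, h1, z2_add]
  · right
    refine ⟨?_, e⟩
    rw [e, c.sys.add_left, c.sys.add_left, hρ', add_zero] at h1
    have h2 : B v (h t) = 1 := by
      have := c.iso v t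
      rw [c.hv, c.sys.symm v t, c.tv] at this
      exact this
    rw [h2] at h1
    rw [c.sys.add_right, ← h1]
    generalize B m (h t) = a
    revert a; decide

/-- `h` is trivial on `v^⊥` if it is trivial on `TT ∩ v^⊥` -/
theorem eq_of (c : HAct TT B v t h) (hT : ∀ a ∈ TT, B a v = 0 → h a = a) {m : M} (hm : B m v = 0) :
    h m = m := by
  have h1 : AddSubgroup.closure {t | t ∈ TT ∧ B t v = 0} ≤ h.eqLocus (AddMonoidHom.id M) :=
    (AddSubgroup.closure_le _).mpr fun a ha => hT a ha.1 ha.2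
  exact h1 (c.sys.mem_closure c.v_mem hm)

/-- if `h` is trivial on `v^⊥` then `h m + m ∈ {0, v}` for all `m` -/
theorem id_case (c : HAct TT B v t h) (hT : ∀ m, B m v = 0 → h m = m)
    (hj : ∀ m, B m v = 0 → B m (h t + t) = 0) (m : M) : h m + m = 0 ∨ h m + m = v := by
  have S := c.sys
  have key : h t + t = 0 ∨ h t + t = v := by
    rcases S.rd_of c.tv hj with e | e
    · left
      have h1 : h t = t := S.eq_of_rd c.inj (c.map t c.t_mem) c.t_mem e
      rw [h1, S.two]
    · right
      have h1 : t + v ∈ TT := S.refl t c.t_mem v c.v_mem c.tv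
      have h2 : h t = t + v := S.eq_of_rd c.inj (c.map t c.t_mem) h1 (by rw [← add_assoc]; exact e)
      rw [h2, add_comm t, S.add_cancel']
  rcases z2 (B m v) with e1 | e1
  · left; rw [hT m e1, S.two]
  · have h1 : B (m + t) v = 0 := by rw [S.add_left, e1, c.tv]; decide
    have h2 := hT _ h1
    rw [map_add] at h2
    have h3 : h m + m = h t + t := by
      calc h m + m = (h m + h t) + (h t + m) := by rw [add_assoc, S.add_cancel]
        _ = (m + t) + (h t + m) := by rw [h2]
        _ = (h t + t) + (m + m) := by abel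
        _ = h t + t := by rw [S.two, add_zero]
    rw [h3]; exact key

/-- **Section 4**: no planar pair. -/
theorem four (c : HAct TT B v t h) (np : ∀ a ∈ TT, ∀ b ∈ TT, ¬ Sys.Planar TT B a b) :
    (∀ m, B m v = 0 → h m = m) ∧ ∀ m, h m + m = 0 ∨ h m + m = v := by
  have S := c.sys
  have key : ∀ a ∈ TT, B a v = 0 → B a (h t + t) = 0 ∧ h a = a := by
    intro a ha hav
    obtain ⟨ρ, hρ, ⟨e1, e2⟩ | ⟨e1, e2⟩⟩ := c.act hav
    · refine ⟨e1, S.eq_of_rd c.inj (c.map a ha) ha ?_⟩
      rw [e2, add_comm, S.add_cancel]; exact hρ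
    · exfalso
      refine np a ha v c.v_mem ⟨hav, ?_, h a, c.map a ha, fun m => ?_⟩
      · intro e
        rw [e, S.symm, c.jv] at e1
        exact absurd e1 zero_ne_one
      · rw [e2, S.add_left, S.add_left, S.rd_left hρ, add_zero]
  have h1 : ∀ m, B m v = 0 → h m = m := fun m hm => c.eq_of (fun a ha hav => (key a ha hav).2) hm
  refine ⟨h1, c.id_case h1 fun m hm => ?_⟩
  have h2 : AddSubgroup.closure {t | t ∈ TT ∧ B t v = 0} ≤ S.pp (h t + t) :=
    (AddSubgroup.closure_le _).mpr fun a ha => (key a ha.1 ha.2).1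
  exact h2 (S.mem_closure c.v_mem hm)

/-- the vectors on which `h m = m + (m, j) u` -/
def gg (S : Sys TT B) (h : M →+ M) (j u : M) : AddSubgroup M where
  carrier := {m | (B m j = 0 ∧ h m = m) ∨ (B m j = 1 ∧ h m = m + u)}
  add_mem' {a b} ha hb := by
    change (B a j = 0 ∧ h a = a) ∨ (B a j = 1 ∧ h a = a + u) at ha
    change (B b j = 0 ∧ h b = b) ∨ (B b j = 1 ∧ h b = b + u) at hb
    change (B (a + b) j = 0 ∧ h (a + b) = a + b) ∨ (B (a + b) j = 1 ∧ h (a + b) = a + b + u)
    rw [S.add_left, map_add]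
    rcases ha with ⟨a1, a2⟩ | ⟨a1, a2⟩ <;> rcases hb with ⟨b1, b2⟩ | ⟨b1, b2⟩
    · left; rw [a1, b1, a2, b2]; exact ⟨by decide, rfl⟩
    · right; rw [a1, b1, a2, b2]; exact ⟨by decide, by abel⟩
    · right; rw [a1, b1, a2, b2]; exact ⟨by decide, by abel⟩
    · left; rw [a1, b1, a2, b2]
      refine ⟨by decide, ?_⟩
      calc a + u + (b + u) = a + b + (u + u) := by abel
        _ = a + b := by rw [S.two, add_zero]
  zero_mem' := Or.inl ⟨S.zero_left j, map_zero h⟩
  neg_mem' {a} ha := by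
    change (B a j = 0 ∧ h a = a) ∨ (B a j = 1 ∧ h a = a + u) at ha
    change (B (-a) j = 0 ∧ h (-a) = -a) ∨ (B (-a) j = 1 ∧ h (-a) = -a + u)
    rw [S.neg_eq]; exact ha

/-- **Section 7**: planar pairs with constant `r ∈ Rad`. -/
theorem seven (c : HAct TT B v t h) {r : M} (hr : Rd B r)
    (pl : ∀ a ∈ TT, ∀ b ∈ TT, a ≠ b → B a b = 0 → a + b + r ∈ TT) :
    ((∀ m, B m v = 0 → h m = m) ∧ ∀ m, h m + m = 0 ∨ h m + m = v) ∨
      ((∃ m, B m v = 0 ∧ B m (h t + t) = 1) ∧ ∀ m, B m v = 0 →
        (B m (h t + t) = 0 ∧ h m = m) ∨ (B m (h t + t) = 1 ∧ h m = m + (v + r))) := by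
  have S := c.sys
  have key : ∀ m, B m v = 0 → (B m (h t + t) = 0 ∧ h m = m) ∨ (B m (h t + t) = 1 ∧ h m = m + (v + r)) := by
    have h2 : AddSubgroup.closure {t | t ∈ TT ∧ B t v = 0} ≤ gg S h (h t + t) (v + r) := by
      refine (AddSubgroup.closure_le _).mpr ?_
      rintro a ⟨ha, hav⟩
      obtain ⟨ρ, hρ, ⟨e1, e2⟩ | ⟨e1, e2⟩⟩ := c.act hav
      · refine Or.inl ⟨e1, S.eq_of_rd c.inj (c.map a ha) ha ?_⟩
        rw [e2, add_comm, S.add_cancel]; exact hρ
      · refine Or.inr ⟨e1, ?_⟩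
        have hne : a ≠ v := by
          intro e
          rw [e, S.symm, c.jv] at e1
          exact absurd e1 zero_ne_one
        rw [← add_assoc]
        refine S.eq_of_rd c.inj (c.map a ha) (pl a ha v c.v_mem hne hav) ?_
        have e3 : h a + (a + v + r) = ρ + r := by
          rw [e2]
          calc a + v + ρ + (a + v + r) = (a + a) + (v + v) + (ρ + r) := by abel
            _ = ρ + r := by rw [S.two, S.two, add_zero, zero_add]
        rw [e3]
        exact S.rd_add hρ hr
    exact fun m hm => h2 (S.mem_closure c.v_mem hm)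
  by_cases hex : ∃ m, B m v = 0 ∧ B m (h t + t) = 1
  · exact Or.inr ⟨hex, key⟩
  · left
    have h0 : ∀ m, B m v = 0 → B m (h t + t) = 0 := fun m hm =>
      z2_ne' fun e => hex ⟨m, hm, e⟩
    have h1 : ∀ m, B m v = 0 → h m = m := fun m hm => by
      rcases key m hm with e | e
      · exact e.2
      · rw [h0 m hm] at e
        exact absurd e.1 zero_ne_one
    exact ⟨h1, c.id_case h1 h0⟩

end HAct

end Cfsg.Agent.Omega.NO3S.TV
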