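import Cfsg.Agent.Omega.NO3S.Fit.Sub
import Cfsg.Agent.Omega.NO3S.TV.HAct

/-!
# NO-3S, `q = 2`, `n = 1`, transvection types (helper311's text #16747): section 4

Base point `z` (= `y` of the text) with its module `M = W_z/⟨z⟩`, another point `x ∈ V`.

* `Loc T V z cf R TT B` : the family with `TT`, `B` at `z`;
* `Far V z cf x c` : `p = c z c⁻¹`, `c ∈ cf x`, is a point of `D_x - V`; `W_p = cj c W_z`;
* `Tri R B x g` : `g` is trivial on `N_z = x̄^⊥/(⟨x̄⟩ + Rad)`;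
* `Loc.exists_planar` : section 4.
-/

set_option autoImplicit false
set_option linter.unusedSectionVars false

namespace Cfsg.Agent.Omega.NO3S.TV

open Subgroup Cfsg Cfsg.Agent.ZN Cfsg.Agent.MinSimple.Geo Cfsg.Agent.Omega.CaseL Cfsg.Agent.Omega.NO3S.Fit
open Cfsg.Agent.ZN.Block (conj_mem_of_normalizer conj_mem_of_normalizer' le_normalizer_of_forall
  mem_normalizer_of)

universe u

variable {G : Type u} [Group G]

/-- `p = c z c⁻¹`, `c ∈ cf x`, is a point collinear with `x`, in `D_x - V` -/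
structure Far (V : Subgroup G) (z : G) (cf : G → Subgroup G) (x c : G) : Prop where
  mem : c ∈ cf x
  cent : c * z * c⁻¹ ∈ kk V cf z
  nmem : c * z * c⁻¹ ∉ V

/-- `g` acts trivially on `N_z = x̄^⊥ / (⟨x̄⟩ + Rad)` -/
def Tri {V : Subgroup G} {z : G} {cf : G → Subgroup G} {M H : Type u} [AddCommGroup M] [Group H]
    [DistribMulAction H M] (R : MRep V cf z M H) (B : M → M → ZMod 2) (x g : G) : Prop :=
  ∀ m, B m (R.pi x) = 0 → ∃ ρ, Rd B ρ ∧ (R.phi g • m = m + ρ ∨ R.phi g • m = m + R.pi x + ρ)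

/-- the family with the form at the base point `z` -/
structure Loc (T V : Subgroup G) (z : G) (cf : G → Subgroup G) {M H : Type u} [AddCommGroup M] [Group H]
    [DistribMulAction H M] (R : MRep V cf z M H) (TT : Set M) (B : M → M → ZMod 2) : Prop where
  fam : Fam T V z cf
  jj : jj V cf = V
  sys : Sys TT B
  inj : Inj TT B
  map : ∀ h : H, ∀ v ∈ TT, h • v ∈ TT
  form : ∀ (h : H) (a b : M), B (h • a) (h • b) = B a b
  mem : ∀ x ∈ V, x ≠ 1 → x ≠ z → R.pi x ∈ TT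
  perp : ∀ x ∈ V, x ≠ 1 → x ≠ z → ∀ w ∈ ww V cf z, B (R.pi w) (R.pi x) = 0 ↔ w ∈ kk V cf x

namespace Loc

variable {T V : Subgroup G} {z : G} {cf : G → Subgroup G} {M H : Type u} [AddCommGroup M] [Group H]
  [DistribMulAction H M] {R : MRep V cf z M H} {TT : Set M} {B : M → M → ZMod 2} {x c d : G}

section geo

variable (L : Loc T V z cf R TT B) (hx : x ∈ V) (hx1 : x ≠ 1) (hxz : x ≠ z)
include L hx hx1 hxz

/-- an element of `cf x` which fixes `z` is in `C_G(V)` -/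
theorem cent_of (hc : c ∈ cf x) (h : c * z * c⁻¹ = z) : c ∈ centralizer (V : Set G) :=
  L.fam.mem_centralizer_of hx hx1 L.fam.ln.z_mem L.fam.ln.z_ne (Ne.symm hxz) (L.fam.cf_comm hx hx1 hc)
    (comm_of_conj_eq h)

/-- `W_p` depends only on `p` -/
theorem cj_eq (hc : c ∈ cf x) (hd : d ∈ cf x) (h : d * z * d⁻¹ = c * z * c⁻¹) :
    cj d (ww V cf z) = cj c (ww V cf z) := by
  have h1 : c⁻¹ * d ∈ centralizer (V : Set G) := by
    refine L.cent_of hx hx1 hxz (mul_mem (inv_mem hc) hd) ?_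
    calc c⁻¹ * d * z * (c⁻¹ * d)⁻¹ = c⁻¹ * (d * z * d⁻¹) * c := by group
      _ = c⁻¹ * (c * z * c⁻¹) * c := by rw [h]
      _ = z := by group
  have h2 : cj (c⁻¹ * d) (ww V cf z) = ww V cf z :=
    cj_eq_of_mem_normalizer (L.fam.cent_norm L.fam.ln.z_mem L.fam.ln.z_ne h1)
  have h3 : cj d (ww V cf z) = cj c (cj (c⁻¹ * d) (ww V cf z)) := by rw [cj_cj, mul_inv_cancel_left]
  rw [h3, h2]

/-- `x ∈ W_p` -/
theorem x_mem (hc : c ∈ cf x) : x ∈ cj c (ww V cf z) := by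
  rw [mem_cj]
  have : c⁻¹ * x * c = x := by
    have := L.fam.cf_comm hx hx1 hc
    rw [mul_assoc, ← this]; group
  rw [this]
  exact L.fam.V_le hx

/-- `p ∈ W_p` -/
theorem p_mem : c * z * c⁻¹ ∈ cj c (ww V cf z) := conj_mem_cj L.fam.z_mem_ww

/-- `W_z` centralises `x` and `p`: it is in the conjugate of `C_G(V)` -/
theorem cent_w (hF : Far V z cf x c) {w : G} (hw : w ∈ ww V cf z) : c⁻¹ * w * c ∈ centralizer (V : Set G) := by
  have hz := L.fam.ln.z_mem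
  have hz1 := L.fam.ln.z_ne
  have hcx := L.fam.cf_comm hx hx1 hF.mem
  have hwx : x * w = w * x := L.fam.V_comm hx (L.fam.ww_le_cent hz hz1 hw)
  have hwp := mem_centralizer_iff.mp hF.cent w hw
  refine L.fam.mem_centralizer_of hx hx1 hz hz1 (Ne.symm hxz) ?_ ?_
  · calc c⁻¹ * w * c * x = c⁻¹ * w * (c * x) := by group
      _ = c⁻¹ * w * (x * c) := by rw [hcx]
      _ = c⁻¹ * (w * x) * c := by group
      _ = c⁻¹ * (x * w) * c := by rw [hwx]
      _ = c⁻¹ * x * c * (c⁻¹ * w * c) := by group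
      _ = c⁻¹ * (x * c) * (c⁻¹ * w * c) := by group
      _ = c⁻¹ * (c * x) * (c⁻¹ * w * c) := by rw [hcx]
      _ = x * (c⁻¹ * w * c) := by group
  · calc c⁻¹ * w * c * z = c⁻¹ * (w * (c * z * c⁻¹)) * c := by group
      _ = c⁻¹ * (c * z * c⁻¹ * w) * c := by rw [hwp]
      _ = z * (c⁻¹ * w * c) := by group

/-- `W_z` normalises `W_p` -/
theorem norm_w (hF : Far V z cf x c) {w a : G} (hw : w ∈ ww V cf z) (ha : a ∈ cj c (ww V cf z)) :
    w * a * w⁻¹ ∈ cj c (ww V cf z) := by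
  have h1 := L.cent_w hx hx1 hxz hF hw
  rw [mem_cj] at ha ⊢
  have h2 := conj_mem_of_normalizer (L.fam.cent_norm L.fam.ln.z_mem L.fam.ln.z_ne) h1 ha
  have e : c⁻¹ * w * c * (c⁻¹ * a * c) * (c⁻¹ * w * c)⁻¹ = c⁻¹ * (w * a * w⁻¹) * c := by group
  rwa [e] at h2

/-- `V ∩ W_p = ⟨x⟩` -/
theorem inf_V (hF : Far V z cf x c) {v : G} (hv : v ∈ V) (hvp : v ∈ cj c (ww V cf z)) : v = 1 ∨ v = x := by
  have hz := L.fam.ln.z_mem
  have hz1 := L.fam.ln.z_ne
  have hcx := L.fam.cf_comm hx hx1 hF.mem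
  have hvx : v ∈ ww V cf x := L.fam.V_le hv
  rw [mem_cj] at hvp
  have h1 : c⁻¹ * v * c ∈ ww V cf x := conj_mem_of_normalizer' L.fam.cf_norm hF.mem hvx
  have h2 : c⁻¹ * v * c ∈ V := by
    have := L.fam.mem_jj hx hx1 hz hz1 (Ne.symm hxz) h1 hvp
    rwa [L.jj] at this
  -- `v = c u c⁻¹`, `u ∈ V`
  have hcxx : c * x * c⁻¹ = x := conj_eq_of_comm hcx
  have e : v = c * (c⁻¹ * v * c) * c⁻¹ := by group
  have hpV := hF.nmem
  rcases L.fam.ln.four hx hz hx1 hz1 hxz h2 with e1 | e1 | e1 | e1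
  · left; rw [e, e1]; group
  · right; rw [e, e1, hcxx]
  · exfalso
    rw [e1] at e
    exact hpV (by rw [← e]; exact hv)
  · exfalso
    rw [e1] at e
    have e2 : c * (x * z) * c⁻¹ = (c * x * c⁻¹) * (c * z * c⁻¹) := by group
    rw [e2, hcxx] at e
    apply hpV
    have : c * z * c⁻¹ = x * v := by
      rw [e, ← mul_assoc, L.fam.ln.sq x hx, one_mul]
    rw [this]
    exact mul_mem hx hv

/-- commutators of `W_z` and `D_p(x)` are in `W_z ∩ W_p` -/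
theorem comm_J (hF : Far V z cf x c) {n w : G} (hn : n ∈ cj c (ww V cf z))
    (hnV : n ∈ centralizer (V : Set G)) (hw : w ∈ ww V cf z) :
    n * w * n⁻¹ * w⁻¹ ∈ ww V cf z ∧ n * w * n⁻¹ * w⁻¹ ∈ cj c (ww V cf z) := by
  have hz := L.fam.ln.z_mem
  have hz1 := L.fam.ln.z_ne
  constructor
  · exact mul_mem (conj_mem_of_normalizer (L.fam.cent_norm hz hz1) hnV hw) (inv_mem hw)
  · have e : n * w * n⁻¹ * w⁻¹ = n * (w * n⁻¹ * w⁻¹) := by group
    rw [e]
    exact mul_mem hn (L.norm_w hx hx1 hxz hF hw (inv_mem hn))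

omit hx hx1 hxz in
/-- the action of `n ∈ C_G(V)` -/
theorem phi_pi {n w : G} (hn : n ∈ centralizer (V : Set G)) (hw : w ∈ ww V cf z) :
    R.phi n • R.pi w + R.pi w = R.pi (n * w * n⁻¹ * w⁻¹) := by
  have h1 := R.comm_eq L.fam (L.fam.cent_le_cf L.fam.ln.z_mem L.fam.ln.z_ne hn) hw
  rw [← h1, L.sys.sub_eq]

/-- the module situation (3.6) for `n` -/
theorem hact {n : G} (hn : n ∈ centralizer (V : Set G)) (ht : Tri R B x n) :
    ∃ t, HAct TT B (R.pi x) t (DistribSMul.toAddMonoidHom M (R.phi n)) := by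
  have hv := L.mem x hx hx1 hxz
  obtain ⟨t, ht1, ht2⟩ := L.sys.exists_nd hv
  refine ⟨t, ?_⟩
  exact
    { sys := L.sys
      inj := L.inj
      v_mem := hv
      t_mem := ht1
      tv := by rw [L.sys.symm]; exact ht2
      iso := fun a b => L.form _ a b
      map := fun a ha => L.map _ a ha
      hv := by
        change R.phi n • R.pi x = R.pi x
        rw [R.act n (L.fam.cent_le_cf L.fam.ln.z_mem L.fam.ln.z_ne hn) x (L.fam.V_le hx),
          conj_eq_of_comm (L.fam.V_comm hx hn).symm]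
      tri := ht }

omit hx1 hxz in
theorem mem_V_of_pi {e : G} (he : e ∈ ww V cf z) (h : R.pi e = 0 ∨ R.pi e = R.pi x) : e ∈ V := by
  have hz := L.fam.ln.z_mem
  rcases h with h | h
  · rcases (R.pi_ker e he).mp h with h | h
    · rw [h]; exact one_mem _
    · rw [h]; exact hz
  · rcases (R.pi_eq L.fam he (L.fam.V_le hx)).mp h with h | h
    · rw [h]; exact hx
    · rw [h]; exact mul_mem hz hx

theorem eq_of_pi (hF : Far V z cf x c) {e : G} (he : e ∈ ww V cf z) (hep : e ∈ cj c (ww V cf z))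
    (h : R.pi e = 0 ∨ R.pi e = R.pi x) : e = 1 ∨ e = x :=
  L.inf_V hx hx1 hxz hF (L.mem_V_of_pi hx he h) hep

/-- **Section 4, first half**: `[W_z, D_p(x)] ≤ ⟨x⟩` -/
theorem four_one (np : ∀ a ∈ TT, ∀ b ∈ TT, ¬ Sys.Planar TT B a b) (hF : Far V z cf x c) {n w : G}
    (hn : n ∈ cj c (ww V cf z)) (hnk : n ∈ kk V cf x) (ht : Tri R B x n) (hw : w ∈ ww V cf z) :
    n * w * n⁻¹ * w⁻¹ = 1 ∨ n * w * n⁻¹ * w⁻¹ = x := by
  have hnV := L.fam.kk_le_cent hnk
  obtain ⟨t, ha⟩ := L.hact hx hx1 hxz hnV ht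
  have h1 := (ha.four np).2 (R.pi w)
  have h2 := L.comm_J hx hx1 hxz hF hn hnV hw
  refine L.eq_of_pi hx hx1 hxz hF h2.1 h2.2 ?_
  rw [← L.phi_pi hnV hw]
  exact h1

end geo

/-- `d` interchanges `z` and `p = c z c⁻¹` -/
structure Sw (z : G) (cf : G → Subgroup G) (x c d : G) : Prop where
  mem : d ∈ cf x
  one : d * z * d⁻¹ = c * z * c⁻¹
  two : d * (c * z * c⁻¹) * d⁻¹ = z

section swap

variable (L : Loc T V z cf R TT B) (hx : x ∈ V) (hx1 : x ≠ 1) (hxz : x ≠ z) (hF : Far V z cf x c)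
  (hS : Sw z cf x c d)
include L hx hx1 hxz hF hS

theorem sw_one : cj d (ww V cf z) = cj c (ww V cf z) := L.cj_eq hx hx1 hxz hF.mem hS.mem hS.one

theorem sw_two : cj d (cj c (ww V cf z)) = ww V cf z := by
  have h1 : d * c ∈ centralizer (V : Set G) := by
    refine L.cent_of hx hx1 hxz (mul_mem hS.mem hF.mem) ?_
    have := hS.two
    calc d * c * z * (d * c)⁻¹ = d * (c * z * c⁻¹) * d⁻¹ := by group
      _ = z := this
  rw [cj_cj]
  exact cj_eq_of_mem_normalizer (L.fam.cent_norm L.fam.ln.z_mem L.fam.ln.z_ne h1)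

theorem conj_one {w : G} (hw : w ∈ ww V cf z) : d * w * d⁻¹ ∈ cj c (ww V cf z) := by
  rw [← L.sw_one hx hx1 hxz hF hS]; exact conj_mem_cj hw

theorem conj_two {w : G} (hw : w ∈ cj c (ww V cf z)) : d * w * d⁻¹ ∈ ww V cf z := by
  have := conj_mem_cj (g := d) hw
  rwa [L.sw_two hx hx1 hxz hF hS] at this

theorem conj_kk {w : G} (hw : w ∈ kk V cf x) : d * w * d⁻¹ ∈ kk V cf x :=
  conj_mem_of_normalizer L.fam.cf_norm_kk hS.mem hw

theorem conj_x : d * x * d⁻¹ = x := conj_eq_of_comm (L.fam.cf_comm hx hx1 hS.mem)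

/-- `W_p ≤ C_G(V)` -/
theorem wp_cent {w : G} (hw : w ∈ cj c (ww V cf z)) : w ∈ centralizer (V : Set G) := by
  have hz := L.fam.ln.z_mem
  have hz1 := L.fam.ln.z_ne
  have h1 := L.conj_two hx hx1 hxz hF hS hw
  have h2 := mem_centralizer_iff.mp hF.cent _ h1
  have h3 : x * (d * w * d⁻¹) = (d * w * d⁻¹) * x := L.fam.V_comm hx (L.fam.ww_le_cent hz hz1 h1)
  have hdx := L.fam.cf_comm hx hx1 hS.mem
  refine L.fam.mem_centralizer_of hx hx1 hz hz1 (Ne.symm hxz) ?_ ?_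
  · calc w * x = d⁻¹ * ((d * w * d⁻¹) * (d * x)) := by group
      _ = d⁻¹ * ((d * w * d⁻¹) * (x * d)) := by rw [hdx]
      _ = d⁻¹ * ((d * w * d⁻¹) * x * d) := by group
      _ = d⁻¹ * (x * (d * w * d⁻¹) * d) := by rw [h3]
      _ = d⁻¹ * (x * d) * w := by group
      _ = d⁻¹ * (d * x) * w := by rw [hdx]
      _ = x * w := by group
  · have e := hS.one
    calc w * z = d⁻¹ * ((d * w * d⁻¹) * (d * z * d⁻¹)) * d := by group
      _ = d⁻¹ * ((d * w * d⁻¹) * (c * z * c⁻¹)) * d := by rw [e]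
      _ = d⁻¹ * ((c * z * c⁻¹) * (d * w * d⁻¹)) * d := by rw [← h2]
      _ = d⁻¹ * ((d * z * d⁻¹) * (d * w * d⁻¹)) * d := by rw [e]
      _ = z * w := by group

/-- **Section 4, second half**: `[W_p, D_z] ≤ ⟨x⟩` -/
theorem four_two (np : ∀ a ∈ TT, ∀ b ∈ TT, ¬ Sys.Planar TT B a b)
    (ht : ∀ n ∈ cj c (ww V cf z), n ∈ kk V cf x → Tri R B x n) {w m : G} (hw : w ∈ cj c (ww V cf z))
    (hm : m ∈ ww V cf z) (hmk : m ∈ kk V cf x) : w * m * w⁻¹ * m⁻¹ = 1 ∨ w * m * w⁻¹ * m⁻¹ = x := by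
  have h1 := L.conj_one hx hx1 hxz hF hS hm
  have h2 := L.conj_kk hx hx1 hxz hF hS hmk
  have h3 := L.conj_two hx hx1 hxz hF hS hw
  have hdx := L.conj_x hx hx1 hxz hF hS
  have h4 := L.four_one hx hx1 hxz np hF h1 h2 (ht _ h1 h2) h3
  have e : w * m * w⁻¹ * m⁻¹ = d⁻¹ * (d * m * d⁻¹ * (d * w * d⁻¹) * (d * m * d⁻¹)⁻¹ * (d * w * d⁻¹)⁻¹)⁻¹ * d := by
    group
  rcases h4 with h4 | h4
  · left; rw [e, h4]; group
  · right
    rw [e, h4, L.fam.ln.inv_eq hx]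
    calc d⁻¹ * x * d = d⁻¹ * (d * x * d⁻¹) * d := by rw [hdx]
      _ = x := by group

/-- `W_p` is trivial on `N_z` -/
theorem tri_four (np : ∀ a ∈ TT, ∀ b ∈ TT, ¬ Sys.Planar TT B a b)
    (ht : ∀ n ∈ cj c (ww V cf z), n ∈ kk V cf x → Tri R B x n) {w : G} (hw : w ∈ cj c (ww V cf z)) :
    Tri R B x w := by
  intro m hm
  obtain ⟨a, ha, rfl⟩ := R.pi_surj m
  have hak := (L.perp x hx hx1 hxz a ha).mp hm
  have hwV := L.wp_cent hx hx1 hxz hF hS hw
  refine ⟨0, fun b => L.sys.zero_right b, ?_⟩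
  have h1 := L.phi_pi hwV ha
  rw [add_zero, add_zero]
  have h3 : R.phi w • R.pi a = R.pi a + R.pi (w * a * w⁻¹ * a⁻¹) := by
    rw [← h1, add_comm, L.sys.add_cancel']
  rcases L.four_two hx hx1 hxz hF hS np ht hw ha hak with h2 | h2
  · left; rw [h3, h2, R.pi_one L.fam, add_zero]
  · right; rw [h3, h2]

end swap

/-- **Section 4.** There is a planar pair. -/
theorem exists_planar (L : Loc T V z cf R TT B) (hx : x ∈ V) (hx1 : x ≠ 1) (hxz : x ≠ z)
    (swap : ∀ c, Far V z cf x c → ∃ d, Sw z cf x c d)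
    (tri : ∀ c, Far V z cf x c → ∀ n ∈ cj c (ww V cf z), n ∈ kk V cf x → Tri R B x n)
    (ntri : ∃ c, Far V z cf x c ∧ ∃ w ∈ cj c (ww V cf z), ¬ Tri R B x w) :
    ∃ a ∈ TT, ∃ b ∈ TT, Sys.Planar TT B a b := by
  by_contra hcon
  push Not at hcon
  obtain ⟨c, hF, w, hw, hwt⟩ := ntri
  obtain ⟨d, hS⟩ := swap c hF
  exact hwt (L.tri_four hx hx1 hxz hF hS hcon (tri c hF) hw)

end Loc

end Cfsg.Agent.Omega.NO3S.TV
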