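import Mathlib

/-!
# NO-3S, `q = 2`, `n = 1`, transvection types (helper311's text #16747): the abstract transvection system

`Sys TT B` : `TT` a set of vectors of the elementary abelian 2-group `M`, `B` an alternating form, `TT` spans, no
element of `TT` is in the radical, and `u + v ∈ TT` for `u, v ∈ TT` with `B u v = 1`.

* `Sys.fun_eq` : (1.2);
* `Sys.exists_nonperp` : (1.4);
* `Sys.common`, `Sys.swap` : (3.1);
* `Sys.all_of_planar` : section 5.
-/

set_option autoImplicit false
set_option linter.unusedSectionVars false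

namespace Cfsg.Agent.Omega.NO3S.TV

variable {M : Type*} [AddCommGroup M]

/-- the output of (1.1) -/
structure Sys (TT : Set M) (B : M → M → ZMod 2) : Prop where
  two : ∀ m : M, m + m = 0
  add_left : ∀ a b c, B (a + b) c = B a c + B b c
  symm : ∀ a b, B a b = B b a
  alt : ∀ a, B a a = 0
  span : AddSubgroup.closure TT = ⊤
  nd : ∀ v ∈ TT, ∃ m, B v m = 1
  refl : ∀ u ∈ TT, ∀ v ∈ TT, B u v = 1 → u + v ∈ TT

/-- (1.3) -/
def Inj (TT : Set M) (B : M → M → ZMod 2) : Prop := ∀ u ∈ TT, ∀ v ∈ TT, (∀ m, B u m = B v m) → u = v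

/-- the graph 'not perpendicular' is connected -/
def Conn (TT : Set M) (B : M → M → ZMod 2) : Prop :=
  ∀ S : Set M, S ⊆ TT → S.Nonempty → (∀ u ∈ S, ∀ v ∈ TT, B u v = 1 → v ∈ S) → TT ⊆ S

/-- the transvections act: `H` preserves `TT` and `B` and contains all `m ↦ m + (m, v) v`, `v ∈ TT` -/
structure Act (TT : Set M) (B : M → M → ZMod 2) (H : Type*) [Group H] [DistribMulAction H M] : Prop where
  smul_mem : ∀ (h : H), ∀ v ∈ TT, h • v ∈ TT
  form : ∀ (h : H) (a b : M), B (h • a) (h • b) = B a b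
  tv : ∀ v ∈ TT, ∃ a : H, ∀ m : M, (B m v = 0 → a • m = m) ∧ (B m v = 1 → a • m = m + v)

theorem z2 (a : ZMod 2) : a = 0 ∨ a = 1 := by
  revert a; decide

theorem z2_ne {a : ZMod 2} (h : a ≠ 0) : a = 1 := (z2 a).resolve_left h

theorem z2_ne' {a : ZMod 2} (h : a ≠ 1) : a = 0 := (z2 a).resolve_right h

theorem z2_add (a : ZMod 2) : a + a = 0 := by revert a; decide

theorem z2_eq_of_add {a b : ZMod 2} (h : a + b = 0) : a = b := by revert a b; decide

namespace Sys

variable {TT : Set M} {B : M → M → ZMod 2}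

theorem add_right (S : Sys TT B) (a b c : M) : B a (b + c) = B a b + B a c := by
  rw [S.symm, S.add_left, S.symm b, S.symm c]

theorem zero_left (S : Sys TT B) (a : M) : B 0 a = 0 := by
  have := S.add_left 0 0 a
  rw [add_zero] at this
  have h2 := z2_add (B 0 a)
  rw [← this] at h2
  exact h2

theorem zero_right (S : Sys TT B) (a : M) : B a 0 = 0 := by rw [S.symm]; exact S.zero_left a

theorem neg_eq (S : Sys TT B) (m : M) : -m = m := neg_eq_of_add_eq_zero_left (S.two m)

theorem sub_eq (S : Sys TT B) (m n : M) : m - n = m + n := by rw [sub_eq_add_neg, S.neg_eq]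

theorem add_cancel (S : Sys TT B) (m n : M) : m + (m + n) = n := by rw [← add_assoc, S.two, zero_add]

theorem add_cancel' (S : Sys TT B) (m n : M) : m + n + n = m := by rw [add_assoc, S.two, add_zero]

theorem eq_of_add (S : Sys TT B) {m n : M} (h : m + n = 0) : m = n := by
  rw [← S.add_cancel' m n, h, zero_add]

/-- two additive functions which agree on `TT` are equal -/
theorem fun_ext (S : Sys TT B) {f g : M → ZMod 2} (hf : ∀ a b, f (a + b) = f a + f b)
    (hg : ∀ a b, g (a + b) = g a + g b) (h : ∀ u ∈ TT, f u = g u) (m : M) : f m = g m := by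
  have hf0 : f 0 = 0 := by
    have := hf 0 0
    rw [add_zero] at this
    simpa using this
  have hg0 : g 0 = 0 := by
    have := hg 0 0
    rw [add_zero] at this
    simpa using this
  have hm : m ∈ AddSubgroup.closure TT := by rw [S.span]; exact AddSubgroup.mem_top m
  induction hm using AddSubgroup.closure_induction with
  | mem x hx => exact h x hx
  | zero => rw [hf0, hg0]
  | add x y _ _ hx hy => rw [hf, hg, hx, hy]
  | neg x _ hx => rwa [S.neg_eq]

/-- (1.2) -/
theorem fun_eq (S : Sys TT B) {v : M} (hv : v ∈ TT) {g : M → ZMod 2} (hg : ∀ a b, g (a + b) = g a + g b)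
    (h0 : ∀ u ∈ TT, B v u = 0 → g u = 0) : (∀ m, g m = 0) ∨ ∀ m, g m = B v m := by
  have gv : g v = 0 := h0 v hv (S.alt v)
  have key1 : ∀ u ∈ TT, ∀ u' ∈ TT, B v u = 1 → B v u' = 1 → B u u' = 1 → g u = g u' := by
    intro u hu u' hu' h1 h2 h3
    have := h0 _ (S.refl u hu u' hu' h3) (by rw [S.add_right, h1, h2]; decide)
    rw [hg] at this
    exact z2_eq_of_add this
  have key : ∀ u ∈ TT, ∀ u' ∈ TT, B v u = 1 → B v u' = 1 → g u = g u' := by
    intro u hu u' hu' h1 h2
    rcases z2 (B u u') with h3 | h3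
    · have h4 : v + u ∈ TT := S.refl v hv u hu h1
      have := key1 _ h4 u' hu' (by rw [S.add_right, S.alt, h1]; decide) h2
        (by rw [S.add_left, h2, h3]; decide)
      rwa [hg, gv, zero_add] at this
    · exact key1 u hu u' hu' h1 h2 h3
  by_cases hu : ∃ u ∈ TT, B v u = 1
  · obtain ⟨u, hu, hu1⟩ := hu
    rcases z2 (g u) with hgu | hgu
    · left
      refine S.fun_ext hg (fun _ _ => by simp) fun u' hu' => ?_
      rcases z2 (B v u') with h1 | h1
      · exact h0 u' hu' h1
      · rw [← key u hu u' hu' hu1 h1, hgu]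
    · right
      refine S.fun_ext hg (S.add_right v) fun u' hu' => ?_
      rcases z2 (B v u') with h1 | h1
      · rw [h1]; exact h0 u' hu' h1
      · rw [h1, ← key u hu u' hu' hu1 h1, hgu]
  · left
    refine S.fun_ext hg (fun _ _ => by simp) fun u' hu' => ?_
    refine h0 u' hu' (z2_ne' fun h => hu ⟨u', hu', h⟩)

theorem exists_nd (S : Sys TT B) {v : M} (hv : v ∈ TT) : ∃ u ∈ TT, B v u = 1 := by
  by_contra hc
  push Not at hc
  obtain ⟨m, hm⟩ := S.nd v hv
  have := S.fun_ext (f := B v) (g := fun _ => 0) (S.add_right v) (fun _ _ => by simp)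
    (fun u hu => z2_ne' (hc u hu)) m
  rw [hm] at this
  exact one_ne_zero this

theorem ne_zero (S : Sys TT B) {v : M} (hv : v ∈ TT) : v ≠ 0 := by
  rintro rfl
  obtain ⟨m, hm⟩ := S.nd _ hv
  rw [S.zero_left] at hm
  exact zero_ne_one hm

/-- (1.4) -/
theorem exists_nonperp (S : Sys TT B) (I : Inj TT B) {v μ : M} (hv : v ∈ TT) (hμ : μ ∈ TT)
    (hne : μ ≠ v) : ∃ u ∈ TT, B v u = 0 ∧ B u μ = 1 := by
  by_contra hc
  push Not at hc
  rcases S.fun_eq hv (g := B μ) (S.add_right μ) (fun u hu h => by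
    rw [S.symm]; exact z2_ne' (hc u hu h)) with h | h
  · obtain ⟨m, hm⟩ := S.nd μ hμ
    rw [h] at hm
    exact zero_ne_one hm
  · exact hne (I μ hμ v hv h)

/-- the transvection with centre `u` -/
noncomputable def rf (B : M → M → ZMod 2) (u m : M) : M := by
  classical exact if B m u = 1 then m + u else m

theorem rf_one {u m : M} (h : B m u = 1) : rf B u m = m + u := by
  unfold rf; exact if_pos h

theorem rf_zero {u m : M} (h : B m u = 0) : rf B u m = m := by
  unfold rf; rw [if_neg]; rw [h]; exact zero_ne_one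

theorem rf_mem (S : Sys TT B) {u m : M} (hu : u ∈ TT) (hm : m ∈ TT) : rf B u m ∈ TT := by
  rcases z2 (B m u) with h | h
  · rw [rf_zero h]; exact hm
  · rw [rf_one h]; exact S.refl m hm u hu h

theorem rf_form (S : Sys TT B) (u a b : M) : B (rf B u a) (rf B u b) = B a b := by
  rcases z2 (B a u) with h | h <;> rcases z2 (B b u) with h' | h'
  · rw [rf_zero h, rf_zero h']
  · rw [rf_zero h, rf_one h', S.add_right, h, add_zero]
  · rw [rf_one h, rf_zero h', S.add_left, S.symm u b, h', add_zero]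
  · rw [rf_one h, rf_one h', S.add_left, S.add_right, S.add_right, h, S.symm u b, h', S.alt, add_zero, add_assoc]
    rw [z2_add 1, add_zero]

theorem rf_rf (S : Sys TT B) (u a : M) : rf B u (rf B u a) = a := by
  rcases z2 (B a u) with h | h
  · rw [rf_zero h, rf_zero h]
  · rw [rf_one h, rf_one (by rw [S.add_left, h, S.alt, add_zero]), S.add_cancel']

theorem rf_add (S : Sys TT B) (u a b : M) : rf B u (a + b) = rf B u a + rf B u b := by
  rcases z2 (B a u) with h | h <;> rcases z2 (B b u) with h' | h'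
  · rw [rf_zero h, rf_zero h', rf_zero (by rw [S.add_left, h, h', add_zero])]
  · rw [rf_zero h, rf_one h', rf_one (by rw [S.add_left, h, h', zero_add]), add_assoc]
  · rw [rf_one h, rf_zero h', rf_one (by rw [S.add_left, h, h', add_zero])]
    abel
  · rw [rf_one h, rf_one h', rf_zero (by rw [S.add_left, h, h', z2_add])]
    have : a + u + (b + u) = a + b + (u + u) := by abel
    rw [this, S.two, add_zero]

/-- common neighbours: the diameter is at most 2 -/
theorem common (S : Sys TT B) (C : Conn TT B) {u v : M} (hu : u ∈ TT) (hv : v ∈ TT) :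
    ∃ t ∈ TT, B u t = 1 ∧ B t v = 1 ∨ B u v = 1 := by
  let D : Set M := {w | w ∈ TT ∧ (B u w = 1 ∨ ∃ t ∈ TT, B u t = 1 ∧ B t w = 1)}
  obtain ⟨t0, ht0, ht01⟩ := S.exists_nd hu
  have hD : TT ⊆ D := by
    refine C D (fun w hw => hw.1) ⟨u, hu, Or.inr ⟨t0, ht0, ht01, by rw [S.symm]; exact ht01⟩⟩ ?_
    rintro w ⟨hw, hw1⟩ w' hw' hww
    refine ⟨hw', ?_⟩
    rcases hw1 with h1 | ⟨t, ht, h1, h2⟩
    · exact Or.inr ⟨w, hw, h1, hww⟩
    · rcases z2 (B u w) with h3 | h3
      · rcases z2 (B t w') with h4 | h4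
        · refine Or.inr ⟨t + w, S.refl t ht w hw h2, ?_, ?_⟩
          · rw [S.add_right, h1, h3, add_zero]
          · rw [S.add_left, h4, hww, zero_add]
        · exact Or.inr ⟨t, ht, h1, h4⟩
      · exact Or.inr ⟨w, hw, h3, hww⟩
  rcases (hD hv).2 with h | ⟨t, ht, h1, h2⟩
  · exact ⟨t0, ht0, Or.inr h⟩
  · exact ⟨t, ht, Or.inl ⟨h1, h2⟩⟩

/-- common neighbours of two perpendicular elements -/
theorem common' (S : Sys TT B) (C : Conn TT B) {u v : M} (hu : u ∈ TT) (hv : v ∈ TT) (h : B u v = 0) :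
    ∃ t ∈ TT, B u t = 1 ∧ B t v = 1 := by
  obtain ⟨t, ht, h1 | h1⟩ := S.common C hu hv
  · exact ⟨t, ht, h1⟩
  · rw [h] at h1; exact absurd h1 zero_ne_one

/-- (3.1), abstract part: `a_t a_t'` interchanges `v` and `μ` -/
theorem swap (S : Sys TT B) (C : Conn TT B) {v μ : M} (hv : v ∈ TT) (hμ : μ ∈ TT) (h : B v μ = 0) :
    ∃ t ∈ TT, ∃ t' ∈ TT, B t t' = 0 ∧ B v t = 1 ∧ B μ t = 1 ∧ B v t' = 1 ∧ B μ t' = 1 ∧ t' = v + t + μ ∧
      rf B t (rf B t' v) = μ ∧ rf B t (rf B t' μ) = v := by
  obtain ⟨t, ht, h1, h2⟩ := S.common' C hv hμ h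
  have h2' : B μ t = 1 := by rw [S.symm]; exact h2
  have h1' : B t v = 1 := by rw [S.symm]; exact h1
  have h' : B μ v = 0 := by rw [S.symm]; exact h
  have hvt : v + t ∈ TT := S.refl v hv t ht h1
  have ht' : v + t + μ ∈ TT := S.refl _ hvt μ hμ (by rw [S.add_left, h, h2, zero_add])
  have a1 : B v (v + t + μ) = 1 := by rw [S.add_right, S.add_right, S.alt, h1, h]; decide
  have a2 : B μ (v + t + μ) = 1 := by rw [S.add_right, S.add_right, S.alt, h2', h']; decide
  refine ⟨t, ht, v + t + μ, ht', ?_, h1, h2', a1, a2, rfl, ?_, ?_⟩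
  · rw [S.add_right, S.add_right, h1', S.alt, h2]; decide
  · have e : v + (v + t + μ) = t + μ := by rw [add_assoc, S.add_cancel]
    have e1 : rf B (v + t + μ) v = t + μ := by rw [rf_one a1, e]
    have e2 : B (t + μ) t = 1 := by rw [S.add_left, S.alt, h2', zero_add]
    have e3 : t + μ + t = μ + (t + t) := by abel
    rw [e1, rf_one e2, e3, S.two, add_zero]
  · have e : μ + (v + t + μ) = v + t + (μ + μ) := by abel
    have e1 : rf B (v + t + μ) μ = v + t := by rw [rf_one a2, e, S.two, add_zero]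
    have e2 : B (v + t) t = 1 := by rw [S.add_left, S.alt, h1, add_zero]
    rw [e1, rf_one e2, add_assoc, S.two, add_zero]

/-- `(u, v)` is planar: perpendicular, different, `u + v` is in `TT` modulo the radical -/
def Planar (TT : Set M) (B : M → M → ZMod 2) (u v : M) : Prop :=
  B u v = 0 ∧ u ≠ v ∧ ∃ w ∈ TT, ∀ m, B w m = B u m + B v m

theorem planar_symm (S : Sys TT B) {u v : M} (h : Planar TT B u v) : Planar TT B v u := by
  obtain ⟨h1, h2, w, hw, h3⟩ := h
  exact ⟨by rw [S.symm]; exact h1, h2.symm, w, hw, fun m => by rw [h3, add_comm]⟩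

theorem planar_rf (S : Sys TT B) {t u v : M} (ht : t ∈ TT) (h : Planar TT B u v) :
    Planar TT B (rf B t u) (rf B t v) := by
  obtain ⟨h1, h2, w, hw, h3⟩ := h
  refine ⟨by rw [S.rf_form]; exact h1, fun e => h2 ?_, rf B t w, S.rf_mem ht hw, fun m => ?_⟩
  · rw [← S.rf_rf t u, e, S.rf_rf]
  · have : m = rf B t (rf B t m) := (S.rf_rf t m).symm
    rw [this, S.rf_form, S.rf_form, S.rf_form, h3]

/-- planarity at one point gives planarity at every point -/
theorem planar_all (S : Sys TT B) (C : Conn TT B) {u v : M} (hu : u ∈ TT) (hv : v ∈ TT) (h : Planar TT B u v)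
    {l : M} (hl : l ∈ TT) : ∃ m ∈ TT, Planar TT B l m := by
  let D : Set M := {w | w ∈ TT ∧ ∃ m ∈ TT, Planar TT B w m}
  have hD : TT ⊆ D := by
    refine C D (fun w hw => hw.1) ⟨u, hu, v, hv, h⟩ ?_
    rintro w ⟨hw, m, hm, hp⟩ w' hw' hww
    have ht : w + w' ∈ TT := S.refl w hw w' hw' hww
    have e : rf B (w + w') w = w' := by
      rw [rf_one (by rw [S.add_right, S.alt, hww, zero_add]), S.add_cancel]
    refine ⟨hw', rf B (w + w') m, S.rf_mem ht hm, ?_⟩
    have := S.planar_rf ht hp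
    rwa [e] at this
  exact (hD hl).2

end Sys

end Cfsg.Agent.Omega.NO3S.TV
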