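import Cfsg.Agent.Omega.NO3S.Fit.Sub
import Cfsg.Agent.Omega.NO3S.Fit.AbsNat
import Cfsg.Agent.Omega.NO3S.TV.Sys

/-!
# NO-3S, `q = 2`, `n = 1`, transvection types (helper311's text #16747), section 2: `W_x ∩ W_y = V` in the full family

* `exists_rot` (F2): `u ∈ I - V`: some `n ∈ N_G(V)` centralizes `u` and moves `x` to `y`;
* `jj_eq` : `I = V`, for the full family `cf p = C_G(p)`.
-/

set_option autoImplicit false
set_option linter.unusedSectionVars false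

namespace Cfsg.Agent.Omega.NO3S.TV

open Subgroup Cfsg Cfsg.Agent.ZN Cfsg.Agent.MinSimple.Geo Cfsg.Agent.Omega.CaseL
  Cfsg.Agent.Omega.NO3S.Fit
open Cfsg.Agent.ZN.Block (conj_mem_of_normalizer conj_mem_of_normalizer' le_normalizer_of_forall
  mem_normalizer_of)

universe u

variable {G : Type u} [Group G] [Finite G] {T V : Subgroup G} {z : G} {cf : G → Subgroup G}

/-- the elements of `I` which are centralized by all `Q_p`, `p ∈ V#`, are trivial -/
theorem eq_one_of_qq (h : Fam T V z cf) {u : G} (hu : u ∈ jj V cf)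
    (hc : ∀ p ∈ V, p ≠ 1 → ∀ k ∈ qq V cf p, k * u = u * k) : u = 1 := by
  have hz := h.ln.z_mem
  have hz1 := h.ln.z_ne
  let F : Subgroup G :=
    { carrier := {f | f ∈ jj V cf ∧ ∀ p ∈ V, p ≠ 1 → ∀ k ∈ qq V cf p, k * f = f * k}
      mul_mem' := by
        rintro a b ⟨ha, ha1⟩ ⟨hb, hb1⟩
        exact ⟨mul_mem ha hb, fun p hp hp1 k hk => comm_mul_of (ha1 p hp hp1 k hk) (hb1 p hp hp1 k hk)⟩
      one_mem' := ⟨one_mem _, fun p _ _ k _ => by simp⟩
      inv_mem' := by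
        rintro a ⟨ha, ha1⟩
        exact ⟨inv_mem ha, fun p hp hp1 k hk => comm_inv_of (ha1 p hp hp1 k hk)⟩ }
  have hFn : normalizer (V : Set G) ≤ normalizer (F : Set G) := by
    refine le_normalizer_of_forall fun g hg f hf => ?_
    refine ⟨conj_mem_of_normalizer h.normalizer_le_normalizer_jj hg hf.1, fun p hp hp1 k hk => ?_⟩
    have h1 := h.conj_qq (inv_mem hg) hp hp1 hk
    rw [inv_inv] at h1
    have h2 := hf.2 _ (h.conj_pt' hg hp) (Fam.conj_ne' hp1) _ h1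
    calc k * (g * f * g⁻¹) = g * (g⁻¹ * k * g * f) * g⁻¹ := by group
      _ = g * (f * (g⁻¹ * k * g)) * g⁻¹ := by rw [h2]
      _ = g * f * g⁻¹ * k := by group
  have hFV : F ≤ normalizer (V : Set G) := fun f hf => centralizer_le_normalizer _ (h.jj_le_cent hf.1)
  by_contra hu1
  have hne : F ≠ ⊥ := by
    intro e
    have : u ∈ F := ⟨hu, hc⟩
    rw [e, mem_bot] at this
    exact hu1 this
  have hzF : z ∈ F := h.ln.z_mem_of_normal hFV hFn hne
  obtain ⟨y, hy, hy1, hyz⟩ := h.ln.exists_y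
  obtain ⟨k, hk, hk1⟩ := h.exists_mover hy hy1
  have h1 := h.move hy hy1 hz hz1 (Ne.symm hyz) hk hk1
  have h2 := conj_eq_of_comm (hzF.2 y hy hy1 k hk)
  rw [h1] at h2
  exact hy1 (by simpa using h2)

/-- **(F2)** : for `u ∈ I - V` some `n ∈ N_G(V)` centralizes `u` and moves `x` to `y` -/
theorem exists_rot (h : Fam T V z cf) {u : G} (hu : u ∈ jj V cf) (huV : u ∉ V) {x y : G} (hx : x ∈ V)
    (hx1 : x ≠ 1) (hy : y ∈ V) (hy1 : y ≠ 1) (hyx : y ≠ x) :
    ∃ n ∈ normalizer (V : Set G), n * u * n⁻¹ = u ∧ n * x * n⁻¹ = y := by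
  by_contra hcon
  push Not at hcon
  have sq := h.ln.sq
  obtain ⟨s, hs⟩ : ∃ s, s = x * y := ⟨_, rfl⟩
  have hsV : s ∈ V := by rw [hs]; exact mul_mem hx hy
  have hxy : x * y = y * x := h.ln.comm hx hy
  have hs1 : s ≠ 1 := by rw [hs]; exact h.mul_ne_one hy (Ne.symm hyx)
  have hxs : x ≠ s := fun e => hy1 (by rw [hs] at e; simpa using e.symm)
  have hys : y ≠ s := fun e => hx1 (by rw [hs] at e; simpa using e.symm)
  have hxys : x * s = y := by rw [hs, ← mul_assoc, sq x hx, one_mul]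
  have hsx : s * x = y := by rw [h.ln.comm hsV hx, hxys]
  have hyxs : y * x = s := by rw [hs, hxy]
  have hys' : y * s = x := by rw [← hyxs, ← mul_assoc, sq y hy, one_mul]
  have hsy : s * y = x := by rw [h.ln.comm hsV hy, hys']
  have huc : ∀ v ∈ V, v * u = u * v := fun v hv => h.V_comm hv (h.jj_le_cent hu)
  -- action of `Q_p` on `u`
  have hqc : ∀ p ∈ V, p ≠ 1 → ∀ k ∈ qq V cf p, k * u * k⁻¹ = u ∨ k * u * k⁻¹ = p * u :=
    fun p hp hp1 k hk => h.qq_cases hp hk (Fam.jj_le hp hp1 hu)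
  have hpfix : ∀ {p k : G}, k ∈ qq V cf p → k * p * k⁻¹ = p := fun hk => conj_eq_of_comm (h.qq_p hk)
  have hcfix : ∀ {v c : G}, v ∈ V → c ∈ centralizer (V : Set G) → c * v * c⁻¹ = v :=
    fun hv hc => conj_eq_of_comm (h.V_comm hv hc).symm
  have hmul : ∀ a b k : G, k * (a * b) * k⁻¹ = (k * a * k⁻¹) * (k * b * k⁻¹) := fun a b k => by group
  obtain ⟨qx, hqx, hqx1⟩ := h.exists_mover hx hx1
  obtain ⟨qy, hqy, hqy1⟩ := h.exists_mover hy hy1
  obtain ⟨qs, hqs, hqs1⟩ := h.exists_mover hsV hs1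
  have exy : qx * y * qx⁻¹ = s := by rw [h.move hx hx1 hy hy1 hyx hqx hqx1, hs]
  have exs : qx * s * qx⁻¹ = y := by rw [h.move hx hx1 hsV hs1 (Ne.symm hxs) hqx hqx1, hxys]
  have exx : qx * x * qx⁻¹ = x := hpfix hqx
  have eyx : qy * x * qy⁻¹ = s := by rw [h.move hy hy1 hx hx1 (Ne.symm hyx) hqy hqy1, hyxs]
  have eys : qy * s * qy⁻¹ = x := by rw [h.move hy hy1 hsV hs1 (Ne.symm hys) hqy hqy1, hys']
  have eyy : qy * y * qy⁻¹ = y := hpfix hqy
  have esx : qs * x * qs⁻¹ = y := by rw [h.move hsV hs1 hx hx1 hxs hqs hqs1, hsx]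
  have esy : qs * y * qs⁻¹ = x := by rw [h.move hsV hs1 hy hy1 hys hqs hqs1, hsy]
  have ess : qs * s * qs⁻¹ = s := hpfix hqs
  have nx := h.qq_le_normalizer hx hqx
  have ny := h.qq_le_normalizer hy hqy
  have ns := h.qq_le_normalizer hsV hqs
  -- `q_s` moves `u`
  have hsu : qs * u * qs⁻¹ = s * u := by
    rcases hqc s hsV hs1 qs hqs with e | e
    · exact absurd esx (hcon qs ns e)
    · exact e
  -- claim A
  have hA : ∀ c ∈ centralizer (V : Set G), c * u * c⁻¹ ≠ s * u := by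
    intro c hc e
    refine hcon (c * qs) (mul_mem (centralizer_le_normalizer _ hc) ns) ?_ ?_
    · calc c * qs * u * (c * qs)⁻¹ = c * (qs * u * qs⁻¹) * c⁻¹ := by group
        _ = (c * s * c⁻¹) * (c * u * c⁻¹) := by rw [hsu]; group
        _ = s * s * u := by rw [hcfix hsV hc, e]; group
        _ = u := by rw [sq s hsV, one_mul]
    · calc c * qs * x * (c * qs)⁻¹ = c * (qs * x * qs⁻¹) * c⁻¹ := by group
        _ = y := by rw [esx, hcfix hy hc]
  -- conjugation of translations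
  have hT : ∀ r ∈ V, r ≠ 1 → ∀ k ∈ qq V cf r, ∀ p ∈ V, ∀ c ∈ centralizer (V : Set G), c * u * c⁻¹ = p * u →
      (k * c * k⁻¹) * u * (k * c * k⁻¹)⁻¹ = (k * p * k⁻¹) * u := by
    intro r hr hr1 k hk p hp c hc e
    have hk' := inv_mem hk
    rcases hqc r hr hr1 _ hk' with e1 | e1
    · rw [inv_inv] at e1
      have e2 : k * u * k⁻¹ = u := by
        calc k * u * k⁻¹ = k * (k⁻¹ * u * k) * k⁻¹ := by rw [e1]
          _ = u := by group
      calc (k * c * k⁻¹) * u * (k * c * k⁻¹)⁻¹ = k * (c * (k⁻¹ * u * k) * c⁻¹) * k⁻¹ := by group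
        _ = (k * p * k⁻¹) * (k * u * k⁻¹) := by rw [e1, e]; group
        _ = (k * p * k⁻¹) * u := by rw [e2]
    · rw [inv_inv] at e1
      have e2 : k * (r * u) * k⁻¹ = u := by rw [← e1]; group
      calc (k * c * k⁻¹) * u * (k * c * k⁻¹)⁻¹ = k * (c * (k⁻¹ * u * k) * c⁻¹) * k⁻¹ := by group
        _ = k * ((c * r * c⁻¹) * (c * u * c⁻¹)) * k⁻¹ := by rw [e1]; group
        _ = k * (r * p * u) * k⁻¹ := by rw [hcfix hr hc, e]; group
        _ = k * (p * (r * u)) * k⁻¹ := by rw [h.ln.comm hr hp]; group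
        _ = (k * p * k⁻¹) * (k * (r * u) * k⁻¹) := by group
        _ = (k * p * k⁻¹) * u := by rw [e2]
  have hnc : ∀ {g c : G}, g ∈ normalizer (V : Set G) → c ∈ centralizer (V : Set G) →
      g * c * g⁻¹ ∈ centralizer (V : Set G) := fun hg hc =>
    conj_mem_of_normalizer (normalizer_le_normalizer_centralizer V) hg hc
  -- claim B
  have hB : ∀ p ∈ V, p ≠ 1 → ∀ c ∈ centralizer (V : Set G), c * u * c⁻¹ ≠ p * u := by
    intro p hp hp1 c hc e
    rcases h.ln.four hx hy hx1 hy1 (Ne.symm hyx) hp with e1 | e1 | e1 | e1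
    · exact hp1 e1
    · have := hT y hy hy1 qy hqy p hp c hc e
      rw [e1, eyx] at this
      exact hA _ (hnc ny hc) this
    · have := hT x hx hx1 qx hqx p hp c hc e
      rw [e1, exy] at this
      exact hA _ (hnc nx hc) this
    · rw [← hs] at e1
      rw [e1] at e
      exact hA c hc e
  have hfixC : ∀ p ∈ V, p ≠ 1 → ∀ k ∈ qq V cf p, k ∈ centralizer (V : Set G) → k * u * k⁻¹ = u := by
    intro p hp hp1 k hk hkV
    rcases hqc p hp hp1 k hk with e | e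
    · exact e
    · exact absurd e (hB p hp hp1 k hkV)
  -- a fixed point
  have hend : ∀ u0 ∈ jj V cf, u0 ≠ 1 → (∀ k ∈ centralizer (V : Set G), k * u * k⁻¹ = u → k * u0 * k⁻¹ = u0) →
      qx * u0 * qx⁻¹ = u0 → qy * u0 * qy⁻¹ = u0 → qs * u0 * qs⁻¹ = u0 → False := by
    intro u0 hu0 hu01 hk0 h1 h2 h3
    refine hu01 (eq_one_of_qq h hu0 ?_)
    have key : ∀ p ∈ V, p ≠ 1 → ∀ m ∈ qq V cf p, m ∉ centralizer (V : Set G) → m * u0 * m⁻¹ = u0 →
        ∀ k ∈ qq V cf p, k * u0 = u0 * k := by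
      intro p hp hp1 m hm hm1 hm0 k hk
      by_cases hkV : k ∈ centralizer (V : Set G)
      · exact comm_of_conj_eq (hk0 k hkV (hfixC p hp hp1 k hk hkV))
      · have h4 := h.coset_of hp hp1 (h.qq_le_normalizer hp hm) (h.qq_p hm) hm1
          (h.qq_le_normalizer hp hk) (h.qq_p hk) hkV
        have h5 := comm_of_conj_eq (hk0 _ h4 (hfixC p hp hp1 _ (mul_mem hk (inv_mem hm)) h4))
        have h6 := mul_comm_of h5 (comm_of_conj_eq hm0)
        simpa using h6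
    intro p hp hp1 k hk
    rcases h.ln.four hx hy hx1 hy1 (Ne.symm hyx) hp with e1 | e1 | e1 | e1
    · exact absurd e1 hp1
    · rw [e1] at hk; exact key x hx hx1 qx hqx hqx1 h1 k hk
    · rw [e1] at hk; exact key y hy hy1 qy hqy hqy1 h2 k hk
    · rw [e1, ← hs] at hk; exact key s hsV hs1 qs hqs hqs1 h3 k hk
  have hunV : ∀ v ∈ V, u * v ≠ 1 := fun v hv e => huV (by
    rw [mul_eq_one_iff_eq_inv.mp e]; exact inv_mem hv)
  have hend' : ∀ v ∈ V, qx * (u * v) * qx⁻¹ = u * v → qy * (u * v) * qy⁻¹ = u * v →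
      qs * (u * v) * qs⁻¹ = u * v → False := by
    intro v hv
    refine hend (u * v) (mul_mem hu (h.V_le_jj hv)) (hunV v hv) fun k hkV e => ?_
    rw [hmul, e, hcfix hv hkV]
  rcases hqc x hx hx1 qx hqx with e1 | e1 <;> rcases hqc y hy hy1 qy hqy with e2 | e2
  · refine hcon (qx * qy) (mul_mem nx ny) ?_ ?_
    · calc qx * qy * u * (qx * qy)⁻¹ = qx * (qy * u * qy⁻¹) * qx⁻¹ := by group
        _ = u := by rw [e2, e1]
    · calc qx * qy * x * (qx * qy)⁻¹ = qx * (qy * x * qy⁻¹) * qx⁻¹ := by group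
        _ = y := by rw [eyx, exs]
  · refine hend' x hx ?_ ?_ ?_
    · rw [hmul, e1, exx]
    · rw [hmul, e2, eyx, huc y hy, mul_assoc, hys']
    · rw [hmul, hsu, esx, huc s hsV, mul_assoc, hsy]
  · refine hend' y hy ?_ ?_ ?_
    · rw [hmul, e1, exy, huc x hx, mul_assoc, hxys]
    · rw [hmul, e2, eyy]
    · rw [hmul, hsu, esy, huc s hsV, mul_assoc, hsx]
  · refine hcon (qx * qy * qx⁻¹) (mul_mem (mul_mem nx ny) (inv_mem nx)) ?_ ?_
    · have e3 : qx⁻¹ * u * qx = x * u := by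
        have : qx⁻¹ * (x * u) * qx = u := by rw [← e1]; group
        have e4 : qx⁻¹ * x * qx = x := by
          calc qx⁻¹ * x * qx = qx⁻¹ * (qx * x * qx⁻¹) * qx := by rw [exx]
            _ = x := by group
        have e5 : x * (qx⁻¹ * u * qx) = u := by
          calc x * (qx⁻¹ * u * qx) = (qx⁻¹ * x * qx) * (qx⁻¹ * u * qx) := by rw [e4]
            _ = qx⁻¹ * (x * u) * qx := by group
            _ = u := this
        calc qx⁻¹ * u * qx = (x * x) * (qx⁻¹ * u * qx) := by rw [sq x hx, one_mul]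
          _ = x * (x * (qx⁻¹ * u * qx)) := by group
          _ = x * u := by rw [e5]
      calc qx * qy * qx⁻¹ * u * (qx * qy * qx⁻¹)⁻¹ = qx * (qy * (qx⁻¹ * u * qx) * qy⁻¹) * qx⁻¹ := by group
        _ = qx * ((qy * x * qy⁻¹) * (qy * u * qy⁻¹)) * qx⁻¹ := by rw [e3, hmul x u qy]
        _ = qx * (s * y * u) * qx⁻¹ := by rw [eyx, e2]; group
        _ = (qx * x * qx⁻¹) * (qx * u * qx⁻¹) := by rw [hsy, hmul]
        _ = x * x * u := by rw [exx, e1]; group
        _ = u := by rw [sq x hx, one_mul]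
    · have e4 : qx⁻¹ * x * qx = x := by
        calc qx⁻¹ * x * qx = qx⁻¹ * (qx * x * qx⁻¹) * qx := by rw [exx]
          _ = x := by group
      calc qx * qy * qx⁻¹ * x * (qx * qy * qx⁻¹)⁻¹ = qx * (qy * (qx⁻¹ * x * qx) * qy⁻¹) * qx⁻¹ := by group
        _ = y := by rw [e4, eyx, exs]

/-- `[W_p, W_q] ≤ ⟨p q⟩` for the points `p ≠ q` of `V` (a consequence of (1.2)) -/
def CommTwo (V : Subgroup G) (cf : G → Subgroup G) : Prop :=
  ∀ p ∈ V, p ≠ 1 → ∀ q ∈ V, q ≠ 1 → q ≠ p → ∀ a ∈ ww V cf p, ∀ b ∈ ww V cf q,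
    a * b * a⁻¹ * b⁻¹ = 1 ∨ a * b * a⁻¹ * b⁻¹ = p * q

section two

variable {M H : Type u} [AddCommGroup M] [Finite M] [Group H] [Finite H] [DistribMulAction H M] {B : M → M → ZMod 2} {y : G}

/-- **(2.1)** : no `μ ≠ v0` of `TT` lies in the image of `I` (full family) -/
theorem eq_v0_of_mem (h : Fam T V z cf) (full : ∀ p ∈ V, p ≠ 1 → centralizer ({p} : Set G) ≤ cf p)
    (R : MRep V cf z M H) (hy : y ∈ V) (hy1 : y ≠ 1) (hyz : y ≠ z) (hcomm : CommTwo V cf)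
    (S : Sys (Set.range fun x : H => x • R.pi y) B) (I : Inj (Set.range fun x : H => x • R.pi y) B)
    (A : Act (Set.range fun x : H => x • R.pi y) B H)
    (hB : ∀ w ∈ ww V cf z, (∀ b ∈ ww V cf y, w * b = b * w) → B (R.pi w) (R.pi y) = 0)
    {t : G} (ht : t ∈ jj V cf) (htT : R.pi t ∈ Set.range fun x : H => x • R.pi y) : R.pi t = R.pi y := by
  have hz := h.ln.z_mem
  have hz1 := h.ln.z_ne
  have hyW : y ∈ ww V cf z := h.V_le hy
  by_contra hne
  have hyT : R.pi y ∈ Set.range fun x : H => x • R.pi y := ⟨1, one_smul _ _⟩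
  have htW := Fam.jj_le hz hz1 ht
  have htV : t ∉ V := by
    intro htV
    rcases h.ln.four hz hy hz1 hy1 (Ne.symm hyz) htV with e | e | e | e
    · rw [e, R.pi_one h] at htT
      exact S.ne_zero htT rfl
    · rw [e, R.pi_z h] at htT
      exact S.ne_zero htT rfl
    · exact hne (by rw [e])
    · exact hne (by rw [e, R.pi_mul z h.z_mem_ww y hyW, R.pi_z h, zero_add])
  -- `t = c y c⁻¹` or `t = c (z y) c⁻¹`: in any case `t = c y' c⁻¹`
  obtain ⟨x, hx⟩ := htT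
  obtain ⟨c, hc, rfl⟩ := R.phi_surj x
  have hcz := h.cf_comm hz hz1 hc
  have hcz' : c * z * c⁻¹ = z := conj_eq_of_comm hcz
  have hx' : R.pi (c * y * c⁻¹) = R.pi t := by rw [← R.act c hc y hyW]; exact hx
  obtain ⟨y', hy'V, hy'1, hy'z, ht'⟩ : ∃ y' ∈ V, y' ≠ 1 ∧ y' ≠ z ∧ t = c * y' * c⁻¹ := by
    rcases (R.pi_eq h (conj_mem_wf hc hyW) htW).mp hx' with e | e
    · exact ⟨y, hy, hy1, hyz, e.symm⟩
    · refine ⟨z * y, mul_mem hz hy, h.mul_ne_one hy (Ne.symm hyz), fun e' => hy1 (by simpa using e'), ?_⟩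
      calc t = (z * z) * t := by rw [h.ln.zz, one_mul]
        _ = z * (z * t) := by group
        _ = (c * z * c⁻¹) * (c * y * c⁻¹) := by rw [← e, hcz']
        _ = c * (z * y) * c⁻¹ := by group
  have hpiy' : R.pi y' = R.pi y := by
    rw [R.pi_eq h (h.V_le hy'V) hyW]
    rcases h.ln.four hz hy hz1 hy1 (Ne.symm hyz) hy'V with e | e | e | e
    · exact absurd e hy'1
    · exact absurd e hy'z
    · exact Or.inl e
    · exact Or.inr e
  -- (F2) at `y`
  obtain ⟨n, hn, hnt, hnz⟩ := exists_rot h ht htV hz hz1 hy hy1 hyz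
  -- `c'' := n c n⁻¹ ∈ C_y`, `y'' := n y' n⁻¹ ∈ V`
  have hc'' : n * c * n⁻¹ ∈ cf y := by
    rw [← hnz, ← h.cj_cf n hn z hz hz1]
    exact conj_mem_cj hc
  have ht'' : t = (n * c * n⁻¹) * (n * y' * n⁻¹) * (n * c * n⁻¹)⁻¹ := by
    calc t = n * t * n⁻¹ := hnt.symm
      _ = n * (c * y' * c⁻¹) * n⁻¹ := by rw [ht']
      _ = (n * c * n⁻¹) * (n * y' * n⁻¹) * (n * c * n⁻¹)⁻¹ := by group
  obtain ⟨c2, hc2⟩ : ∃ c2, c2 = n * c * n⁻¹ := ⟨_, rfl⟩
  obtain ⟨y2, hy2⟩ : ∃ y2, y2 = n * y' * n⁻¹ := ⟨_, rfl⟩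
  rw [← hc2] at hc''
  rw [← hc2, ← hy2] at ht''
  have hy2V : y2 ∈ V := by rw [hy2]; exact h.conj_pt hn hy'V
  have hy21 : y2 ≠ 1 := by rw [hy2]; exact Fam.conj_ne hy'1
  have hy2y : y2 ≠ y := by
    rw [hy2, ← hnz]
    intro e
    exact hy'z (by simpa using e)
  -- `W_t` is the same from both sides
  have hW : cj c (ww V cf y') = cj c2 (ww V cf y2) := by
    obtain ⟨g, hg, hgy⟩ := h.ln.trans y' hy'V hy'1
    obtain ⟨g2, hg2, hgy2⟩ := h.ln.trans y2 hy2V hy21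
    have e1 : ww V cf y' = cj g (ww V cf z) := by rw [h.cj_ww hg hz hz1, hgy]
    have e2 : ww V cf y2 = cj g2 (ww V cf z) := by rw [h.cj_ww hg2 hz hz1, hgy2]
    rw [e1, e2, cj_cj, cj_cj]
    have h1 : (c * g)⁻¹ * (c2 * g2) ∈ centralizer ({z} : Set G) := by
      rw [mem_centralizer_singleton_iff]
      have e3 : c * g * z * (c * g)⁻¹ = t := by
        rw [ht', ← hgy]; group
      have e4 : c2 * g2 * z * (c2 * g2)⁻¹ = t := by
        rw [ht'', ← hgy2]; group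
      calc (c * g)⁻¹ * (c2 * g2) * z = (c * g)⁻¹ * (c2 * g2 * z * (c2 * g2)⁻¹) * (c2 * g2) := by group
        _ = (c * g)⁻¹ * (c * g * z * (c * g)⁻¹) * (c2 * g2) := by rw [e3, e4]
        _ = z * ((c * g)⁻¹ * (c2 * g2)) := by group
    have h2 : cj ((c * g)⁻¹ * (c2 * g2)) (ww V cf z) = ww V cf z :=
      cj_eq_of_mem_normalizer (h.cf_norm (full z hz hz1 h1))
    have h3 : cj (c2 * g2) (ww V cf z) = cj (c * g) (cj ((c * g)⁻¹ * (c2 * g2)) (ww V cf z)) := by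
      rw [cj_cj, mul_inv_cancel_left]
    rw [h3, h2]
  -- T3 : `W_z ∩ W_t ≤ C(W_y)`
  have hT3 : ∀ e ∈ ww V cf z, e ∈ cj c (ww V cf y') → ∀ b ∈ ww V cf y, e * b = b * e := by
    intro e he he' b hb
    rw [hW, mem_cj] at he'
    have hb' : c2⁻¹ * b * c2 ∈ ww V cf y := by
      have := conj_mem_wf (inv_mem hc'') hb
      rwa [inv_inv] at this
    have hc2y : c2 * y * c2⁻¹ = y := conj_eq_of_comm (h.cf_comm hy hy1 hc'')
    rcases hcomm y2 hy2V hy21 y hy hy1 (Ne.symm hy2y) _ he' _ hb' with e1 | e1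
    · have e2 : e * b * e⁻¹ * b⁻¹ = 1 := by
        calc e * b * e⁻¹ * b⁻¹ = c2 * ((c2⁻¹ * e * c2) * (c2⁻¹ * b * c2) * (c2⁻¹ * e * c2)⁻¹ *
              (c2⁻¹ * b * c2)⁻¹) * c2⁻¹ := by group
          _ = 1 := by rw [e1]; group
      exact comm_of_conj_eq (mul_inv_eq_one.mp e2)
    · have e2 : e * b * e⁻¹ * b⁻¹ = t * y := by
        calc e * b * e⁻¹ * b⁻¹ = c2 * ((c2⁻¹ * e * c2) * (c2⁻¹ * b * c2) * (c2⁻¹ * e * c2)⁻¹ *
              (c2⁻¹ * b * c2)⁻¹) * c2⁻¹ := by group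
          _ = (c2 * y2 * c2⁻¹) * (c2 * y * c2⁻¹) := by rw [e1]; group
          _ = t * y := by rw [← ht'', hc2y]
      rcases hcomm z hz hz1 y hy hy1 hyz e he b hb with e3 | e3
      · exact comm_of_conj_eq (mul_inv_eq_one.mp e3)
      · exfalso
        rw [e3] at e2
        exact htV (by rw [← mul_right_cancel e2]; exact hz)
  -- (1.4)
  obtain ⟨u', hu', hu1, hu2⟩ := S.exists_nonperp I (v := R.pi t) (μ := R.pi y) ⟨_, hx⟩ hyT
    (fun e => hne e.symm)
  obtain ⟨a, ha⟩ := A.tv u' hu'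
  have ha1 : a • R.pi t = R.pi t := (ha _).1 hu1
  have ha2 : a • R.pi y = R.pi y + u' := (ha _).2 (by rw [S.symm]; exact hu2)
  -- `a' := phi c⁻¹ a phi c` fixes `v0`
  have hx2 : R.phi c • R.pi y = R.pi t := hx
  have ha' : ((R.phi c)⁻¹ * a * R.phi c) • R.pi y = R.pi y := by
    rw [mul_smul, mul_smul, hx2, ha1, ← hx2, inv_smul_smul]
  obtain ⟨d, hd, hda⟩ := R.stab h hy hy1 hyz ha'
  -- `i := c⁻¹ y c ∈ I`
  have hi : c⁻¹ * y * c ∈ jj V cf := by
    refine h.mem_jj hz hz1 hy'V hy'1 hy'z ?_ ?_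
    · have := conj_mem_wf (inv_mem hc) hyW
      rwa [inv_inv] at this
    · have h1 : y ∈ cj c2 (ww V cf y2) := by
        rw [mem_cj]
        have hc2y : c2⁻¹ * y * c2 = y := by
          have := conj_eq_of_comm (h.cf_comm hy hy1 (inv_mem hc''))
          rwa [inv_inv] at this
        rw [hc2y]
        exact h.V_le hy
      rw [← hW, mem_cj] at h1
      exact h1
  have hdi : d * (c⁻¹ * y * c) * d⁻¹ ∈ jj V cf :=
    conj_mem_of_normalizer h.normalizer_le_normalizer_jj (centralizer_le_normalizer _ hd) hi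
  have hdc := h.cent_le_cf hz hz1 hd
  obtain ⟨e, he⟩ : ∃ e, e = c * (d * (c⁻¹ * y * c) * d⁻¹) * c⁻¹ := ⟨_, rfl⟩
  have heW : e ∈ ww V cf z := by
    rw [he]; exact conj_mem_wf hc (Fam.jj_le hz hz1 hdi)
  have heW' : e ∈ cj c (ww V cf y') := by
    rw [he]; exact conj_mem_cj (Fam.jj_le hy'V hy'1 hdi)
  have hyW' : y ∈ cj c (ww V cf y') := by
    rw [mem_cj]; exact Fam.jj_le hy'V hy'1 hi
  have hpie : R.pi e = R.pi y + u' := by
    have e1 : c⁻¹ * y * c = c⁻¹ * y * c⁻¹⁻¹ := by rw [inv_inv]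
    rw [he, ← R.act c hc _ (Fam.jj_le hz hz1 hdi), ← R.act d hdc _ (Fam.jj_le hz hz1 hi), e1,
      ← R.act _ (inv_mem hc) y hyW, hda, R.phi_inv hc, mul_smul, mul_smul, smul_inv_smul, smul_inv_smul, ha2]
  have h1 := hB (e * y) (mul_mem heW hyW) (hT3 _ (mul_mem heW hyW) (mul_mem heW' hyW'))
  rw [R.pi_mul e heW y hyW, hpie, S.add_left, S.add_left, S.alt, zero_add, add_zero, hu2] at h1
  exact one_ne_zero h1

/-- **(2.2)** : `I = V` (full family) -/
theorem jj_le_V (h : Fam T V z cf) (full : ∀ p ∈ V, p ≠ 1 → centralizer ({p} : Set G) ≤ cf p)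
    (R : MRep V cf z M H) (hy : y ∈ V) (hy1 : y ≠ 1) (hyz : y ≠ z) (hcomm : CommTwo V cf)
    (S : Sys (Set.range fun x : H => x • R.pi y) B) (I : Inj (Set.range fun x : H => x • R.pi y) B)
    (A : Act (Set.range fun x : H => x • R.pi y) B H)
    (hB : ∀ w ∈ ww V cf z, (∀ b ∈ ww V cf y, w * b = b * w) → B (R.pi w) (R.pi y) = 0) : jj V cf ≤ V := by
  have hz := h.ln.z_mem
  have hz1 := h.ln.z_ne
  have hyW : y ∈ ww V cf z := h.V_le hy
  have hyT : R.pi y ∈ Set.range fun x : H => x • R.pi y := ⟨1, one_smul _ _⟩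
  -- `(i, v0) = 0`
  have hi0 : ∀ i ∈ jj V cf, B (R.pi i) (R.pi y) = 0 := fun i hi =>
    hB i (Fam.jj_le hz hz1 hi) fun b hb => h.comm hy hy1 i (Fam.jj_le hy hy1 hi) b hb
  -- `(i, u) = 0` for `u ⟂ v0`
  have hi1 : ∀ i ∈ jj V cf, ∀ u ∈ (Set.range fun x : H => x • R.pi y), B (R.pi y) u = 0 →
      B (R.pi i) u = 0 := by
    intro i hi u hu huy
    rcases z2 (B (R.pi i) u) with e | e
    · exact e
    exfalso
    obtain ⟨a, ha⟩ := A.tv u hu
    have ha1 : a • R.pi y = R.pi y := (ha _).1 huy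
    have ha2 : a • R.pi i = R.pi i + u := (ha _).2 e
    obtain ⟨d, hd, rfl⟩ := R.stab h hy hy1 hyz ha1
    have hdc := h.cent_le_cf hz hz1 hd
    have hdi : d * i * d⁻¹ ∈ jj V cf :=
      conj_mem_of_normalizer h.normalizer_le_normalizer_jj (centralizer_le_normalizer _ hd) hi
    have hiW := Fam.jj_le hz hz1 hi
    rw [R.act d hdc i hiW] at ha2
    have h1 : R.pi (d * i * d⁻¹ * i) = u := by
      rw [R.pi_mul _ (Fam.jj_le hz hz1 hdi) _ hiW, ha2, add_comm (R.pi i) u, S.add_cancel']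
    have h2 := eq_v0_of_mem h full R hy hy1 hyz hcomm S I A hB (mul_mem hdi hi) (by rw [h1]; exact hu)
    rw [h1] at h2
    rw [h2, hi0 i hi] at e
    exact zero_ne_one e
  -- the radical part
  have hrad : ∀ i ∈ jj V cf, (∀ m, B (R.pi i) m = 0) → R.pi i = 0 := by
    let N : AddSubgroup M :=
      { carrier := {m | (∃ i ∈ jj V cf, R.pi i = m) ∧ ∀ m', B m m' = 0}
        add_mem' := by
          rintro a b ⟨⟨i, hi, rfl⟩, ha⟩ ⟨⟨j, hj, rfl⟩, hb⟩
          exact ⟨⟨i * j, mul_mem hi hj, R.pi_mul i (Fam.jj_le hz hz1 hi) j (Fam.jj_le hz hz1 hj)⟩,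
            fun m' => by rw [S.add_left, ha, hb, add_zero]⟩
        zero_mem' := ⟨⟨1, one_mem _, R.pi_one h⟩, fun m' => S.zero_left m'⟩
        neg_mem' := by
          rintro a ⟨⟨i, hi, rfl⟩, ha⟩
          rw [S.neg_eq]
          exact ⟨⟨i, hi, rfl⟩, ha⟩ }
    have hN : N = ⊥ := by
      by_contra hN
      obtain ⟨m, hm, hm0, hmT⟩ := Abs.exists_fixed (fun m => R.two h m) (R.img_T_two h) (N := N) (by
        rintro x hx m ⟨⟨i, hi, rfl⟩, hm⟩
        obtain ⟨t, ht, rfl⟩ := (R.mem_img h.T_le_cf).mp hx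
        have hti := conj_mem_of_normalizer h.normalizer_le_normalizer_jj (h.ln.T_norm ht) hi
        refine ⟨⟨t * i * t⁻¹, hti, (R.act t (h.T_le_cf ht) i (Fam.jj_le hz hz1 hi)).symm⟩, fun m' => ?_⟩
        have e : m' = R.phi t • (R.phi t)⁻¹ • m' := (smul_inv_smul _ _).symm
        rw [e, A.form, hm]) hN
      obtain ⟨⟨i, hi, rfl⟩, hm⟩ := hm
      rcases R.fixI h hy hy1 hyz hi hmT with e | e
      · exact hm0 e
      · obtain ⟨m', hm'⟩ := S.nd _ hyT
        rw [← e, hm] at hm'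
        exact zero_ne_one hm'
    intro i hi h1
    have : R.pi i ∈ N := ⟨⟨i, hi, rfl⟩, h1⟩
    rw [hN] at this
    exact this
  intro i hi
  have hiW := Fam.jj_le hz hz1 hi
  rcases S.fun_eq hyT (g := B (R.pi i)) (S.add_right _) (hi1 i hi) with e | e
  · rcases (R.pi_ker i hiW).mp (hrad i hi e) with e1 | e1
    · rw [e1]; exact one_mem _
    · rw [e1]; exact hz
  · have hyj : y ∈ jj V cf := h.V_le_jj hy
    have h1 := hrad (i * y) (mul_mem hi hyj) fun m => by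
      rw [R.pi_mul i hiW y hyW, S.add_left, e, z2_add]
    rcases (R.pi_ker _ (mul_mem hiW hyW)).mp h1 with e1 | e1
    · rw [mul_eq_one_iff_eq_inv.mp e1]; exact inv_mem hy
    · rw [eq_mul_inv_of_mul_eq e1]
      exact mul_mem hz (inv_mem hy)

theorem jj_eq_V (h : Fam T V z cf) (full : ∀ p ∈ V, p ≠ 1 → centralizer ({p} : Set G) ≤ cf p)
    (R : MRep V cf z M H) (hy : y ∈ V) (hy1 : y ≠ 1) (hyz : y ≠ z) (hcomm : CommTwo V cf)
    (S : Sys (Set.range fun x : H => x • R.pi y) B) (I : Inj (Set.range fun x : H => x • R.pi y) B)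
    (A : Act (Set.range fun x : H => x • R.pi y) B H)
    (hB : ∀ w ∈ ww V cf z, (∀ b ∈ ww V cf y, w * b = b * w) → B (R.pi w) (R.pi y) = 0) : jj V cf = V :=
  le_antisymm (jj_le_V h full R hy hy1 hyz hcomm S I A hB) h.V_le_jj

end two

end Cfsg.Agent.Omega.NO3S.TV
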