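import Cfsg.Agent.Omega.NO3S.TV.Sys

/-!
# NO-3S, `q = 2`, `n = 1`, transvection types (helper311's text #16747), section 5

One planar pair: every vector outside the radical is in `TT` modulo the radical (`Sys.all_of_planar`), the radical is
`{0, r}` and `u + v + r ∈ TT` for different perpendicular `u, v ∈ TT` (`Sys.exists_r`).
-/

set_option autoImplicit false
set_option linter.unusedSectionVars false

namespace Cfsg.Agent.Omega.NO3S.TV.Sys

variable {M : Type*} [AddCommGroup M] {TT : Set M} {B : M → M → ZMod 2}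

/-- `m` is in `TT` modulo the radical -/
def InT (TT : Set M) (B : M → M → ZMod 2) (m : M) : Prop := ∃ t ∈ TT, ∀ x, B t x = B m x

/-- the set `S` of the proof: `u` perpendicular to `l`, `u ≠ l`, `u + l ∈ TT` modulo the radical -/
def PS (TT : Set M) (B : M → M → ZMod 2) (l u : M) : Prop := u ∈ TT ∧ B l u = 0 ∧ u ≠ l ∧ InT TT B (u + l)

/-- (i) -/
theorem ps_adj (S : Sys TT B) {l u u' : M} (h : PS TT B l u) (hu' : u' ∈ TT) (h1 : B l u' = 0)
    (h2 : B u u' = 1) : PS TT B l u' := by
  obtain ⟨hu, hlu, hne, w, hw, hwe⟩ := h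
  have e1 : B w u' = 1 := by rw [hwe, S.add_left, h2, h1, add_zero]
  have hw1 : w + u' ∈ TT := S.refl w hw u' hu' e1
  have e2 : B (w + u') u = 1 := by
    rw [S.add_left, hwe, S.add_left, S.alt, hlu, S.symm u' u, h2]; decide
  have hw2 : w + u' + u ∈ TT := S.refl _ hw1 u hu e2
  refine ⟨hu', h1, ?_, w + u' + u, hw2, fun x => ?_⟩
  · rintro rfl
    rw [S.symm] at h2
    rw [hlu] at h2
    exact zero_ne_one h2
  · rw [S.add_left, S.add_left, S.add_left, hwe, S.add_left]
    have := z2_add (B u x)
    linear_combination this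

/-- the partner of `u ∈ S` is in `S` -/
theorem ps_partner (S : Sys TT B) {l u w : M} (h : PS TT B l u) (hw : w ∈ TT)
    (he : ∀ x, B w x = B (u + l) x) : PS TT B l w := by
  obtain ⟨hu, hlu, hne, -⟩ := h
  refine ⟨hw, ?_, ?_, u, hu, fun x => ?_⟩
  · rw [S.symm, he, S.add_left, S.symm u l, hlu, S.alt, add_zero]
  · rintro rfl
    obtain ⟨m, hm⟩ := S.nd u hu
    have := he m
    rw [S.add_left, hm] at this
    revert this
    generalize B w m = a
    revert a; decide
  · rw [S.add_left, he, S.add_left]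
    have := z2_add (B l x)
    linear_combination -this

/-- (ii) -/
theorem ps_sum (S : Sys TT B) (C : Conn TT B) {l t μ : M} (hl : l ∈ TT) (ht : t ∈ TT) (hlt : B l t = 0)
    (hperp : ∀ u, PS TT B l u → B t u = 0) (hμ : PS TT B l μ) : μ + t + l ∈ TT := by
  have hμt : B μ t = 0 := by rw [S.symm]; exact hperp μ hμ
  obtain ⟨w, hw, h1, h2⟩ := S.common' C hμ.1 ht hμt
  have hwl : B w l = 1 := by
    apply z2_ne
    intro h0
    have h3 : PS TT B l w := S.ps_adj hμ hw (by rw [S.symm]; exact h0) h1
    have := hperp w h3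
    rw [S.symm, h2] at this
    exact one_ne_zero this
  have k1 : w + μ ∈ TT := S.refl w hw μ hμ.1 (by rw [S.symm]; exact h1)
  have k2 : w + μ + t ∈ TT := S.refl _ k1 t ht (by rw [S.add_left, h2, hμt, add_zero])
  have k3 : w + l ∈ TT := S.refl w hw l hl hwl
  have k4 : B (w + μ + t) (w + l) = 1 := by
    have a1 : B t w = 1 := by rw [S.symm]; exact h2
    have a2 : B t l = 0 := by rw [S.symm]; exact hlt
    have a3 : B μ l = 0 := by rw [S.symm]; exact hμ.2.1
    rw [S.add_left, S.add_left, S.add_right, S.add_right, S.add_right, S.alt, hwl, h1, a1, a2, a3]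
    decide
  have k5 := S.refl _ k2 _ k3 k4
  have e : w + μ + t + (w + l) = μ + t + l + (w + w) := by abel
  rwa [e, S.two, add_zero] at k5

/-- perpendicular vectors of `TT` have their sum in `TT` modulo the radical -/
theorem sum_perp (S : Sys TT B) (I : Inj TT B) (C : Conn TT B) (hp : ∃ u ∈ TT, ∃ v ∈ TT, Planar TT B u v)
    {l t : M} (hl : l ∈ TT) (ht : t ∈ TT) (hne : t ≠ l) (hlt : B l t = 0) : InT TT B (t + l) := by
  by_contra hc
  have hperp : ∀ u, PS TT B l u → B t u = 0 := by
    intro u hu
    apply z2_ne'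
    intro h1
    exact hc (S.ps_adj hu ht hlt (by rw [S.symm]; exact h1)).2.2.2
  obtain ⟨u0, hu0, v0, hv0, hp0⟩ := hp
  obtain ⟨μ, hμ, hpl⟩ := S.planar_all C hu0 hv0 hp0 hl
  obtain ⟨p1, p2, w0, hw0, p3⟩ := hpl
  have hμS : PS TT B l μ := ⟨hμ, p1, p2.symm, w0, hw0, fun x => by rw [p3, S.add_left, add_comm]⟩
  have hν : PS TT B l w0 := S.ps_partner hμS hw0 (fun x => by rw [p3, S.add_left, add_comm])
  have x1 : μ + t + l ∈ TT := S.ps_sum C hl ht hlt hperp hμS
  have x2 : w0 + t + l ∈ TT := S.ps_sum C hl ht hlt hperp hν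
  have x3 : ∀ x, B (w0 + t + l) x = B μ x + B t x := by
    intro x
    rw [S.add_left, S.add_left, p3]
    have := z2_add (B l x)
    linear_combination this
  have x4 : PS TT B l (w0 + t + l) := by
    refine ⟨x2, ?_, ?_, μ + t + l, x1, fun x => ?_⟩
    · rw [S.symm, x3, S.symm μ l, hμS.2.1, S.symm t l, hlt, add_zero]
    · intro e
      apply hc
      have : t = w0 := by
        apply I t ht w0 hw0
        intro m
        have h1 := x3 m
        rw [e] at h1
        rw [p3, h1]
        have := z2_add (B μ m)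
        linear_combination -this
      rw [this]
      exact hν.2.2.2
    · rw [S.add_left (w0 + t + l), x3, S.add_left, S.add_left]
  obtain ⟨u, hu, hu1, hu2⟩ := S.exists_nonperp I hl ht hne
  have y1 : ¬ PS TT B l u := by
    intro h
    have := hperp u h
    rw [S.symm, hu2] at this
    exact one_ne_zero this
  have y2 : B μ u = 0 := z2_ne' fun h => y1 (S.ps_adj hμS hu hu1 h)
  refine y1 (S.ps_adj x4 hu hu1 ?_)
  rw [x3, y2, S.symm t u, hu2, zero_add]

/-- **section 5** -/
theorem all_of_planar (S : Sys TT B) (I : Inj TT B) (C : Conn TT B)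
    (hp : ∃ u ∈ TT, ∃ v ∈ TT, Planar TT B u v) (m : M) : (∀ x, B m x = 0) ∨ InT TT B m := by
  have hm : m ∈ AddSubgroup.closure TT := by rw [S.span]; exact AddSubgroup.mem_top m
  induction hm using AddSubgroup.closure_induction with
  | mem x hx => exact Or.inr ⟨x, hx, fun _ => rfl⟩
  | zero => exact Or.inl S.zero_left
  | add a b _ _ ha hb =>
    rcases ha with ha | ⟨t, ht, hta⟩
    · rcases hb with hb | ⟨t', ht', htb⟩
      · exact Or.inl fun x => by rw [S.add_left, ha, hb, add_zero]
      · exact Or.inr ⟨t', ht', fun x => by rw [S.add_left, ha, htb, zero_add]⟩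
    · rcases hb with hb | ⟨t', ht', htb⟩
      · exact Or.inr ⟨t, ht, fun x => by rw [S.add_left, hb, hta, add_zero]⟩
      · by_cases he : t = t'
        · left
          intro x
          rw [S.add_left, ← hta, ← htb, he, z2_add]
        · rcases z2 (B t' t) with h | h
          · obtain ⟨w, hw, hwe⟩ := S.sum_perp I C hp ht' ht he h
            exact Or.inr ⟨w, hw, fun x => by rw [hwe, S.add_left, S.add_left, hta, htb]⟩
          · exact Or.inr ⟨t' + t, S.refl t' ht' t ht h, fun x => by
              rw [S.add_left, S.add_left, hta, htb, add_comm]⟩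
  | neg a _ ha => rwa [S.neg_eq]

/-- the output of section 5 -/
structure Full (TT : Set M) (B : M → M → ZMod 2) (r : M) : Prop where
  rad : ∀ x, B r x = 0
  rad_eq : ∀ m, (∀ x, B m x = 0) → m = 0 ∨ m = r
  perp : ∀ u ∈ TT, ∀ v ∈ TT, u ≠ v → B u v = 0 → u + v + r ∈ TT
  cases : ∀ m, m = 0 ∨ m = r ∨ m ∈ TT ∨ m + r ∈ TT

/-- a common neighbour in `v^⊥` of two vectors of `v^⊥` -/
theorem common_perp (S : Sys TT B) (I : Inj TT B) (C : Conn TT B)
    (hp : ∃ u ∈ TT, ∃ v ∈ TT, Planar TT B u v) {v u u' : M} (hv : v ∈ TT) (hu : u ∈ TT) (hu' : u' ∈ TT)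
    (h1 : u ≠ v) (h2 : u' ≠ v) : ∃ w ∈ TT, B v w = 0 ∧ B w u = 1 ∧ B w u' = 1 := by
  obtain ⟨a, ha, ha1, ha2⟩ := S.exists_nonperp I hv hu h1
  obtain ⟨b, hb, hb1, hb2⟩ := S.exists_nonperp I hv hu' h2
  rcases z2 (B a u') with h | h
  · rcases z2 (B b u) with h' | h'
    · rcases S.all_of_planar I C hp (a + b) with h3 | ⟨w, hw, hwe⟩
      · have := h3 u
        rw [S.add_left, ha2, h', add_zero] at this
        exact absurd this one_ne_zero
      · refine ⟨w, hw, ?_, ?_, ?_⟩
        · rw [S.symm, hwe, S.add_left, S.symm a v, S.symm b v, ha1, hb1, add_zero]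
        · rw [hwe, S.add_left, ha2, h', add_zero]
        · rw [hwe, S.add_left, hb2, h, zero_add]
    · exact ⟨b, hb, hb1, h', hb2⟩
  · exact ⟨a, ha, ha1, ha2, h⟩

theorem rf_rad (S : Sys TT B) {w r : M} (h : ∀ x, B r x = 0) : rf B w r = r := rf_zero (h w)

theorem exists_r (S : Sys TT B) (I : Inj TT B) (C : Conn TT B)
    (hp : ∃ u ∈ TT, ∃ v ∈ TT, Planar TT B u v) : ∃ r, Full TT B r := by
  obtain ⟨u0, hu0, v0, hv0, hp0⟩ := id hp
  -- `Z u v z`: `z = u + v + w`, `w ∈ TT`, in the radical
  let Z : M → M → M → Prop := fun u v z => (∀ x, B z x = 0) ∧ u + v + z ∈ TT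
  have Zex : ∀ u ∈ TT, ∀ v ∈ TT, u ≠ v → B u v = 0 → ∃ z, Z u v z := by
    intro u hu v hv hne huv
    obtain ⟨w, hw, hwe⟩ := S.sum_perp I C hp hv hu hne (by rw [S.symm]; exact huv)
    refine ⟨u + v + w, fun x => ?_, ?_⟩
    · rw [S.add_left, hwe, z2_add]
    · rw [S.add_cancel]; exact hw
  have Zun : ∀ u v z z', Z u v z → Z u v z' → z = z' := by
    intro u v z z' ⟨h1, h2⟩ ⟨h3, h4⟩
    have := I _ h2 _ h4 (fun m => by rw [S.add_left _ z, S.add_left _ z', h1, h3])
    exact add_left_cancel this
  have Zsymm : ∀ u v z, Z u v z → Z v u z := by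
    intro u v z ⟨h1, h2⟩
    refine ⟨h1, ?_⟩
    rwa [add_comm v u]
  have Zrf : ∀ w ∈ TT, ∀ u v z, Z u v z → Z (rf B w u) (rf B w v) z := by
    intro w hw u v z ⟨h1, h2⟩
    refine ⟨h1, ?_⟩
    have := S.rf_mem hw h2
    rwa [S.rf_add, S.rf_add, S.rf_rad h1] at this
  -- constant for fixed `v`
  have adj : ∀ v ∈ TT, ∀ u ∈ TT, ∀ u' ∈ TT, B v u = 0 → B v u' = 0 → B u u' = 1 → ∀ z, Z v u z → Z v u' z := by
    intro v hv u hu u' hu' h1 h2 h3 z hz
    have hw : u + u' ∈ TT := S.refl u hu u' hu' h3
    have := Zrf _ hw _ _ _ hz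
    rw [rf_zero (by rw [S.add_right, h1, h2, add_zero]),
      rf_one (by rw [S.add_right, S.alt, h3, zero_add]), S.add_cancel] at this
    exact this
  have fixv : ∀ v ∈ TT, ∀ u ∈ TT, ∀ u' ∈ TT, B v u = 0 → B v u' = 0 → u ≠ v → u' ≠ v →
      ∀ z, Z v u z → Z v u' z := by
    intro v hv u hu u' hu' h1 h2 h3 h4 z hz
    obtain ⟨w, hw, w1, w2, w3⟩ := S.common_perp I C hp hv hu hu' h3 h4
    have := adj v hv u hu w hw h1 w1 (by rw [S.symm]; exact w2) z hz
    exact adj v hv w hw u' hu' w1 h2 w3 z this
  obtain ⟨r, hr⟩ := Zex u0 hu0 v0 hv0 hp0.2.1 hp0.1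
  -- every vertex
  have all1 : ∀ v ∈ TT, ∃ u ∈ TT, B v u = 0 ∧ u ≠ v := by
    intro v hv
    obtain ⟨m, hm, h1, h2, -⟩ := S.planar_all C hu0 hv0 hp0 hv
    exact ⟨m, hm, h1, h2.symm⟩
  let D : Set M := {v | v ∈ TT ∧ ∀ u ∈ TT, B v u = 0 → u ≠ v → Z v u r}
  have hD : TT ⊆ D := by
    refine C D (fun v hv => hv.1) ⟨u0, hu0, fun u hu h1 h2 => ?_⟩ ?_
    · exact fixv u0 hu0 v0 hv0 u hu hp0.1 h1 hp0.2.1.symm h2 r hr
    · rintro v ⟨hv, hvZ⟩ u hu hvu
      refine ⟨hu, fun u' hu' h1 h2 => ?_⟩
      -- common perpendicular vector of `u`, `v`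
      obtain ⟨c, hc, hc1, hc2⟩ := all1 v hv
      obtain ⟨w, hw, w1, w2, w3⟩ : ∃ w ∈ TT, B v w = 0 ∧ B u w = 0 ∧ w ≠ v := by
        rcases z2 (B u c) with h | h
        · exact ⟨c, hc, hc1, h, hc2⟩
        · obtain ⟨w, hw, hwe⟩ := S.sum_perp I C hp hv hc hc2 hc1
          refine ⟨w, hw, ?_, ?_, ?_⟩
          · rw [S.symm, hwe, S.add_left, S.symm c v, hc1, S.alt, add_zero]
          · rw [S.symm, hwe, S.add_left, S.symm c u, h, hvu, z2_add]
          · rintro rfl
            obtain ⟨m, hm⟩ := S.nd c hc
            have := hwe m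
            rw [S.add_left, hm] at this
            revert this
            generalize B w m = a
            revert a; decide
      have w4 : w ≠ u := by
        rintro rfl
        rw [hvu] at w1
        exact one_ne_zero w1
      have z1 := hvZ w hw w1 w3
      have z2' : Z w v r := Zsymm _ _ _ z1
      -- from `v` to `u` at `w`
      have hvw : v ≠ w := w3.symm
      have z3 := fixv w hw v hv u hu (by rw [S.symm]; exact w1) (by rw [S.symm]; exact w2) hvw w4.symm r z2'
      exact fixv u hu w hw u' hu' w2 h1 w4 h2 r (Zsymm _ _ _ z3)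
  have perp : ∀ u ∈ TT, ∀ v ∈ TT, u ≠ v → B u v = 0 → u + v + r ∈ TT := fun u hu v hv hne huv =>
    ((hD hu).2 v hv huv hne.symm).2
  have cases : ∀ m, m = 0 ∨ m = r ∨ m ∈ TT ∨ m + r ∈ TT := by
    intro m
    have hm : m ∈ AddSubgroup.closure TT := by rw [S.span]; exact AddSubgroup.mem_top m
    -- the set is closed under addition
    have key : ∀ a b, a ∈ TT → b ∈ TT → a + b = 0 ∨ a + b ∈ TT ∨ a + b + r ∈ TT := by
      intro a b ha hb
      by_cases he : a = b
      · left; rw [he, S.two]
      · rcases z2 (B a b) with h | h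
        · exact Or.inr (Or.inr (perp a ha b hb he h))
        · exact Or.inr (Or.inl (S.refl a ha b hb h))
    induction hm using AddSubgroup.closure_induction with
    | mem x hx => exact Or.inr (Or.inr (Or.inl hx))
    | zero => exact Or.inl rfl
    | add a b _ _ ha hb =>
      have rr := S.two r
      rcases ha with rfl | rfl | ha | ha
      · rwa [zero_add]
      · rcases hb with rfl | rfl | hb | hb
        · rw [add_zero]; exact Or.inr (Or.inl rfl)
        · left; exact rr
        · right; right; right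
          have : a + b + a = b + (a + a) := by abel
          rwa [this, rr, add_zero]
        · right; right; left
          rwa [add_comm a b]
      · rcases hb with rfl | rfl | hb | hb
        · rw [add_zero]; exact Or.inr (Or.inr (Or.inl ha))
        · right; right; right
          rwa [S.add_cancel']
        · rcases key a b ha hb with h | h | h
          · exact Or.inl h
          · exact Or.inr (Or.inr (Or.inl h))
          · exact Or.inr (Or.inr (Or.inr h))
        · rcases key a _ ha hb with h | h | h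
          · right; left
            have : a + b = r := by
              have e : a + b + r = 0 := by rw [← h]; abel
              exact S.eq_of_add e
            exact this
          · right; right; right
            rwa [← add_assoc] at h
          · right; right; left
            have e : a + (b + r) + r = a + b := by rw [← add_assoc, S.add_cancel']
            rwa [e] at h
      · rcases hb with rfl | rfl | hb | hb
        · rw [add_zero]; exact Or.inr (Or.inr (Or.inr ha))
        · right; right; left; exact ha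
        · rcases key _ b ha hb with h | h | h
          · right; left
            have e : a + b + r = 0 := by rw [← h]; abel
            exact S.eq_of_add e
          · right; right; right
            have e : a + r + b = a + b + r := by abel
            rwa [e] at h
          · right; right; left
            have e : a + r + b + r = a + b + (r + r) := by abel
            rwa [e, rr, add_zero] at h
        · have e0 : a + r + (b + r) = a + b := by
            have : a + r + (b + r) = a + b + (r + r) := by abel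
            rw [this, rr, add_zero]
          rcases key _ _ ha hb with h | h | h
          · left; rwa [e0] at h
          · right; right; left; rwa [e0] at h
          · right; right; right; rwa [e0] at h
    | neg a _ ha => rwa [S.neg_eq]
  refine ⟨r, hr.1, fun m hm => ?_, perp, cases⟩
  rcases cases m with h | h | h | h
  · exact Or.inl h
  · exact Or.inr h
  · exfalso
    obtain ⟨x, hx⟩ := S.nd m h
    rw [hm] at hx
    exact zero_ne_one hx
  · exfalso
    obtain ⟨x, hx⟩ := S.nd _ h
    rw [S.add_left, hm, hr.1, add_zero] at hx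
    exact zero_ne_one hx

end Cfsg.Agent.Omega.NO3S.TV.Sys
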