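import Cfsg.Agent.Omega.NO3S.TV.Triv
import Cfsg.Agent.Omega.NO3S.TV.Planar

/-!
# NO-3S, `q = 2`, `n = 1`, transvection types (helper311's text #16747), section 6: the module part

`Sys.irr` : a group `Y` which fixes `v ∈ TT`, is normalized by the stabilizer of `v` and acts nontrivially on
`N = v^⊥ / (⟨v⟩ + Rad)` has no proper invariant subspace on `N` (helper320's proof #17019).
-/

set_option autoImplicit false
set_option linter.unusedSectionVars false

namespace Cfsg.Agent.Omega.NO3S.TV.Sys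

variable {M : Type*} [AddCommGroup M] {TT : Set M} {B : M → M → ZMod 2}
variable {H : Type*} [Group H] [DistribMulAction H M]

theorem smul_rf (A : Act TT B H) (h : H) (u m : M) : h • rf B u m = rf B (h • u) (h • m) := by
  rcases z2 (B m u) with e | e
  · rw [rf_zero e, rf_zero (by rw [A.form]; exact e)]
  · rw [rf_one e, rf_one (by rw [A.form]; exact e), smul_add]

theorem exists_rf (A : Act TT B H) {u : M} (hu : u ∈ TT) : ∃ a : H, ∀ m : M, a • m = rf B u m := by
  obtain ⟨a, ha⟩ := A.tv u hu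
  refine ⟨a, fun m => ?_⟩
  rcases z2 (B m u) with e | e
  · rw [rf_zero e, (ha m).1 e]
  · rw [rf_one e, (ha m).2 e]

theorem not_kv (S : Sys TT B) (I : Inj TT B) {v t : M} (hv : v ∈ TT) (ht : t ∈ TT) (hne : t ≠ v) :
    t ∉ S.kv v := by
  rintro (h | h)
  · obtain ⟨m, hm⟩ := S.nd t ht
    rw [S.symm, h m] at hm
    exact zero_ne_one hm
  · exact hne (S.eq_of_rd I ht hv h)

/-- `⟨a, v⟩^⊥⊥ = ⟨a, v⟩ + Rad` -/
theorem exists_sep (S : Sys TT B) {v a b : M} (hv : v ∈ TT) (ha : a ∉ S.kv v)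
    (hb : b ∉ S.kv v) (hab : b + a ∉ S.kv v) : ∃ e, B e v = 0 ∧ B e a = 0 ∧ B e b = 1 := by
  by_contra hcon
  push Not at hcon
  have hc : ∀ e, B e v = 0 → B e a = 0 → B e b = 0 := fun e h1 h2 => z2_ne' (hcon e h1 h2)
  obtain ⟨t, -, ht⟩ := S.exists_nd hv
  have htv : B t v = 1 := by rw [S.symm]; exact ht
  obtain ⟨s, hs, hsa⟩ : ∃ s, B s v = 0 ∧ B s a = 1 := by
    by_contra h
    push Not at h
    exact ha (S.rd_of htv fun m hm => z2_ne' (h m hm))
  rcases z2 (B s b) with hsb | hsb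
  · refine hb (S.rd_of htv fun m hm => ?_)
    rcases z2 (B m a) with e | e
    · exact hc m hm e
    · have := hc (m + s) (by rw [S.add_left, hm, hs, add_zero]) (by rw [S.add_left, e, hsa]; decide)
      rwa [S.add_left, hsb, add_zero] at this
  · refine hab (S.rd_of htv fun m hm => ?_)
    rcases z2 (B m a) with e | e
    · rw [S.add_right, e, hc m hm e, add_zero]
    · have := hc (m + s) (by rw [S.add_left, hm, hs, add_zero]) (by rw [S.add_left, e, hsa]; decide)
      rw [S.add_left, hsb] at this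
      rw [S.add_right, e]
      exact this

/-- `g ∈ Y` acts as `a_u a_u'` -/
def EE (B : M → M → ZMod 2) (Y : Subgroup H) (u u' : M) : Prop := ∃ g ∈ Y, ∀ m : M, g • m = rf B u (rf B u' m)

section EE

variable {Y : Subgroup H}

theorem ee_symm (S : Sys TT B) {u u' : M} (h : EE B Y u u') : EE B Y u' u := by
  obtain ⟨g, hg, e⟩ := h
  refine ⟨g⁻¹, inv_mem hg, fun m => ?_⟩
  rw [inv_smul_eq_iff, e, S.rf_rf, S.rf_rf]

theorem ee_trans (S : Sys TT B) {u u' u'' : M} (h : EE B Y u u') (h' : EE B Y u' u'') : EE B Y u u'' := by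
  obtain ⟨g, hg, e⟩ := h
  obtain ⟨g', hg', e'⟩ := h'
  refine ⟨g * g', mul_mem hg hg', fun m => ?_⟩
  rw [mul_smul, e', e, S.rf_rf]

theorem ee_conj (A : Act TT B H) {v : M} (hn : ∀ h : H, h • v = v → ∀ g ∈ Y, h * g * h⁻¹ ∈ Y) {h : H}
    (hh : h • v = v) {u u' : M} (hE : EE B Y u u') : EE B Y (h • u) (h • u') := by
  obtain ⟨g, hg, e⟩ := hE
  refine ⟨h * g * h⁻¹, hn h hh g hg, fun m => ?_⟩
  rw [mul_smul, mul_smul, e, smul_rf A, smul_rf A, smul_inv_smul]

/-- (ii) -/
theorem ee_adj (S : Sys TT B) (A : Act TT B H) {v : M}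
    (hn : ∀ h : H, h • v = v → ∀ g ∈ Y, h * g * h⁻¹ ∈ Y) {a b c : M} (ha : a ∈ TT) (hav : B a v = 0)
    (hb : b ∈ TT) (hbv : B b v = 0) (hab : B a b = 1) (hE : EE B Y a b) (hc : c ∈ TT) (hcv : B c v = 0)
    (hac : B a c = 1) : EE B Y a c := by
  have hva : B v a = 0 := by rw [S.symm]; exact hav
  -- a transvection with centre in `v^⊥` fixes `v`
  have tv : ∀ e ∈ TT, B e v = 0 → ∀ p q : M, EE B Y p q → EE B Y (rf B e p) (rf B e q) := by
    intro e he hev p q hpq
    obtain ⟨x, hx⟩ := exists_rf A he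
    have := ee_conj A hn (h := x) (by rw [hx, rf_zero (by rw [S.symm]; exact hev)]) hpq
    rwa [hx, hx] at this
  have key : ∀ c ∈ TT, B c v = 0 → B a c = 1 → B b c = 1 → EE B Y a c := by
    intro c hc hcv hac hbc
    have he : b + c ∈ TT := S.refl b hb c hc hbc
    have h1 := tv _ he (by rw [S.add_left, hbv, hcv, add_zero]) a b hE
    rwa [rf_zero (by rw [S.add_right, hab, hac]; decide), rf_one (by rw [S.add_right, S.alt, hbc, zero_add]),
      S.add_cancel] at h1
  rcases z2 (B b c) with hbc | hbc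
  · have hca : B c a = 1 := by rw [S.symm]; exact hac
    have hc' : c + a ∈ TT := S.refl c hc a ha hca
    have hba : B b a = 1 := by rw [S.symm]; exact hab
    have h1 := key _ hc' (by rw [S.add_left, hcv, hav, add_zero]) (by rw [S.add_right, hac, S.alt, add_zero])
      (by rw [S.add_right, hbc, hba, zero_add])
    have h2 := tv a ha hav _ _ h1
    rwa [rf_zero (S.alt a), rf_one (by rw [S.add_left, hca, S.alt, add_zero]), S.add_cancel'] at h2
  · exact key c hc hcv hac hbc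

end EE

/-- **section 6: `Y` is irreducible on `v^⊥ / (⟨v⟩ + Rad)`** -/
theorem irr (S : Sys TT B) (I : Inj TT B) (C : Conn TT B) (A : Act TT B H)
    (hp : ∃ u ∈ TT, ∃ v ∈ TT, Planar TT B u v) {v : M} (hv : v ∈ TT) {Y : Subgroup H}
    (hYv : ∀ g ∈ Y, g • v = v) (hn : ∀ h : H, h • v = v → ∀ g ∈ Y, h * g * h⁻¹ ∈ Y)
    (hne : ∃ g ∈ Y, ∃ m, B m v = 0 ∧ g • m + m ∉ S.kv v) {U : AddSubgroup M} (hU : S.kv v ≤ U)
    (hU' : U ≤ S.pp v) (hUY : ∀ g ∈ Y, ∀ m ∈ U, g • m ∈ U) (hUne : ∃ m ∈ U, m ∉ S.kv v) : S.pp v ≤ U := by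
  -- `(0)` a vector of `TT` moved by `Y`
  obtain ⟨g, hg, m, hm, hgm⟩ := hne
  obtain ⟨u, hu, huv, hgu⟩ : ∃ u ∈ TT, B u v = 0 ∧ g • u + u ∉ S.kv v := by
    by_contra hcon
    push Not at hcon
    let N : AddSubgroup M :=
      { carrier := {m | g • m + m ∈ S.kv v}
        add_mem' := by
          intro a b ha hb
          change g • (a + b) + (a + b) ∈ S.kv v
          have : g • (a + b) + (a + b) = (g • a + a) + (g • b + b) := by rw [smul_add]; abel
          rw [this]; exact add_mem ha hb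
        zero_mem' := by
          change g • (0 : M) + 0 ∈ S.kv v
          rw [smul_zero, add_zero]; exact zero_mem _
        neg_mem' := by
          intro a ha
          change g • (-a) + (-a) ∈ S.kv v
          rw [S.neg_eq]; exact ha }
    have h2 : AddSubgroup.closure {t | t ∈ TT ∧ B t v = 0} ≤ N :=
      (AddSubgroup.closure_le _).mpr fun t ht => hcon t ht.1 ht.2
    exact hgm (h2 (S.mem_closure hv hm))
  have hgv := hYv g hg
  have hne_v : ∀ t, t ∈ TT → B t v = 0 → t ≠ v → t ∉ S.kv v := fun t ht _ h => S.not_kv I hv ht h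
  have huv' : u ≠ v := by
    rintro rfl
    rw [hgv, S.two] at hgu
    exact hgu (zero_mem _)
  -- `E(g u, u)`
  have hE0 : EE B Y (g • u) u := by
    obtain ⟨a, ha⟩ := exists_rf A hu
    have hav : a • v = v := by rw [ha, rf_zero (by rw [S.symm]; exact huv)]
    refine ⟨g * (a * g⁻¹ * a⁻¹), mul_mem hg (hn a hav g⁻¹ (inv_mem hg)), fun m => ?_⟩
    have ha' : ∀ m : M, a⁻¹ • m = rf B u m := by
      intro m
      rw [inv_smul_eq_iff, ha, S.rf_rf]
    rw [mul_smul, mul_smul, mul_smul, ha', ha, smul_rf A, smul_inv_smul]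
  have hgu1 : g • u ∈ TT := A.smul_mem g u hu
  have hgu2 : B (g • u) v = 0 := by
    have := A.form g u v
    rwa [hgv, huv] at this
  have hgu3 : g • u ≠ v := by
    intro e
    apply huv'
    have : u = g⁻¹ • v := by rw [← e, inv_smul_smul]
    rw [this, inv_smul_eq_iff, hgv]
  -- `(i)` a nonperpendicular pair
  obtain ⟨a, ha, hav, b, hb, hbv, hab, hE⟩ : ∃ a ∈ TT, B a v = 0 ∧ ∃ b ∈ TT, B b v = 0 ∧ B a b = 1 ∧ EE B Y a b := by
    rcases z2 (B (g • u) u) with h0 | h0
    · obtain ⟨e', he1, he2, he3⟩ := S.exists_sep (a := g • u) (b := u) hv (hne_v _ hgu1 hgu2 hgu3)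
        (hne_v _ hu huv huv') (by rw [add_comm]; exact hgu)
      rcases S.all_of_planar I C hp e' with h | ⟨e, he, hee⟩
      · rw [h] at he3
        exact absurd he3 zero_ne_one
      · rw [← hee] at he1 he2 he3
        obtain ⟨x, hx⟩ := exists_rf A he
        have h1 := ee_conj A hn (h := x) (by rw [hx, rf_zero (by rw [S.symm]; exact he1)]) hE0
        rw [hx, hx, rf_zero (by rw [S.symm]; exact he2), rf_one (by rw [S.symm]; exact he3)] at h1
        have h2 : B u e = 1 := by rw [S.symm]; exact he3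
        refine ⟨u, hu, huv, u + e, S.refl u hu e he h2, by rw [S.add_left, huv, he1, add_zero],
          by rw [S.add_right, S.alt, h2, zero_add], ?_⟩
        exact ee_trans S (ee_symm S hE0) h1
    · exact ⟨g • u, hgu1, hgu2, u, hu, huv, h0, hE0⟩
  have hne_of : ∀ s ∈ TT, B s v = 0 → ∀ t, B t v = 0 → B s t = 1 → s ≠ v := by
    rintro s hs hsv t htv hst rfl
    rw [S.symm] at hst
    rw [htv] at hst
    exact zero_ne_one hst
  have hcommon : ∀ s ∈ TT, s ≠ v → ∀ t ∈ TT, t ≠ v → ∃ w ∈ TT, B w v = 0 ∧ B s w = 1 ∧ B w t = 1 := by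
    intro s hs hsv t ht htv
    obtain ⟨w, hw, h1, h2, h3⟩ := S.common_perp I C hp hv hs ht hsv htv
    exact ⟨w, hw, by rw [S.symm]; exact h1, by rw [S.symm]; exact h2, h3⟩
  -- `(iii)`
  let P : M → Prop := fun s => ∀ d ∈ TT, B d v = 0 → B s d = 1 → EE B Y s d
  have hPa : P a := fun d hd hdv had => ee_adj S A hn ha hav hb hbv hab hE hd hdv had
  have hPs : ∀ s ∈ TT, B s v = 0 → P s → ∀ w ∈ TT, B w v = 0 → B s w = 1 → P w := by
    intro s hs hsv hP w hw hwv hsw d hd hdv hwd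
    exact ee_adj S A hn hw hwv hs hsv (by rw [S.symm]; exact hsw) (ee_symm S (hP w hw hwv hsw)) hd hdv hwd
  have hPall : ∀ s ∈ TT, B s v = 0 → s ≠ v → P s := by
    intro s hs hsv hne
    obtain ⟨w, hw, hwv, h1, h2⟩ := hcommon a ha (hne_of a ha hav b hbv hab) s hs hne
    exact hPs w hw hwv (hPs a ha hav hPa w hw hwv h1) s hs hsv h2
  -- `(iv)`
  have hstep : ∀ s ∈ TT, B s v = 0 → s ∈ U → ∀ w ∈ TT, B w v = 0 → B s w = 1 → w ∈ U := by
    intro s hs hsv hsU w hw hwv hsw
    obtain ⟨x, hx, hxe⟩ := hPall s hs hsv (hne_of s hs hsv w hwv hsw) w hw hwv hsw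
    have h1 := hUY x hx s hsU
    have hws : B w s = 1 := by rw [S.symm]; exact hsw
    rw [hxe, rf_one hsw, rf_one (by rw [S.add_left, S.alt, hws, zero_add]), add_comm s, S.add_cancel'] at h1
    exact h1
  obtain ⟨m0, hm0, hm0k⟩ := hUne
  have hm0v : B m0 v = 0 := hU' hm0
  obtain ⟨t0, ht0, ht0e⟩ : ∃ t ∈ TT, ∀ y, B t y = B m0 y := by
    rcases S.all_of_planar I C hp m0 with h | h
    · exact absurd (Or.inl fun y => by rw [S.symm]; exact h y) hm0k
    · exact h
  have hrd : t0 + m0 ∈ S.kv v := Or.inl fun y => by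
    rw [S.symm, S.add_left, ht0e, z2_add]
  have ht0v : B t0 v = 0 := by rw [ht0e]; exact hm0v
  have ht0U : t0 ∈ U := by
    have := add_mem (hU hrd) hm0
    rwa [S.add_cancel'] at this
  have ht0n : t0 ≠ v := by
    rintro rfl
    apply hm0k
    have h1 : t0 ∈ S.kv t0 := Or.inr (by rw [S.two]; exact fun y => S.zero_right y)
    have := add_mem h1 hrd
    rwa [S.add_cancel] at this
  have hall : ∀ t ∈ TT, B t v = 0 → t ∈ U := by
    intro t ht htv
    by_cases hne : t = v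
    · rw [hne]
      exact hU (Or.inr (by rw [S.two]; exact fun y => S.zero_right y))
    · obtain ⟨w, hw, hwv, h1, h2⟩ := hcommon t0 ht0 ht0n t ht hne
      exact hstep w hw hwv (hstep t0 ht0 ht0v ht0U w hw hwv h1) t ht htv h2
  intro m hm
  have h2 : AddSubgroup.closure {t | t ∈ TT ∧ B t v = 0} ≤ U :=
    (AddSubgroup.closure_le _).mpr fun t ht => hall t ht.1 ht.2
  exact h2 (S.mem_closure hv hm)

end Cfsg.Agent.Omega.NO3S.TV.Sys
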