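import Cfsg.Agent.Omega.NO3S.TV.Four

/-!
# NO-3S, `q = 2`, `n = 1`, transvection types (helper311's text #16747): section 7

* `Loc.seven_one` : `r ≠ 0`: `W_z ∩ W_p` contains an element `ρ` over `r`, fixed by the swap of `z` and `p`;
* `Loc.seven_two` : `p = ρ' ^ q · ρ` with `ρ, ρ'` over `r` (`z ^ q = x z`);
* `Loc.seven_three` : all `p ∈ D_x - V` are in one coset of `V`;
* `Loc.r_eq_zero` : section 7: `r = 0`.
-/

set_option autoImplicit false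
set_option linter.unusedSectionVars false

namespace Cfsg.Agent.Omega.NO3S.TV

open Subgroup Cfsg Cfsg.Agent.ZN Cfsg.Agent.MinSimple.Geo Cfsg.Agent.Omega.CaseL Cfsg.Agent.Omega.NO3S.Fit
open Cfsg.Agent.ZN.Block (conj_mem_of_normalizer conj_mem_of_normalizer' le_normalizer_of_forall
  mem_normalizer_of)

universe u

variable {G : Type u} [Group G]

namespace Loc

variable {T V : Subgroup G} {z : G} {cf : G → Subgroup G} {M H : Type u} [AddCommGroup M] [Group H]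
  [DistribMulAction H M] {R : MRep V cf z M H} {TT : Set M} {B : M → M → ZMod 2} {x c d : G} {r : M}

section one

variable (L : Loc T V z cf R TT B) (hx : x ∈ V) (hx1 : x ≠ 1) (hxz : x ≠ z) (hF : Far V z cf x c)
include L hx hx1 hxz hF

/-- `z ∉ W_p` -/
theorem z_nmem : z ∉ cj c (ww V cf z) := by
  intro h
  rcases L.inf_V hx hx1 hxz hF L.fam.ln.z_mem h with e | e
  · exact L.fam.ln.z_ne e
  · exact hxz e.symm

/-- an element of `W_z ∩ W_p` is determined by its image in `M` -/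
theorem eq_of_pi_eq {a b : G} (ha : a ∈ ww V cf z) (hb : b ∈ ww V cf z) (hap : a ∈ cj c (ww V cf z))
    (hbp : b ∈ cj c (ww V cf z)) (h : R.pi a = R.pi b) : a = b := by
  rcases (R.pi_eq L.fam ha hb).mp h with e | e
  · exact e
  · exfalso
    apply L.z_nmem hx hx1 hxz hF
    have h1 : a * b⁻¹ = z := by rw [e]; group
    have h2 := mul_mem hap (inv_mem hbp)
    rwa [h1] at h2

end one

section seven

variable (L : Loc T V z cf R TT B) (hx : x ∈ V) (hx1 : x ≠ 1) (hxz : x ≠ z)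
include L hx hx1 hxz

/-- `v + r ≠ 0` -/
theorem vr_ne (hr : Rd B r) : R.pi x + r ≠ 0 := by
  intro h
  have h1 : R.pi x = r := L.sys.eq_of_add h
  obtain ⟨m, hm⟩ := L.sys.nd _ (L.mem x hx hx1 hxz)
  rw [h1, L.sys.rd_left hr] at hm
  exact zero_ne_one hm

theorem seven_one (hr : Rd B r) (pl : ∀ u ∈ TT, ∀ v ∈ TT, u ≠ v → B u v = 0 → u + v + r ∈ TT)
    (hF : Far V z cf x c) (hS : Sw z cf x c d)
    (ht : ∀ n ∈ cj c (ww V cf z), n ∈ kk V cf x → Tri R B x n)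
    (hw : ∃ w ∈ cj c (ww V cf z), ¬ Tri R B x w) :
    ∃ ρ ∈ ww V cf z, ρ ∈ cj c (ww V cf z) ∧ R.pi ρ = r ∧ d * ρ * d⁻¹ = ρ := by
  have hz := L.fam.ln.z_mem
  have hz1 := L.fam.ln.z_ne
  have hxx := L.fam.ln.sq x hx
  obtain ⟨w', hw', hnt⟩ := hw
  have hw'V := L.wp_cent hx hx1 hxz hF hS hw'
  unfold Tri at hnt
  push Not at hnt
  obtain ⟨m, hm, hnt⟩ := hnt
  obtain ⟨a, ha, rfl⟩ := R.pi_surj m
  have hak := (L.perp x hx hx1 hxz a ha).mp hm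
  have hxW : x ∈ ww V cf z := L.fam.V_le hx
  have hxp := L.x_mem hx hx1 hxz hF.mem
  -- `n ∈ D_p(x)`, `w ∈ W_z`
  have hn := L.conj_one hx hx1 hxz hF hS ha
  have hnk := L.conj_kk hx hx1 hxz hF hS hak
  have hwz := L.conj_two hx hx1 hxz hF hS hw'
  have hdx := L.conj_x hx hx1 hxz hF hS
  have hdx' : d⁻¹ * x * d = x := by
    calc d⁻¹ * x * d = d⁻¹ * (d * x * d⁻¹) * d := by rw [hdx]
      _ = x := by group
  set n := d * a * d⁻¹ with hnd
  set w := d * w' * d⁻¹ with hwd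
  have hnV := L.fam.kk_le_cent hnk
  obtain ⟨t, hact⟩ := L.hact hx hx1 hxz hnV (ht n hn hnk)
  obtain ⟨-, hB⟩ | ⟨⟨m0, hm0, hm1⟩, hB⟩ := hact.seven hr pl
  · -- `W_p` would be trivial on `a`
    exfalso
    have h1 : R.phi n • R.pi w + R.pi w = 0 ∨ R.phi n • R.pi w + R.pi w = R.pi x := hB (R.pi w)
    rw [L.phi_pi hnV hwz] at h1
    have h2 := L.comm_J hx hx1 hxz hF hn hnV hwz
    have h3 := L.eq_of_pi hx hx1 hxz hF h2.1 h2.2 h1
    have e : w' * a * w'⁻¹ * a⁻¹ = d⁻¹ * (n * w * n⁻¹ * w⁻¹)⁻¹ * d := by rw [hnd, hwd]; group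
    have h4 : w' * a * w'⁻¹ * a⁻¹ = 1 ∨ w' * a * w'⁻¹ * a⁻¹ = x := by
      rcases h3 with h3 | h3
      · left; rw [e, h3]; group
      · right; rw [e, h3, L.fam.ln.inv_eq hx, hdx']
    have h5 := L.phi_pi hw'V ha
    have h6 := hnt 0 (fun b => L.sys.zero_right b)
    rw [add_zero, add_zero] at h6
    have h7 : R.phi w' • R.pi a = R.pi a + R.pi (w' * a * w'⁻¹ * a⁻¹) := by
      rw [← h5, add_comm, L.sys.add_cancel']
    rcases h4 with h4 | h4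
    · rw [h4, R.pi_one L.fam, add_zero] at h7
      exact h6.1 h7
    · rw [h4] at h7
      exact h6.2 h7
  · -- `u` with `[n, u]` over `v + r`
    obtain ⟨u, hu, rfl⟩ := R.pi_surj m0
    have huk := (L.perp x hx hx1 hxz u hu).mp hm0
    have h1 : R.phi n • R.pi u = R.pi u + (R.pi x + r) := by
      rcases hB _ hm0 with h | h
      · rw [hm1] at h; exact absurd h.1 one_ne_zero
      · exact h.2
    have h2 := L.comm_J hx hx1 hxz hF hn hnV hu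
    have h3 : R.pi (n * u * n⁻¹ * u⁻¹) = R.pi x + r := by
      rw [← L.phi_pi hnV hu, h1, add_comm, L.sys.add_cancel]
    set e0 := n * u * n⁻¹ * u⁻¹ with he0
    -- all commutators of `D_p(x)` and `D_z` are `1` or `e0`
    have key : ∀ n' ∈ cj c (ww V cf z), n' ∈ kk V cf x → ∀ u' ∈ ww V cf z, u' ∈ kk V cf x →
        n' * u' * n'⁻¹ * u'⁻¹ = 1 ∨ n' * u' * n'⁻¹ * u'⁻¹ = e0 := by
      intro n' hn' hnk' u' hu' huk'
      have hnV' := L.fam.kk_le_cent hnk'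
      have hm' := (L.perp x hx hx1 hxz u' hu').mpr huk'
      have h4 := L.comm_J hx hx1 hxz hF hn' hnV' hu'
      have hone : R.phi n' • R.pi u' = R.pi u' → n' * u' * n'⁻¹ * u'⁻¹ = 1 := by
        intro h
        have h5 : R.pi (n' * u' * n'⁻¹ * u'⁻¹) = R.pi 1 := by
          rw [← L.phi_pi hnV' hu', h, L.sys.two, R.pi_one L.fam]
        exact L.eq_of_pi_eq hx hx1 hxz hF h4.1 (one_mem _) h4.2 (one_mem _) h5
      obtain ⟨t', hact'⟩ := L.hact hx hx1 hxz hnV' (ht n' hn' hnk')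
      obtain ⟨hA', -⟩ | ⟨-, hB'⟩ := hact'.seven hr pl
      · exact Or.inl (hone (hA' _ hm'))
      · rcases hB' _ hm' with h | h
        · exact Or.inl (hone h.2)
        · right
          refine L.eq_of_pi_eq hx hx1 hxz hF h4.1 h2.1 h4.2 h2.2 ?_
          have h5 : R.phi n' • R.pi u' = R.pi u' + (R.pi x + r) := h.2
          rw [h3, ← L.phi_pi hnV' hu', h5, add_comm, L.sys.add_cancel]
    have he0sq : e0⁻¹ = e0 := L.fam.inv_ww hz hz1 h2.1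
    have he01 : e0 ≠ 1 := by
      intro h
      rw [h, R.pi_one L.fam] at h3
      exact L.vr_ne hx hx1 hxz hr h3.symm
    -- `d` fixes `e0`
    have hde : d * e0 * d⁻¹ = e0 := by
      have h4 := L.conj_one hx hx1 hxz hF hS hu
      have h5 := L.conj_kk hx hx1 hxz hF hS huk
      have h6 := L.conj_two hx hx1 hxz hF hS hn
      have h7 := L.conj_kk hx hx1 hxz hF hS hnk
      have e : d * e0 * d⁻¹ = (d * u * d⁻¹ * (d * n * d⁻¹) * (d * u * d⁻¹)⁻¹ * (d * n * d⁻¹)⁻¹)⁻¹ := by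
        rw [he0]; group
      rcases key _ h4 h5 _ h6 h7 with h | h
      · exfalso
        rw [h, inv_one] at e
        exact he01 (conj_eq_one_iff.mp e)
      · rw [e, h, he0sq]
    refine ⟨x * e0, mul_mem hxW h2.1, mul_mem hxp h2.2, ?_, ?_⟩
    · rw [R.pi_mul x hxW e0 h2.1, h3, L.sys.add_cancel]
    · calc d * (x * e0) * d⁻¹ = (d * x * d⁻¹) * (d * e0 * d⁻¹) := by group
        _ = x * e0 := by rw [hdx, hde]

/-- the radical is `{0, r}`: `C_G(V)` fixes `r` -/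
theorem smul_r (hrad : ∀ m, (∀ y, B m y = 0) → m = 0 ∨ m = r) (hr : Rd B r) (hr0 : r ≠ 0) (k : H) :
    k • r = r := by
  rcases hrad (k • r) (fun y => by
    have h1 := L.form k r (k⁻¹ • y)
    rw [smul_inv_smul] at h1
    rw [h1]
    exact L.sys.rd_left hr _) with h | h
  · exfalso
    apply hr0
    rw [← inv_smul_smul k r, h, smul_zero]
  · exact h

theorem seven_two (hrad : ∀ m, (∀ y, B m y = 0) → m = 0 ∨ m = r) (hr : Rd B r) (hr0 : r ≠ 0)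
    (pl : ∀ u ∈ TT, ∀ v ∈ TT, u ≠ v → B u v = 0 → u + v + r ∈ TT)
    (swap : ∀ c, Far V z cf x c → ∃ d, Sw z cf x c d)
    (tri : ∀ c, Far V z cf x c → ∀ n ∈ cj c (ww V cf z), n ∈ kk V cf x → Tri R B x n)
    (ntri : ∀ c, Far V z cf x c → ∃ w ∈ cj c (ww V cf z), ¬ Tri R B x w)
    {q : G} (hq : q ∈ qq V cf x) (hqV : q ∉ centralizer (V : Set G)) (hF : Far V z cf x c) :
    ∃ ρ ∈ ww V cf z, ∃ ρ' ∈ ww V cf z, R.pi ρ = r ∧ R.pi ρ' = r ∧ c * z * c⁻¹ = q * ρ' * q⁻¹ * ρ := by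
  have hz := L.fam.ln.z_mem
  have hz1 := L.fam.ln.z_ne
  have hqc : q ∈ cf x := L.fam.qq_le_cf hq
  have hqz : q * z * q⁻¹ = x * z := L.fam.move hx hx1 hz hz1 (Ne.symm hxz) hq hqV
  have hxz1 : x * z ≠ 1 := L.fam.mul_ne_one hz hxz
  have hxzV : x * z ∈ V := mul_mem hx hz
  have hpx : c * z * c⁻¹ ∈ ww V cf x :=
    conj_mem_of_normalizer L.fam.cf_norm hF.mem (L.fam.V_le hz)
  -- `c' = q⁻¹ c`
  have hc' : q⁻¹ * c ∈ cf x := mul_mem (inv_mem hqc) hF.mem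
  have hp' : q⁻¹ * c * z * (q⁻¹ * c)⁻¹ = c * z * c⁻¹ ∨ q⁻¹ * c * z * (q⁻¹ * c)⁻¹ = x * (c * z * c⁻¹) := by
    have h1 := L.fam.qq_cases hx (inv_mem hq) hpx
    have e : q⁻¹ * c * z * (q⁻¹ * c)⁻¹ = q⁻¹ * (c * z * c⁻¹) * q⁻¹⁻¹ := by group
    rw [e]; exact h1
  have hF' : Far V z cf x (q⁻¹ * c) := by
    refine ⟨hc', ?_, ?_⟩
    · rcases hp' with e | e
      · rw [e]; exact hF.cent
      · rw [e]; exact mul_mem (L.fam.V_le_kk hz hz1 hx) hF.cent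
    · intro hcon
      apply hF.nmem
      rcases hp' with e | e
      · rw [← e]; exact hcon
      · rw [e] at hcon
        have := mul_mem hx hcon
        rwa [← mul_assoc, L.fam.ln.sq x hx, one_mul] at this
  obtain ⟨d, hS⟩ := swap c hF
  obtain ⟨d', hS'⟩ := swap _ hF'
  obtain ⟨ρ, hρ, hρp, hρr, hρd⟩ := L.seven_one hx hx1 hxz hr pl hF hS (tri c hF) (ntri c hF)
  obtain ⟨ρ', hρ', hρp', hρr', hρd'⟩ := L.seven_one hx hx1 hxz hr pl hF' hS' (tri _ hF') (ntri _ hF')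
  refine ⟨ρ, hρ, ρ', hρ', hρr, hρr', ?_⟩
  -- `ρ_s = q ρ' q⁻¹`
  have hsW : q * ρ' * q⁻¹ ∈ ww V cf (x * z) := by
    have := L.fam.conj_ww (L.fam.qq_le_normalizer hx hq) hz hz1 hρ'
    rwa [hqz] at this
  -- `k = d⁻¹ q d' ∈ C_G(V)`
  have hk : d⁻¹ * (q * d') ∈ centralizer (V : Set G) := by
    refine L.cent_of hx hx1 hxz (mul_mem (inv_mem hS.mem) (mul_mem hqc hS'.mem)) ?_
    have e1 := hS'.one
    have e2 := hS.one
    calc d⁻¹ * (q * d') * z * (d⁻¹ * (q * d'))⁻¹ = d⁻¹ * (q * (d' * z * d'⁻¹) * q⁻¹) * d := by group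
      _ = d⁻¹ * (c * z * c⁻¹) * d := by rw [e1]; group
      _ = d⁻¹ * (d * z * d⁻¹) * d := by rw [e2]
      _ = z := by group
  set k := d⁻¹ * (q * d') with hkd
  have hkρ : k * ρ' * k⁻¹ ∈ ww V cf z := conj_mem_of_normalizer (L.fam.cent_norm hz hz1) hk hρ'
  have hkr : R.pi (k * ρ' * k⁻¹) = R.pi ρ := by
    rw [← R.act k (L.fam.cent_le_cf hz hz1 hk) ρ' hρ', hρr', hρr]
    exact L.smul_r hx hx1 hxz hrad hr hr0 _
  have hsd : q * ρ' * q⁻¹ = d * (k * ρ' * k⁻¹) * d⁻¹ := by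
    calc q * ρ' * q⁻¹ = q * (d' * ρ' * d'⁻¹) * q⁻¹ := by rw [hρd']
      _ = d * (k * ρ' * k⁻¹) * d⁻¹ := by rw [hkd]; group
  rcases (R.pi_eq L.fam hkρ hρ).mp hkr with e | e
  · -- `ρ_s = ρ`: impossible
    exfalso
    rw [hsd, e, hρd] at hsW
    have h1 : ρ ∈ V := by
      have := L.fam.mem_jj hz hz1 hxzV hxz1 (fun e' => hx1 (by simpa using e')) hρ hsW
      rwa [L.jj] at this
    rcases L.inf_V hx hx1 hxz hF h1 hρp with h2 | h2
    · rw [h2, R.pi_one L.fam] at hρr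
      exact hr0 hρr.symm
    · rw [h2] at hρr
      exact L.vr_ne hx hx1 hxz hr (by rw [hρr, L.sys.two])
  · rw [hsd, e]
    have h1 : ρ * ρ = 1 := L.fam.sq hz hz1 ρ hρ
    have h2 : d * (z * ρ) * d⁻¹ = (d * z * d⁻¹) * (d * ρ * d⁻¹) := by group
    rw [h2, hρd, hS.one, mul_assoc (c * z * c⁻¹), h1, mul_one]

/-- all the points of `D_x - V` are in one coset of `V` -/
theorem seven_three {q c1 c2 : G} (hq : q ∈ qq V cf x)
    (h1 : ∃ ρ ∈ ww V cf z, ∃ ρ' ∈ ww V cf z, R.pi ρ = r ∧ R.pi ρ' = r ∧ c1 * z * c1⁻¹ = q * ρ' * q⁻¹ * ρ)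
    (h2 : ∃ ρ ∈ ww V cf z, ∃ ρ' ∈ ww V cf z, R.pi ρ = r ∧ R.pi ρ' = r ∧ c2 * z * c2⁻¹ = q * ρ' * q⁻¹ * ρ) :
    c1 * z * c1⁻¹ * (c2 * z * c2⁻¹)⁻¹ ∈ V := by
  have hz := L.fam.ln.z_mem
  have hz1 := L.fam.ln.z_ne
  obtain ⟨a, ha, a', ha', har, har', ea⟩ := h1
  obtain ⟨b, hb, b', hb', hbr, hbr', eb⟩ := h2
  have hab : a * b⁻¹ ∈ V := by
    rcases (R.pi_eq L.fam ha hb).mp (har.trans hbr.symm) with e | e
    · rw [e, mul_inv_cancel]; exact one_mem _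
    · rw [e, mul_inv_cancel_right]; exact hz
  have hab' : a' * b'⁻¹ ∈ V := by
    rcases (R.pi_eq L.fam ha' hb').mp (har'.trans hbr'.symm) with e | e
    · rw [e, mul_inv_cancel]; exact one_mem _
    · rw [e, mul_inv_cancel_right]; exact hz
  have hqn := L.fam.qq_le_normalizer hx hq
  have hv := L.fam.conj_pt' hqn hab
  have hcom : (q⁻¹ * (a * b⁻¹) * q) * b'⁻¹ = b'⁻¹ * (q⁻¹ * (a * b⁻¹) * q) :=
    L.fam.V_comm hv (inv_mem (L.fam.ww_le_cent hz hz1 hb'))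
  rw [ea, eb]
  have e : q * a' * q⁻¹ * a * (q * b' * q⁻¹ * b)⁻¹ =
      (q * (a' * b'⁻¹) * q⁻¹) * (a * b⁻¹) := by
    calc q * a' * q⁻¹ * a * (q * b' * q⁻¹ * b)⁻¹ = q * a' * ((q⁻¹ * (a * b⁻¹) * q) * b'⁻¹) * q⁻¹ := by group
      _ = q * a' * (b'⁻¹ * (q⁻¹ * (a * b⁻¹) * q)) * q⁻¹ := by rw [hcom]
      _ = (q * (a' * b'⁻¹) * q⁻¹) * (a * b⁻¹) := by group
  rw [e]
  exact mul_mem (L.fam.conj_pt hqn hab') hab

end seven

/-- **Section 7**: `r = 0`. -/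
theorem r_eq_zero {T' : Subgroup G} {M' H' : Type u} [AddCommGroup M'] [Group H'] [DistribMulAction H' M']
    {R' : MRep V cf x M' H'} {TT' : Set M'} {B' : M' → M' → ZMod 2} (L : Loc T V z cf R TT B)
    (L' : Loc T' V x cf R' TT' B') (pts : ∀ t ∈ TT', ∃ c ∈ cf x, t = R'.pi (c * z * c⁻¹))
    (hrad : ∀ m, (∀ y, B m y = 0) → m = 0 ∨ m = r) (hr : Rd B r)
    (pl : ∀ u ∈ TT, ∀ v ∈ TT, u ≠ v → B u v = 0 → u + v + r ∈ TT) (hxz : x ≠ z)
    (swap : ∀ c, Far V z cf x c → ∃ d, Sw z cf x c d)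
    (tri : ∀ c, Far V z cf x c → ∀ n ∈ cj c (ww V cf z), n ∈ kk V cf x → Tri R B x n)
    (ntri : ∀ c, Far V z cf x c → ∃ w ∈ cj c (ww V cf z), ¬ Tri R B x w)
    (ex : ∃ c, Far V z cf x c) : r = 0 := by
  by_contra hr0
  have hz := L.fam.ln.z_mem
  have hz1 := L.fam.ln.z_ne
  have hx := L'.fam.ln.z_mem
  have hx1 := L'.fam.ln.z_ne
  obtain ⟨q, hq, hqV⟩ := L.fam.exists_mover hx hx1
  obtain ⟨c, hF⟩ := ex
  have hv0 : R'.pi z ∈ TT' := L'.mem z hz hz1 (Ne.symm hxz)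
  have hW : ∀ c ∈ cf x, c * z * c⁻¹ ∈ ww V cf x := fun c hc =>
    conj_mem_of_normalizer L.fam.cf_norm hc (L.fam.V_le hz)
  -- `μ = p mod x`
  have hmem : ∀ c ∈ cf x, R'.pi (c * z * c⁻¹) ∈ TT' := fun c hc => by
    rw [← R'.act c hc z (L.fam.V_le hz)]
    exact L'.map _ _ hv0
  have hV : ∀ v ∈ V, R'.pi v = 0 ∨ R'.pi v = R'.pi z := by
    intro v hv
    rcases L.fam.ln.four hx hz hx1 hz1 hxz hv with e | e | e | e
    · left; rw [e, R'.pi_one L'.fam]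
    · left; rw [e, R'.pi_z L'.fam]
    · right; rw [e]
    · right
      rw [e, R'.pi_mul x L'.fam.z_mem_ww z (L'.fam.V_le hz), R'.pi_z L'.fam, zero_add]
  have two := fun c1 (h : Far V z cf x c1) => L.seven_two hx hx1 hxz hrad hr hr0 pl swap tri ntri hq hqV h
  -- `μ = p mod x`
  set μ := R'.pi (c * z * c⁻¹) with hμ
  have hμT : μ ∈ TT' := hmem c hF.mem
  have hμv : B' μ (R'.pi z) = 0 := (L'.perp z hz hz1 (Ne.symm hxz) _ (hW c hF.mem)).mpr hF.cent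
  have hμne : μ ≠ R'.pi z := by
    intro e
    rcases (R'.pi_eq L'.fam (hW c hF.mem) (L.fam.V_le hz)).mp e with e | e
    · exact hF.nmem (by rw [e]; exact hz)
    · exact hF.nmem (by rw [e]; exact mul_mem hx hz)
  obtain ⟨u, hu, huv, huμ⟩ := L'.sys.exists_nonperp L'.inj hv0 hμT hμne
  obtain ⟨c1, hc1, rfl⟩ := pts u hu
  have huv' : B' (R'.pi (c1 * z * c1⁻¹)) (R'.pi z) = 0 := by rw [L'.sys.symm]; exact huv
  have hF1 : Far V z cf x c1 := by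
    refine ⟨hc1, (L'.perp z hz hz1 (Ne.symm hxz) _ (hW c1 hc1)).mp huv', fun hcon => ?_⟩
    rcases hV _ hcon with e | e
    · rw [e, L'.sys.zero_left] at huμ
      exact zero_ne_one huμ
    · rw [e, L'.sys.symm, hμv] at huμ
      exact zero_ne_one huμ
  have h3 := L.seven_three hx hx1 hxz hq (two c1 hF1) (two c hF)
  have h4 : R'.pi (c1 * z * c1⁻¹) = R'.pi (c1 * z * c1⁻¹ * (c * z * c⁻¹)⁻¹) + μ := by
    rw [hμ, ← R'.pi_mul _ (mul_mem (hW c1 hc1) (inv_mem (hW c hF.mem))) _ (hW c hF.mem)]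
    congr 1; group
  rw [h4, L'.sys.add_left, L'.sys.alt, add_zero] at huμ
  rcases hV _ h3 with e | e
  · rw [e, L'.sys.zero_left] at huμ
    exact zero_ne_one huμ
  · rw [e, L'.sys.symm, hμv] at huμ
    exact zero_ne_one huμ

end Loc

end Cfsg.Agent.Omega.NO3S.TV
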