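import Cfsg.Agent.Omega.NO3S.TV.Three
import Cfsg.Agent.Omega.NO3S.TV.Irr

/-!
# NO-3S, `q = 2`, `n = 1`, transvection types (helper311's text #16747), section 6: `K_x` is a 2-group

Base point `z` (= `y` of the text) with its module `M = W_z/⟨z⟩`, another point `x ∈ V`.

* `Loc.tri_kk` : `K_x` is trivial on `N_z`;
* `Loc.kk_two`, `Loc.kk_two'` : `K_x` is a 2-group, for all points `x` of `V`;
* `Loc.gg` : an element of `C_G(V)` which is trivial on `N_z` is trivial on `N_x` (radical 0).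
-/

set_option autoImplicit false
set_option linter.unusedSectionVars false

namespace Cfsg.Agent.Omega.NO3S.TV

open Subgroup Cfsg Cfsg.Agent.ZN Cfsg.Agent.MinSimple.Geo Cfsg.Agent.Omega.CaseL Cfsg.Agent.Omega.NO3S.Fit
open Cfsg.Agent.ZN.Block (conj_mem_of_normalizer conj_mem_of_normalizer' le_normalizer_of_forall
  mem_normalizer_of)

universe u

variable {G : Type u} [Group G]

namespace Loc

variable {T V : Subgroup G} {z : G} {cf : G → Subgroup G} {M H : Type u} [AddCommGroup M] [Group H]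
  [DistribMulAction H M] {R : MRep V cf z M H} {TT : Set M} {B : M → M → ZMod 2} {x c w k : G}

/-- the image of `W_z ∩ W_p` on `N_z` -/
def ju (L : Loc T V z cf R TT B) (x c : G) : AddSubgroup M where
  carrier := {m | B m (R.pi x) = 0 ∧ ∃ j, j ∈ ww V cf z ∧ j ∈ cj c (ww V cf z) ∧ m + R.pi j ∈ L.sys.kv (R.pi x)}
  add_mem' := by
    rintro a b ⟨ha, i, hi, hi', hia⟩ ⟨hb, j, hj, hj', hjb⟩
    refine ⟨by rw [L.sys.add_left, ha, hb, add_zero], i * j, mul_mem hi hj, mul_mem hi' hj', ?_⟩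
    rw [R.pi_mul i hi j hj]
    have : a + b + (R.pi i + R.pi j) = (a + R.pi i) + (b + R.pi j) := by abel
    rw [this]; exact add_mem hia hjb
  zero_mem' := ⟨L.sys.zero_left _, 1, one_mem _, one_mem _, by
    rw [R.pi_one L.fam, add_zero]; exact zero_mem _⟩
  neg_mem' := by
    rintro a ⟨ha, h⟩
    rw [L.sys.neg_eq]
    exact ⟨ha, h⟩

theorem mem_ju (L : Loc T V z cf R TT B) {m : M} : m ∈ L.ju x c ↔ B m (R.pi x) = 0 ∧
    ∃ j, j ∈ ww V cf z ∧ j ∈ cj c (ww V cf z) ∧ m + R.pi j ∈ L.sys.kv (R.pi x) := Iff.rfl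

section six

variable [Finite G] (L : Loc T V z cf R TT B) (A : Act TT B H) (C : Conn TT B)
  (hp : ∃ a ∈ TT, ∃ b ∈ TT, Sys.Planar TT B a b) (hx : x ∈ V) (hx1 : x ≠ 1) (hxz : x ≠ z)
  (hF : Far V z cf x c) (hcent : cj c (ww V cf z) ≤ centralizer (V : Set G)) (hw : w ∈ cj c (ww V cf z))
  (hnt : ¬ Tri R B x w)
include L A C hp hx hx1 hxz hF hcent hw hnt

/-- **section 6**: `K_x` is trivial on `N_z` -/
theorem tri_kk (hk : k ∈ kk V cf x) : Tri R B x k := by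
  have S := L.sys
  have hz := L.fam.ln.z_mem
  have hz1 := L.fam.ln.z_ne
  have hv := L.mem x hx hx1 hxz
  have hKC : kk V cf x ≤ centralizer (V : Set G) := L.fam.kk_le_cent
  have hCc : centralizer (V : Set G) ≤ cf z := L.fam.cent_le_cf hz hz1
  have hKc : kk V cf x ≤ cf z := hKC.trans hCc
  by_contra hnk
  have hnk' : ∃ m, B m (R.pi x) = 0 ∧ R.phi k • m + m ∉ L.sys.kv (R.pi x) := by
    by_contra hcon
    push Not at hcon
    exact hnk fun m hm => L.sys.tri_of (hcon m hm)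
  have himg : ∀ g, g ∈ R.img (kk V cf x) ↔ ∃ k ∈ kk V cf x, R.phi k = g := fun g => R.mem_img hKc
  have hYv : ∀ g ∈ R.img (kk V cf x), g • R.pi x = R.pi x := by
    intro g hg
    obtain ⟨k', hk', rfl⟩ := (himg g).mp hg
    exact R.cent_v0 L.fam hx (hKC hk')
  have hn : ∀ h : H, h • R.pi x = R.pi x → ∀ g ∈ R.img (kk V cf x), h * g * h⁻¹ ∈ R.img (kk V cf x) := by
    intro h hh g hg
    obtain ⟨k', hk', rfl⟩ := (himg g).mp hg
    obtain ⟨d, hd, rfl⟩ := R.stab L.fam hx hx1 hxz hh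
    refine (himg _).mpr ⟨d * k' * d⁻¹, ?_, ?_⟩
    · exact conj_mem_of_normalizer L.fam.cf_norm_kk (L.fam.cent_le_cf hx hx1 hd) hk'
    · rw [R.phi_mul _ (mul_mem (hCc hd) (hKc hk')) _ (inv_mem (hCc hd)), R.phi_mul _ (hCc hd) _ (hKc hk'),
        R.phi_inv (hCc hd)]
  have hUY : ∀ g ∈ R.img (kk V cf x), ∀ m ∈ L.ju x c, g • m ∈ L.ju x c := by
    intro g hg m hm
    obtain ⟨k', hk', rfl⟩ := (himg g).mp hg
    obtain ⟨hm0, j, hj, hj', hmj⟩ := L.mem_ju.mp hm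
    have hv0 := R.cent_v0 L.fam hx (hKC hk')
    refine L.mem_ju.mpr ⟨L.sys.smul_pp A hv0 hm0, k' * j * k'⁻¹, ?_, ?_, ?_⟩
    · exact conj_mem_of_normalizer (L.fam.cent_norm hz hz1) (hKC hk') hj
    · exact conj_mem_of_normalizer (L.kk_norm hx hx1 hxz hF.mem) hk' hj'
    · rw [← R.act k' (hKc hk') j hj, ← smul_add]
      exact L.sys.smul_kv A hv0 hmj
  have hwV := hcent hw
  have hwc := hCc hwV
  have hwv0 := R.cent_v0 L.fam hx hwV
  apply hnt
  by_cases hUne : ∃ m ∈ L.ju x c, m ∉ L.sys.kv (R.pi x)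
  · -- the image of `J` is `N_z`
    have hall := L.sys.irr L.inj C A hp hv hYv hn ⟨R.phi k, (himg _).mpr ⟨k, hk, rfl⟩, hnk'⟩
      (U := L.ju x c)
      (fun m hm => L.mem_ju.mpr ⟨L.sys.kv_le_pp _ hm, 1, one_mem _, one_mem _, by
        rw [R.pi_one L.fam, add_zero]; exact hm⟩)
      (fun m hm => (L.mem_ju.mp hm).1) hUY hUne
    intro m hm
    obtain ⟨-, j, hj, hj', hmj⟩ := L.mem_ju.mp (hall hm)
    refine L.sys.tri_of ?_
    have e1 : R.phi w • R.pi j = R.pi j := by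
      rw [R.act w hwc j hj]
      congr 1
      rw [mem_cj] at hw hj'
      have h1 := L.fam.comm hz hz1 _ hw _ hj'
      calc w * j * w⁻¹ = c * ((c⁻¹ * w * c) * (c⁻¹ * j * c)) * (c⁻¹ * w⁻¹) := by group
        _ = c * ((c⁻¹ * j * c) * (c⁻¹ * w * c)) * (c⁻¹ * w⁻¹) := by rw [h1]
        _ = j := by group
    have h2 := add_mem (L.sys.smul_kv A hwv0 hmj) hmj
    rw [smul_add, e1] at h2
    have e2 : R.phi w • m + R.pi j + (m + R.pi j) = R.phi w • m + m := by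
      calc R.phi w • m + R.pi j + (m + R.pi j) = R.phi w • m + m + (R.pi j + R.pi j) := by abel
        _ = R.phi w • m + m := by rw [L.sys.two, add_zero]
    rwa [e2] at h2
  · -- the image of `J` is trivial
    push Not at hUne
    intro m hm
    obtain ⟨a, ha, rfl⟩ := R.pi_surj m
    refine L.sys.tri_of ?_
    have h1 := L.comm_J hx hx1 hxz hF hw hwV ha
    have h2 := L.phi_pi hwV ha
    refine hUne _ (L.mem_ju.mpr ⟨?_, w * a * w⁻¹ * a⁻¹, h1.1, h1.2, ?_⟩)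
    · rw [L.sys.add_left, L.sys.smul_pp A hwv0 hm, hm, add_zero]
    · rw [h2, L.sys.two]; exact zero_mem _

/-- **section 6**: `K_x` is a 2-group -/
theorem kk_two [FaithfulSMul H M] (hKK : IsPGroup 2 (kk V cf z ⊓ kk V cf x : Subgroup G)) :
    IsPGroup 2 (kk V cf x) := by
  rintro ⟨l, hl⟩
  obtain ⟨k, hk⟩ := exists_pow_two_of_odd (L := kk V cf x) (fun l hl ho => by
    have h1 : l ∈ kk V cf z := L.kk_of_odd A hx hx1 hxz (L.fam.kk_le_cent hl) ho
      (L.tri_kk A C hp hx hx1 hxz hF hcent hw hnt hl)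
    obtain ⟨n, hn⟩ := hKK ⟨l, ⟨h1, hl⟩⟩
    have h6 : l ^ 2 ^ n = 1 := congrArg Subtype.val hn
    have h7 : orderOf l ∣ 2 ^ n := orderOf_dvd_of_pow_eq_one h6
    have h8 : Nat.Coprime (orderOf l) (2 ^ n) := (Nat.coprime_two_right.mpr ho).pow_right n
    exact orderOf_eq_one_iff.mp (Nat.eq_one_of_dvd_coprimes h8 dvd_rfl h7)) hl
  exact ⟨k, Subtype.ext hk⟩

/-- **section 6**: all `K_p` are 2-groups -/
theorem kk_two' [FaithfulSMul H M] (hKK : IsPGroup 2 (kk V cf z ⊓ kk V cf x : Subgroup G)) :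
    ∀ p ∈ V, p ≠ 1 → IsPGroup 2 (kk V cf p) := by
  have h0 := L.kk_two A C hp hx hx1 hxz hF hcent hw hnt hKK
  intro p hpV hp1
  obtain ⟨g, hg, hgz⟩ := L.fam.ln.trans p hpV hp1
  obtain ⟨g', hg', hgz'⟩ := L.fam.ln.trans x hx hx1
  -- `g' g⁻¹` maps `p` to `x`
  rintro ⟨l, hl⟩
  have hgg : g' * g⁻¹ ∈ normalizer (V : Set G) := mul_mem hg' (inv_mem hg)
  have h1 := L.fam.conj_kk hgg hpV hp1 hl
  have e : g' * g⁻¹ * p * (g' * g⁻¹)⁻¹ = x := by
    rw [← hgz, ← hgz']; group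
  rw [e] at h1
  obtain ⟨n, hn⟩ := h0 ⟨_, h1⟩
  have h2 : (g' * g⁻¹ * l * (g' * g⁻¹)⁻¹) ^ 2 ^ n = 1 := congrArg Subtype.val hn
  rw [conj_pow] at h2
  exact ⟨n, Subtype.ext (conj_eq_one_iff.mp h2)⟩

end six

/-! ### the action of `C_G(V)` on `N_z` and on `N_x`, radical 0 -/

section gg

omit [DistribMulAction H M] in
/-- radical 0: `Tri` in terms of commutators -/
theorem tri_iff_comm [DistribMulAction H M] {R : MRep V cf z M H} (L : Loc T V z cf R TT B) (hx : x ∈ V)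
    (hx1 : x ≠ 1) (hxz : x ≠ z) (hr : ∀ m, (∀ a, B m a = 0) → m = 0) {g : G}
    (hg : g ∈ centralizer (V : Set G)) : Tri R B x g ↔
      ∀ d ∈ ww V cf z, (∀ b ∈ ww V cf x, d * b = b * d) → g * d * g⁻¹ * d⁻¹ ∈ V := by
  have hz := L.fam.ln.z_mem
  have hz1 := L.fam.ln.z_ne
  have hr' : ∀ ρ, Rd B ρ → ρ = 0 := fun ρ hρ => hr ρ fun a => L.sys.rd_left hρ a
  have hkk : ∀ d ∈ ww V cf z, (B (R.pi d) (R.pi x) = 0 ↔ ∀ b ∈ ww V cf x, d * b = b * d) := by
    intro d hd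
    rw [L.perp x hx hx1 hxz d hd, mem_centralizer_iff]
    exact ⟨fun h b hb => (h b hb).symm, fun h b hb => (h b hb).symm⟩
  constructor
  · intro ht d hd hdx
    have h1 := (hkk d hd).mpr hdx
    have h2 := L.phi_pi hg hd
    have h3 : g * d * g⁻¹ * d⁻¹ ∈ ww V cf z :=
      mul_mem (conj_mem_of_normalizer (L.fam.cent_norm hz hz1) hg hd) (inv_mem hd)
    refine L.mem_V_of_pi hx h3 ?_
    rw [← h2]
    obtain ⟨ρ, hρ, e | e⟩ := ht _ h1
    · left; rw [e, hr' ρ hρ, add_zero, L.sys.two]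
    · right; rw [e, hr' ρ hρ, add_zero, add_comm, L.sys.add_cancel]
  · intro h m hm
    obtain ⟨d, hd, rfl⟩ := R.pi_surj m
    have h1 := h d hd ((hkk d hd).mp hm)
    have h2 := L.phi_pi hg hd
    refine ⟨0, fun a => L.sys.zero_right a, ?_⟩
    rw [add_zero, add_zero]
    have h3 : R.phi g • R.pi d = R.pi d + R.pi (g * d * g⁻¹ * d⁻¹) := by
      rw [← h2, add_comm, L.sys.add_cancel']
    rw [h3]
    rcases L.fam.ln.four hz hx hz1 hx1 (Ne.symm hxz) h1 with e | e | e | e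
    · left; rw [e, R.pi_one L.fam, add_zero]
    · left; rw [e, R.pi_z L.fam, add_zero]
    · right; rw [e]
    · right; rw [e, R.pi_mul z L.fam.z_mem_ww x (L.fam.V_le hx), R.pi_z L.fam, zero_add]

variable {T' : Subgroup G} {M' H' : Type u} [AddCommGroup M'] [Group H'] [DistribMulAction H' M']
  {R' : MRep V cf x M' H'} {TT' : Set M'} {B' : M' → M' → ZMod 2}

/-- **section 6**: an element of `C_G(V)` trivial on `N_z` is trivial on `N_x` (radical 0) -/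
theorem gg [Finite G] [Finite M] [Finite M'] [FaithfulSMul H M] [FaithfulSMul H' M'] (L : Loc T V z cf R TT B)
    (A : Act TT B H) (L' : Loc T' V x cf R' TT' B') (A' : Act TT' B' H')
    (hr : ∀ m, (∀ a, B m a = 0) → m = 0) (hr' : ∀ m, (∀ a, B' m a = 0) → m = 0) (hxz : x ≠ z)
    (hK : ∀ p ∈ V, p ≠ 1 → IsPGroup 2 (kk V cf p)) {c : G} (hc : c ∈ centralizer (V : Set G))
    (h : ∀ d ∈ ww V cf z, (∀ b ∈ ww V cf x, d * b = b * d) → c * d * c⁻¹ * d⁻¹ ∈ V) :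
    ∀ d ∈ ww V cf x, (∀ b ∈ ww V cf z, d * b = b * d) → c * d * c⁻¹ * d⁻¹ ∈ V := by
  have hz := L.fam.ln.z_mem
  have hz1 := L.fam.ln.z_ne
  have hx := L'.fam.ln.z_mem
  have hx1 := L'.fam.ln.z_ne
  have h1 := (L.tri_iff_comm hx hx1 hxz hr hc).mpr h
  have h2 := (L.tri_iff A hx hx1 hxz (hK z hz hz1) hc).mp h1
  have h3 := (L'.tri_iff A' hz hz1 (Ne.symm hxz) (hK x hx hx1) hc).mpr h2
  exact (L'.tri_iff_comm hz hz1 (Ne.symm hxz) hr' hc).mp h3

end gg

end Loc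

end Cfsg.Agent.Omega.NO3S.TV
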