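import Cfsg.Agent.Omega.NO3S.TV.Comp
import Cfsg.Agent.Omega.NO3S.TV.Six
import Cfsg.Agent.Omega.NO3S.TV.Seven
import Cfsg.Agent.Omega.NO3S.TV.EightOf

/-!
# NO-3S, `q = 2`, `n = 1`, transvection types: the assembly for a connected family (helper918)

* `trp` : transport of `MRep` along an element of `N_G(V)`;
* `Tvf.loc` : helper320's `Loc` from a transvection family with `W_z ∩ W_y = V`;
* `Tvf.core` : sections 3 - 7: all `K_p` are 2-groups, the radical is 0, all vectors `≠ 0` are in `TT`;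
* `Tvf.false_of_conn` : a connected transvection family with `W_z ∩ W_y = V` has no point `t ∉ V` centralized by `W_y`.
-/

set_option autoImplicit false
set_option linter.unusedSectionVars false

namespace Cfsg.Agent.Omega.NO3S.TV

open Subgroup Cfsg Cfsg.Agent.ZN Cfsg.Agent.MinSimple.Geo Cfsg.Agent.Omega.CaseL Cfsg.Agent.Omega.NO3S.Fit
open Cfsg.Agent.ZN.Block (conj_mem_of_normalizer conj_mem_of_normalizer' le_normalizer_of_forall
  mem_normalizer_of)

universe u

variable {G : Type u} [Group G] {T V : Subgroup G} {z : G} {cf : G → Subgroup G}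
variable {M H : Type u} [AddCommGroup M] [Group H] [DistribMulAction H M] {B : M → M → ZMod 2}

/-! ### transport along `N_G(V)` -/

/-- transport of the module along `g ∈ N_G(V)`, `x = g z g⁻¹` -/
def trp (h : Fam T V z cf) {g x : G} (hg : g ∈ normalizer (V : Set G)) (e : g * z * g⁻¹ = x)
    (R : MRep V cf x M H) : MRep V cf z M H :=
  have hz := h.ln.z_mem
  have hz1 := h.ln.z_ne
  have hx : x ∈ V := e ▸ h.conj_pt hg hz
  have hx1 : x ≠ 1 := e ▸ Fam.conj_ne hz1
  have hw : ∀ a ∈ ww V cf z, g * a * g⁻¹ ∈ ww V cf x := fun a ha => e ▸ h.conj_ww hg hz hz1 ha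
  have hc : ∀ a ∈ cf z, g * a * g⁻¹ ∈ cf x := fun a ha => by
    rw [← e, ← h.cj_cf g hg z hz hz1]; exact conj_mem_cj ha
  have hxz : g⁻¹ * x * g⁻¹⁻¹ = z := by rw [← e]; group
  have hw' : ∀ a ∈ ww V cf x, g⁻¹ * a * g ∈ ww V cf z := fun a ha => by
    have := h.conj_ww (inv_mem hg) hx hx1 ha
    rwa [hxz, inv_inv] at this
  have hc' : ∀ a ∈ cf x, g⁻¹ * a * g ∈ cf z := fun a ha => by
    have h1 := h.cj_cf g⁻¹ (inv_mem hg) x hx hx1
    rw [hxz] at h1
    rw [← h1, mem_cj]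
    have : g⁻¹⁻¹ * (g⁻¹ * a * g) * g⁻¹ = a := by group
    rwa [this]
  { pi := fun w => R.pi (g * w * g⁻¹)
    phi := fun c => R.phi (g * c * g⁻¹)
    pi_mul := fun a ha b hb => by
      rw [← R.pi_mul _ (hw a ha) _ (hw b hb)]
      congr 1; group
    pi_surj := fun m => by
      obtain ⟨w, hw1, rfl⟩ := R.pi_surj m
      refine ⟨g⁻¹ * w * g, hw' w hw1, ?_⟩
      congr 1; group
    pi_ker := fun w hw1 => by
      rw [R.pi_ker _ (hw w hw1)]
      constructor
      · rintro (h1 | h1)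
        · exact Or.inl (conj_eq_one_iff.mp h1)
        · right
          rw [← e] at h1
          exact mul_left_cancel (mul_right_cancel h1)
      · rintro (rfl | rfl)
        · left; group
        · right; exact e
    phi_mul := fun c hc1 d hd1 => by
      rw [← R.phi_mul _ (hc c hc1) _ (hc d hd1)]
      congr 1; group
    phi_surj := fun y => by
      obtain ⟨c, hc1, rfl⟩ := R.phi_surj y
      refine ⟨g⁻¹ * c * g, hc' c hc1, ?_⟩
      congr 1; group
    phi_ker := fun c hc1 => by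
      rw [R.phi_ker _ (hc c hc1)]
      constructor
      · intro h1
        have h2 := h.conj_qq (inv_mem hg) hx hx1 h1
        rw [hxz] at h2
        have e3 : g⁻¹ * (g * c * g⁻¹) * g⁻¹⁻¹ = c := by group
        rwa [e3] at h2
      · intro h1
        have := h.conj_qq hg hz hz1 h1
        rwa [e] at this
    act := fun c hc1 w hw1 => by
      rw [R.act _ (hc c hc1) _ (hw w hw1)]
      congr 1; group }

theorem trp_pi (h : Fam T V z cf) {g x : G} (hg : g ∈ normalizer (V : Set G)) (e : g * z * g⁻¹ = x)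
    (R : MRep V cf x M H) (w : G) : (trp h hg e R).pi w = R.pi (g * w * g⁻¹) := rfl

theorem trp_phi (h : Fam T V z cf) {g x : G} (hg : g ∈ normalizer (V : Set G)) (e : g * z * g⁻¹ = x)
    (R : MRep V cf x M H) (c : G) : (trp h hg e R).phi c = R.phi (g * c * g⁻¹) := rfl

/-- the points on `x = g z g⁻¹` -/
theorem pts_conj_iff (h : Fam T V z cf) {g x t : G} (hg : g ∈ normalizer (V : Set G)) (e : g * z * g⁻¹ = x) :
    g * t * g⁻¹ ∈ pts V cf x ↔ t ∈ pts V cf z := by
  have hz := h.ln.z_mem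
  have hz1 := h.ln.z_ne
  have hx : x ∈ V := e ▸ h.conj_pt hg hz
  have hx1 : x ≠ 1 := e ▸ Fam.conj_ne hz1
  have hxz : g⁻¹ * x * g⁻¹⁻¹ = z := by rw [← e]; group
  constructor
  · rintro ⟨y, hy, hy1, hyx, c, hc, e1⟩
    refine ⟨g⁻¹ * y * g, h.conj_pt' hg hy, Fam.conj_ne' hy1, ?_, g⁻¹ * c * g, ?_, ?_⟩
    · intro e2
      apply hyx
      rw [← e, ← e2]; group
    · have h1 := h.cj_cf g⁻¹ (inv_mem hg) x hx hx1
      rw [hxz] at h1
      rw [← h1, mem_cj]
      have : g⁻¹⁻¹ * (g⁻¹ * c * g) * g⁻¹ = c := by group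
      rwa [this]
    · calc t = g⁻¹ * (g * t * g⁻¹) * g := by group
        _ = g⁻¹ * c * g * (g⁻¹ * y * g) * (g⁻¹ * c * g)⁻¹ := by rw [e1]; group
  · rintro ⟨y, hy, hy1, hyz, c, hc, rfl⟩
    refine ⟨g * y * g⁻¹, h.conj_pt hg hy, Fam.conj_ne hy1, ?_, g * c * g⁻¹, ?_, by group⟩
    · intro e2
      apply hyz
      rw [← e] at e2
      exact mul_left_cancel (mul_right_cancel e2)
    · rw [← e, ← h.cj_cf g hg z hz hz1]; exact conj_mem_cj hc

theorem trp_TT (h : Fam T V z cf) {g x : G} (hg : g ∈ normalizer (V : Set G)) (e : g * z * g⁻¹ = x)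
    (R : MRep V cf x M H) : TT (trp h hg e R) = TT R := by
  ext m
  constructor
  · rintro ⟨t, ht, rfl⟩
    exact ⟨_, (pts_conj_iff h hg e).mpr ht, rfl⟩
  · rintro ⟨t, ht, rfl⟩
    refine ⟨g⁻¹ * t * g, ?_, ?_⟩
    · rw [← pts_conj_iff h hg e]
      have : g * (g⁻¹ * t * g) * g⁻¹ = t := by group
      rwa [this]
    · rw [trp_pi]; congr 1; group

theorem trp_isB (h : Fam T V z cf) {g x : G} (hg : g ∈ normalizer (V : Set G)) (e : g * z * g⁻¹ = x)
    (R : MRep V cf x M H) (hB : IsB R B) : IsB (trp h hg e R) B := by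
  intro y hy hy1 hyz w hw hwz
  have hz := h.ln.z_mem
  have hz1 := h.ln.z_ne
  have hx : x ∈ V := e ▸ h.conj_pt hg hz
  have hx1 : x ≠ 1 := e ▸ Fam.conj_ne hz1
  have hxz : g⁻¹ * x * g⁻¹⁻¹ = z := by rw [← e]; group
  refine hB (g * y * g⁻¹) (h.conj_pt hg hy) (Fam.conj_ne hy1) ?_ (g * w * g⁻¹) (h.conj_ww hg hy hy1 hw) ?_
  · intro e2
    apply hyz
    rw [← e] at e2
    exact mul_left_cancel (mul_right_cancel e2)
  · intro h1
    apply hwz
    have h2 := h.conj_qq (inv_mem hg) hx hx1 h1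
    rw [hxz] at h2
    have e3 : g⁻¹ * (g * w * g⁻¹) * g⁻¹⁻¹ = w := by group
    rwa [e3] at h2

/-- the graph is connected, for every module at `z` -/
def AllConn (V : Subgroup G) (cf : G → Subgroup G) (z : G) : Prop :=
  ∀ (M H : Type u) [AddCommGroup M] [Group H] [DistribMulAction H M] (R : MRep V cf z M H) (B : M → M → ZMod 2),
    IsB R B → Conn (TT R) B

theorem AllConn.conj (h : Fam T V z cf) (hc : AllConn V cf z) {g x : G} (hg : g ∈ normalizer (V : Set G))
    (e : g * z * g⁻¹ = x) : AllConn V cf x := by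
  intro M H _ _ _ R B hB
  have := hc M H (trp h hg e R) B (trp_isB h hg e R hB)
  rwa [trp_TT] at this

namespace Tvf

/-! ### `Loc` -/

variable (h : Tvf T V z cf) [Finite G] (R : MRep V cf z M H) (hB : IsB R B)
include h

theorem perp_iff {x w : G} (hB : IsB R B) (hx : x ∈ V) (hx1 : x ≠ 1) (hxz : x ≠ z) (hw : w ∈ ww V cf z) :
    B (R.pi w) (R.pi x) = 0 ↔ w ∈ kk V cf x := by
  rw [h.form_pt R hB (mem_pts hx hx1 hxz) hw, wt_eq h.toFam hx hx1 hxz, kk, mem_centralizer_iff]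
  exact ⟨fun h1 b hb => (h1 b hb).symm, fun h1 b hb => (h1 b hb).symm⟩

theorem loc [FaithfulSMul H M] (hB : IsB R B) (hj : jj V cf ≤ V) : Loc T V z cf R (TT R) B where
  fam := h.toFam
  jj := le_antisymm hj h.toFam.V_le_jj
  sys := h.sys R hB
  inj := h.inj R hB
  map := (h.act R hB).smul_mem
  form := (h.act R hB).form
  mem _ hx hx1 hxz := pi_mem_TT R (mem_pts hx hx1 hxz)
  perp _ hx hx1 hxz _ hw := h.perp_iff R hB hx hx1 hxz hw

/-- the points on `z` over one point `y ∈ V` -/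
theorem TT_pts {y : G} (hy : y ∈ V) (hy1 : y ≠ 1) (hyz : y ≠ z) {t : M} (ht : t ∈ TT R) :
    ∃ c ∈ cf z, t = R.pi (c * y * c⁻¹) := by
  rw [h.TT_eq R hy hy1 hyz] at ht
  obtain ⟨x, rfl⟩ := ht
  obtain ⟨c, hc, rfl⟩ := R.phi_surj x
  exact ⟨c, hc, R.act c hc y (h.V_le hy)⟩

/-- `W_y` contains an element which acts as the transvection -/
theorem exists_tv {y : G} (hB : IsB R B) (hy : y ∈ V) (hy1 : y ≠ 1) (hyz : y ≠ z) : ∃ w ∈ ww V cf y, ∀ m : M,
    (B m (R.pi y) = 0 → R.phi w • m = m) ∧ (B m (R.pi y) = 1 → R.phi w • m = m + R.pi y) := by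
  have hp := mem_pts (cf := cf) hy hy1 hyz
  obtain ⟨b, hb, hbz⟩ := h.exists_wt hp
  refine ⟨b, ?_, fun m => h.phi_wt R hB hp hb hbz m⟩
  rwa [wt_eq h.toFam hy hy1 hyz] at hb

/-- **sections 3 - 7** -/
theorem core [Finite M] [FaithfulSMul H M] (hB : IsB R B) (hj : jj V cf ≤ V) (hc : AllConn V cf z) {x t0 : G}
    (hx : x ∈ V) (hx1 : x ≠ 1) (hxz : x ≠ z) (ht0 : t0 ∈ pts V cf z) (ht0k : t0 ∈ kk V cf x) (ht0V : t0 ∉ V) :
    (∀ p ∈ V, p ≠ 1 → IsPGroup 2 (kk V cf p)) ∧ (∀ m, (∀ a, B m a = 0) → m = 0) ∧ ∀ m : M, m ≠ 0 → m ∈ TT R := by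
  have hz := h.z_mem
  have hz1 := h.z_ne
  have hzx : z ≠ x := Ne.symm hxz
  have S := h.sys R hB
  have A := h.act R hB
  have I := h.inj R hB
  have C := hc M H R B hB
  have L := h.loc R hB hj
  -- the module at `x`
  obtain ⟨g, hg, e, h'⟩ := h.point hx hx1
  obtain ⟨M', H', i1, i2, i3, i4, i5, i6, ⟨R'⟩⟩ := h'.toFam.exists_mrep
  obtain ⟨B', hB'⟩ := h'.exists_isB R'
  have S' := h'.sys R' hB'
  have A' := h'.act R' hB'
  have I' := h'.inj R' hB'
  have C' := (hc.conj h.toFam hg e) M' H' R' B' hB'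
  have L' := h'.loc R' hB' hj
  have hzp : z ∈ pts V cf x := mem_pts hz hz1 hzx
  -- swap
  have swap : ∀ c, Far V z cf x c → ∃ d, Loc.Sw z cf x c d := by
    intro c hF
    have hpp : c * z * c⁻¹ ∈ pts V cf x := mem_pts_conj hz hz1 hzx hF.mem
    have h0 : B' (R'.pi z) (R'.pi (c * z * c⁻¹)) = 0 := by
      rw [S'.symm, h'.perp_iff R' hB' hz hz1 hzx (h'.pt_mem hpp)]
      exact hF.cent
    have hne : R'.pi z ≠ R'.pi (c * z * c⁻¹) := by
      intro e1
      apply hF.nmem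
      rcases (R'.pi_eq h'.toFam (h'.V_le hz) (h'.pt_mem hpp)).mp e1 with e2 | e2
      · rw [← e2]; exact hz
      · have : c * z * c⁻¹ = x * z := by
          have h5 : x * z = x * (x * (c * z * c⁻¹)) := congrArg (fun a => x * a) e2
          rw [h5, ← mul_assoc, h.ln.sq x hx, one_mul]
        rw [this]; exact mul_mem hx hz
    obtain ⟨d, hd, e1, e2⟩ := h'.swap R' hB' C' hzp hpp h0 hne
    exact ⟨d, hd, e1, e2⟩
  have tri : ∀ c, Far V z cf x c → ∀ n ∈ cj c (ww V cf z), n ∈ kk V cf x → Tri R B x n :=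
    fun c hF n hn hnk => L.tri_far A hx hx1 hxz hF.mem hn hnk
  have hpts : ∀ t ∈ TT R', ∃ c ∈ cf x, t = R'.pi (c * z * c⁻¹) := fun t ht => h'.TT_pts R' hz hz1 hzx ht
  have hw0 := h'.exists_tv R' hB' hz hz1 hzx
  have hKK : IsPGroup 2 (kk V cf z ⊓ kk V cf x : Subgroup G) := h.kk_inf_two R hB C hz hz1 hx hx1 hxz
  have hxzV : x * z ∈ V := mul_mem hx hz
  have hxz1 : x * z ≠ 1 := h.mul_ne_one hz hxz
  have hxzz : x * z ≠ z := fun e1 => hx1 (by simpa using e1)
  have hKK' : IsPGroup 2 (kk V cf z ⊓ kk V cf (x * z) : Subgroup G) :=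
    h.kk_inf_two R hB C hz hz1 hxzV hxz1 hxzz
  -- a point of `D_x - V`
  have hμ : ∃ μ ∈ TT R', B' μ (R'.pi z) = 0 ∧ μ ≠ R'.pi z := by
    obtain ⟨n, hn, e1, e2⟩ := h.trans2 hz hz1 hx hx1 hxz hx hx1 hz hz1 hzx
    have h1 : n * t0 * n⁻¹ ∈ pts V cf x := (pts_conj_iff h.toFam hn e1).mpr ht0
    have h2 : n * t0 * n⁻¹ ∈ kk V cf z := by
      have := h.conj_kk hn hx hx1 ht0k
      rwa [e2] at this
    have h3 : n * t0 * n⁻¹ ∉ V := by
      intro h4
      apply ht0V
      have := h.toFam.conj_pt' hn h4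
      have e3 : n⁻¹ * (n * t0 * n⁻¹) * n = t0 := by group
      rwa [e3] at this
    refine ⟨R'.pi (n * t0 * n⁻¹), pi_mem_TT R' h1, ?_, ?_⟩
    · rw [h'.perp_iff R' hB' hz hz1 hzx (h'.pt_mem h1)]
      exact h2
    · intro e3
      apply h3
      rcases (R'.pi_eq h'.toFam (h'.pt_mem h1) (h'.V_le hz)).mp e3 with e4 | e4
      · rw [e4]; exact hz
      · rw [e4]; exact hxzV
  obtain ⟨c, hF, w, hw, hnt⟩ := L.exists_not_tri A L' hxz hpts hw0 hμ hKK'
  have hcent := L'.cj_le_cent hz hz1 hxz hF.mem hF.cent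
  have hp := L.exists_planar hx hx1 hxz swap tri ⟨c, hF, w, hw, hnt⟩
  have hK : ∀ p ∈ V, p ≠ 1 → IsPGroup 2 (kk V cf p) := L.kk_two' A C hp hx hx1 hxz hF hcent hw hnt hKK
  -- all `W_p` are nontrivial on `N_z`
  have ntri : ∀ c, Far V z cf x c → ∃ w ∈ cj c (ww V cf z), ¬ Tri R B x w := by
    intro c hF
    obtain ⟨w0, hw0, hw0a⟩ := hw0
    have hw0c : w0 ∈ cf x := L.fam.ww_le_cf' hz hz1 hx hx1 hw0
    have hcent := L'.cj_le_cent hz hz1 hxz hF.mem hF.cent
    refine ⟨c * w0 * c⁻¹, conj_mem_cj hw0, fun ht => ?_⟩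
    have hwV := hcent (conj_mem_cj (g := c) hw0)
    have h1 := (L.tri_iff A hx hx1 hxz (hK z hz hz1) hwV).mp ht
    have h2 := (L'.tri_iff A' hz hz1 hzx (hK x hx hx1) hwV).mpr h1
    have hzW : z ∈ ww V cf x := h'.V_le hz
    have hpp : c * z * c⁻¹ ∈ pts V cf x := mem_pts_conj hz hz1 hzx hF.mem
    set μ := R'.pi (c * z * c⁻¹) with hμd
    have hμT : μ ∈ TT R' := pi_mem_TT R' hpp
    have hμne : μ ≠ R'.pi z := by
      intro e1
      apply hF.nmem
      rcases (R'.pi_eq h'.toFam (h'.pt_mem hpp) hzW).mp e1 with e2 | e2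
      · rw [e2]; exact hz
      · rw [e2]; exact hxzV
    obtain ⟨u, hu, hu0, huμ⟩ := S'.exists_nonperp I' (pi_mem_TT R' hzp) hμT hμne
    have hact : R'.phi (c * w0 * c⁻¹) • u = u + μ := by
      rw [R'.phi_mul _ (mul_mem hF.mem hw0c) _ (inv_mem hF.mem), R'.phi_mul _ hF.mem _ hw0c, R'.phi_inv hF.mem,
        mul_smul, mul_smul]
      have hb : B' ((R'.phi c)⁻¹ • u) (R'.pi z) = 1 := by
        rw [← L'.form (R'.phi c), smul_inv_smul, R'.act c hF.mem z hzW]
        exact huμ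
      rw [(hw0a _).2 hb, smul_add, smul_inv_smul, R'.act c hF.mem z hzW]
    obtain ⟨ρ, hρ, h3⟩ := h2 u (by rw [S'.symm]; exact hu0)
    rw [hact] at h3
    rcases h3 with h3 | h3
    · have h4 : μ = ρ := add_left_cancel h3
      obtain ⟨m, hm⟩ := S'.nd μ hμT
      rw [h4, S'.symm, hρ m] at hm
      exact zero_ne_one hm
    · have h4 : μ = R'.pi z + ρ := by
        rw [add_assoc] at h3
        exact add_left_cancel h3
      apply hμne
      refine I' _ hμT _ (pi_mem_TT R' hzp) fun m => ?_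
      rw [h4, S'.add_left, S'.symm ρ, hρ m, add_zero]
  obtain ⟨r, hr⟩ := S.exists_r I C hp
  have hr0 : r = 0 := L.r_eq_zero L' hpts hr.rad_eq (fun a => by rw [S.symm]; exact hr.rad a) hr.perp hxz swap tri
    ntri ⟨c, hF⟩
  subst hr0
  refine ⟨hK, fun m hm => ?_, fun m hm => ?_⟩
  · rcases hr.rad_eq m hm with e1 | e1 <;> exact e1
  · rcases hr.cases m with e1 | e1 | e1 | e1
    · exact absurd e1 hm
    · exact absurd e1 hm
    · exact e1
    · rwa [add_zero] at e1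

/-- the interchange of two commuting conditions -/
theorem cm_two : CommTwo V cf := by
  intro p hp hp1 q hq hq1 hqp a ha b hb
  by_cases h1 : a ∈ qq V cf q
  · left
    have := h.good hp hp1 hq hq1 hqp ha h1 hb
    rw [this]; group
  · by_cases h2 : b ∈ qq V cf p
    · left
      have := h.good hq hq1 hp hp1 (Ne.symm hqp) hb h2 ha
      rw [← this]; group
    · right
      exact h.cm_eq hp hp1 hq hq1 hqp ha h1 hb h2

/-- **Theorem TV for connected families** -/
theorem false_of_conn (hj : jj V cf ≤ V) (hc : AllConn V cf z) {x t0 : G}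
    (hx : x ∈ V) (hx1 : x ≠ 1) (hxz : x ≠ z) (ht0 : t0 ∈ pts V cf z) (ht0k : t0 ∈ kk V cf x) (ht0V : t0 ∉ V) :
    False := by
  have hz := h.z_mem
  have hz1 := h.z_ne
  obtain ⟨M, H, i1, i2, i3, i4, i5, i6, ⟨R⟩⟩ := h.toFam.exists_mrep
  obtain ⟨B, hB⟩ := h.exists_isB R
  have S := h.sys R hB
  obtain ⟨hK, hr, hall⟩ := h.core R hB hj hc hx hx1 hxz ht0 ht0k ht0V
  have L := h.loc R hB hj
  have E : LocE T V z cf :=
    { toFam := h.toFam
      inter := hj
      two := h.cm_two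
      one := h.one
      pt := by
        intro m hm hm1 hmz
        have h0 : R.pi m ≠ 0 := by
          intro e
          rcases (R.pi_ker m hm).mp e with e | e
          · exact hm1 e
          · exact hmz e
        obtain ⟨t, ht, e⟩ := hall _ h0
        rcases (R.pi_eq h.toFam (h.pt_mem ht) hm).mp e with e1 | e1
        · rw [← e1]; exact ht
        · have : m = z * t := by rw [e1, ← mul_assoc, h.ln.sq z hz, one_mul]
          rw [this]; exact h.pt_z ht
      perp := by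
        intro y hy hy1 hyz m hm hmy b hb
        have h1 : B (R.pi m) (R.pi y) = 0 := by
          rw [h.perp_iff R hB hy hy1 hyz (h.pt_mem hm), kk, mem_centralizer_iff]
          exact fun b hb => (hmy b hb).symm
        rw [S.symm] at h1
        exact (h.form_pt R hB hm (h.V_le hy)).mp h1 b hb
      gg := by
        intro y hy hy1 hyz c hc1 hd
        obtain ⟨g, hg, e, h'⟩ := h.point hy hy1
        obtain ⟨M', H', i1, i2, i3, i4, i5, i6, ⟨R'⟩⟩ := h'.toFam.exists_mrep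
        obtain ⟨B', hB'⟩ := h'.exists_isB R'
        have L' := h'.loc R' hB' hj
        obtain ⟨-, hr', -⟩ := h.core (trp h.toFam hg e R') (trp_isB h.toFam hg e R' hB') hj hc hx hx1 hxz ht0
          ht0k ht0V
        exact L.gg (h.act R hB) L' (h'.act R' hB') hr hr' hyz hK hc1 hd }
  exact E.false hx hx1 hxz (h.pt_mem ht0) ht0V fun b hb => (mem_centralizer_iff.mp ht0k b hb).symm

end Tvf

end Cfsg.Agent.Omega.NO3S.TV
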