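import Mathlib

/-!
# Transvection groups with a common centre: `GL_{k+1}(2)` (helper311 #16747, section 9, THEOREM TV2)

`M` an `𝔽₂`-module, `H` a group acting faithfully without nontrivial normal 2-subgroup, `TT ⊆ M` an `H`-invariant
spanning set, `F v` (`v ∈ TT`) an equivariant family of subspaces of `M*` of the same order `q ≥ 4`, such that all
`m ↦ m + f m • v` (`f ∈ F v`) are induced by `H`.

* `Nine.np_trans` : `u ≈ v :⇔ u = v ∨ F v (u) ≠ 0` is an equivalence relation on `TT`;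
* `Nine.comp v` : the class of `v` and `0` form a subspace `M₁` of order `2 q`;
* `Nine.exists_tr` : every transvection of `M₁` is induced by `H`.
-/

set_option autoImplicit false

namespace Cfsg.Agent.Omega.NO3S.TV

open Module

variable {M : Type*} [AddCommGroup M] [Module (ZMod 2) M] {H : Type*} [Group H] [DistribMulAction H M]

theorem two_cases (a : ZMod 2) : a = 0 ∨ a = 1 := by
  revert a; decide

theorem eq_one_of_ne {a : ZMod 2} (h : a ≠ 0) : a = 1 := (two_cases a).resolve_left h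

theorem add_self2 (m : M) : m + m = 0 := by
  have h : (2 : ZMod 2) • m = 0 := by
    rw [show (2 : ZMod 2) = 0 by decide, zero_smul]
  rwa [two_smul] at h

theorem eq_of_add2 {u v : M} (h : u + v = 0) : u = v := by
  have h1 := add_self2 v
  rw [← h1] at h
  exact add_right_cancel h

/-- The hypotheses of section 9. -/
structure Nine (H : Type*) [Group H] [DistribMulAction H M] (TT : Set M)
    (F : M → Submodule (ZMod 2) (Dual (ZMod 2) M)) (q : ℕ) : Prop where
  ne : ∀ v ∈ TT, v ≠ 0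
  span : Submodule.span (ZMod 2) TT = ⊤
  kill : ∀ v ∈ TT, ∀ f ∈ F v, f v = 0
  inv : ∀ h : H, ∀ v ∈ TT, h • v ∈ TT
  cj : ∀ h : H, ∀ v ∈ TT, ∀ f ∈ F v, ∃ g ∈ F (h • v), ∀ m, g (h • m) = f m
  tr : ∀ v ∈ TT, ∀ f ∈ F v, ∃ a : H, ∀ m : M, a • m = m + f m • v
  card : ∀ v ∈ TT, Nat.card (F v) = q
  q4 : 2 < q
  core : ∀ N : Subgroup H, N.Normal → (∀ n ∈ N, n * n = 1) → N = ⊥

/-- `u` and `v` are not perpendicular. -/
def np (F : M → Submodule (ZMod 2) (Dual (ZMod 2) M)) (u v : M) : Prop := ∃ f ∈ F v, f u = 1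

namespace Nine

variable {TT : Set M} {F : M → Submodule (ZMod 2) (Dual (ZMod 2) M)} {q : ℕ}

/-- (a) -/
theorem mem_of (h : Nine H TT F q) {u v : M} (hu : u ∈ TT) (hv : v ∈ TT)
    {f g : Dual (ZMod 2) M} (hf : f ∈ F v) (hfu : f u = 0) (hg : g ∈ F u) (hgv : g v = 1) : f ∈ F u := by
  obtain ⟨a, ha⟩ := h.tr v hv f hf
  have hau : a • u = u := by rw [ha, hfu, zero_smul, add_zero]
  have hav : a • v = v := by rw [ha, h.kill v hv f hf, zero_smul, add_zero]
  obtain ⟨g', hg', hgg⟩ := h.cj a u hu g hg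
  rw [hau] at hg'
  have hg'v : g' v = 1 := by
    have := hgg v
    rwa [hav, hgv] at this
  have e : f = g - g' := by
    ext m
    have h1 := hgg m
    rw [ha, map_add, map_smul, hg'v, smul_eq_mul, mul_one] at h1
    rw [LinearMap.sub_apply, ← h1]
    ring
  rw [e]
  exact sub_mem hg hg'

theorem eq_of_le [Finite (Dual (ZMod 2) M)] (h : Nine H TT F q) {u v : M} (hu : u ∈ TT) (hv : v ∈ TT)
    (hle : F u ≤ F v) : F u = F v := by
  apply SetLike.coe_injective
  refine Set.eq_of_subset_of_ncard_le hle ?_ (Set.toFinite _)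
  have h1 : (F u : Set (Dual (ZMod 2) M)).ncard = q := h.card u hu
  have h2 : (F v : Set (Dual (ZMod 2) M)).ncard = q := h.card v hv
  rw [h1, h2]

/-- (b) -/
theorem np_symm [Finite (Dual (ZMod 2) M)] (h : Nine H TT F q) {u v : M} (hu : u ∈ TT) (hv : v ∈ TT)
    (hn : np F u v) : np F v u := by
  by_contra hcon
  have hk : ∀ g ∈ F u, g v = 0 := fun g hg => by
    by_contra h0
    exact hcon ⟨g, hg, eq_one_of_ne h0⟩
  obtain ⟨f, hf, hfu⟩ := hn
  have hle : F u ≤ F v := fun g hg => h.mem_of hv hu hg (hk g hg) hf hfu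
  have he := h.eq_of_le hu hv hle
  rw [← he] at hf
  rw [h.kill u hu f hf] at hfu
  exact zero_ne_one hfu

theorem not_np [Finite (Dual (ZMod 2) M)] (h : Nine H TT F q) {u v : M} (hu : u ∈ TT) (hv : v ∈ TT)
    (hn : ¬ np F u v) {f : Dual (ZMod 2) M} (hf : f ∈ F u) : f v = 0 := by
  by_contra h0
  exact hn (h.np_symm hv hu ⟨f, hf, eq_one_of_ne h0⟩)

theorem not_np' (_h : Nine H TT F q) {u v : M} (hn : ¬ np F u v) {f : Dual (ZMod 2) M} (hf : f ∈ F v) :
    f u = 0 := by
  by_contra h0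
  exact hn ⟨f, hf, eq_one_of_ne h0⟩

/-- the common kernel of all `F w` -/
def rad (TT : Set M) (F : M → Submodule (ZMod 2) (Dual (ZMod 2) M)) : Submodule (ZMod 2) M where
  carrier := {m | ∀ w ∈ TT, ∀ g ∈ F w, g m = 0}
  zero_mem' := fun w _ g _ => map_zero g
  add_mem' := fun {a b} ha hb w hw g hg => by rw [map_add, ha w hw g hg, hb w hw g hg, add_zero]
  smul_mem' := fun c m hm w hw g hg => by rw [map_smul, hm w hw g hg, smul_zero]

theorem rad_inv (h : Nine H TT F q) (x : H) {m : M} (hm : m ∈ rad TT F) : x • m ∈ rad TT F := by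
  intro w hw g hg
  obtain ⟨g', hg', he⟩ := h.cj x⁻¹ w hw g hg
  have h1 := he (x • m)
  rw [inv_smul_smul] at h1
  rw [← h1]
  exact hm _ (h.inv x⁻¹ w hw) g' hg'

theorem exists_one (h : Nine H TT F q) {f : Dual (ZMod 2) M} (hf : f ≠ 0) : ∃ m ∈ TT, f m = 1 := by
  by_contra hcon
  push Not at hcon
  apply hf
  have h1 : ∀ m ∈ TT, f m = 0 := fun m hm => by
    rcases two_cases (f m) with h0 | h0
    · exact h0
    · exact absurd h0 (hcon m hm)
  have h2 : (⊤ : Submodule (ZMod 2) M) ≤ LinearMap.ker f := by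
    rw [← h.span, Submodule.span_le]
    exact fun m hm => h1 m hm
  exact LinearMap.ext fun m => h2 (Submodule.mem_top)

theorem exists_ne (h : Nine H TT F q) {v : M} (hv : v ∈ TT) : ∃ f ∈ F v, f ≠ 0 := by
  by_contra hcon
  push Not at hcon
  have h1 : F v = ⊥ := by
    rw [eq_bot_iff]
    exact fun f hf => hcon f hf
  have h2 := h.card v hv
  rw [h1] at h2
  simp at h2
  have := h.q4
  omega

/-- (c) -/
theorem inj [Finite (Dual (ZMod 2) M)] [FaithfulSMul H M] (h : Nine H TT F q) {u v : M} (hu : u ∈ TT)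
    (hv : v ∈ TT) (he : F u = F v) : u = v := by
  -- `u + v` is in the radical
  have hc : u + v ∈ rad TT F := by
    intro w hw g hg
    by_cases hn : np F w u
    · obtain ⟨f, hf, hfw⟩ := hn
      have hf' : f ∈ F v := he ▸ hf
      have h1 : g u = 0 → g v = 0 := fun h0 => h.kill v hv g (he ▸ h.mem_of hu hw hg h0 hf hfw)
      have h2 : g v = 0 → g u = 0 := fun h0 => h.kill u hu g (he ▸ h.mem_of hv hw hg h0 hf' hfw)
      rw [map_add]
      rcases two_cases (g u) with h3 | h3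
      · rw [h3, h1 h3, add_zero]
      · have h4 : g v = 1 := by
          rcases two_cases (g v) with h4 | h4
          · rw [h2 h4] at h3; exact absurd h3 zero_ne_one
          · exact h4
        rw [h3, h4]; decide
    · have h1 : g u = 0 := h.not_np hw hu hn hg
      have h2 : ¬ np F w v := by
        rintro ⟨f, hf, hfw⟩
        exact hn ⟨f, he ▸ hf, hfw⟩
      rw [map_add, h1, h.not_np hw hv h2 hg, add_zero]
  -- the normal 2-subgroup
  let N : Subgroup H :=
    { carrier := {x | (∀ m, x • m - m ∈ rad TT F) ∧ ∀ m ∈ rad TT F, x • m = m}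
      one_mem' := ⟨fun m => by rw [one_smul, sub_self]; exact zero_mem _, fun m _ => one_smul H m⟩
      mul_mem' := by
        rintro a b ⟨ha, ha'⟩ ⟨hb, hb'⟩
        refine ⟨fun m => ?_, fun m hm => by rw [mul_smul, hb' m hm, ha' m hm]⟩
        rw [mul_smul]
        have e : a • b • m - m = (a • (b • m) - b • m) + (b • m - m) := by abel
        rw [e]
        exact add_mem (ha _) (hb m)
      inv_mem' := by
        rintro a ⟨ha, ha'⟩
        refine ⟨fun m => ?_, fun m hm => by rw [inv_smul_eq_iff, ha' m hm]⟩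
        have h1 := ha (a⁻¹ • m)
        rw [smul_inv_smul] at h1
        have e : a⁻¹ • m - m = -(m - a⁻¹ • m) := by abel
        rw [e]
        exact neg_mem h1 }
  have hN : N.Normal := by
    refine ⟨?_⟩
    rintro n ⟨hn, hn'⟩ x
    refine ⟨fun m => ?_, fun m hm => ?_⟩
    · have h1 := h.rad_inv x (hn (x⁻¹ • m))
      rw [smul_sub, smul_inv_smul] at h1
      rwa [mul_smul, mul_smul]
    · rw [mul_smul, mul_smul, hn' _ (h.rad_inv x⁻¹ hm), smul_inv_smul]
  have hN2 : ∀ n ∈ N, n * n = 1 := by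
    rintro n ⟨hn, hn'⟩
    refine FaithfulSMul.eq_of_smul_eq_smul (α := M) fun m => ?_
    rw [one_smul, mul_smul]
    have h1 := hn m
    have e : n • m = (n • m - m) + m := by abel
    rw [e, smul_add, hn' _ h1]
    have e2 : n • m - m + n • m = (n • m + n • m) - m := by abel
    rw [e2, add_self2, zero_sub]
    exact neg_eq_of_add_eq_zero_left (add_self2 m)
  have hbot := h.core N hN hN2
  obtain ⟨f, hf, hf0⟩ := h.exists_ne hu
  obtain ⟨a, ha⟩ := h.tr v hv f (he ▸ hf)
  obtain ⟨b, hb⟩ := h.tr u hu f hf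
  have hab : ∀ m, (a * b) • m = m + f m • (u + v) := by
    intro m
    rw [mul_smul, hb, ha, map_add, map_smul, h.kill u hu f hf, smul_zero, add_zero, smul_add, add_assoc]
  have hmem : a * b ∈ N := by
    refine ⟨fun m => ?_, fun m hm => ?_⟩
    · rw [hab, add_sub_cancel_left]
      exact Submodule.smul_mem _ _ hc
    · rw [hab, hm u hu f hf, zero_smul, add_zero]
  rw [hbot, Subgroup.mem_bot] at hmem
  obtain ⟨m, -, hm⟩ := h.exists_one hf0
  have h1 := hab m
  rw [hmem, one_smul, hm, one_smul] at h1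
  exact eq_of_add2 (left_eq_add.1 h1)

/-- (d) -/
theorem np_trans [Finite (Dual (ZMod 2) M)] [FaithfulSMul H M] (h : Nine H TT F q) {u v w : M} (hu : u ∈ TT)
    (hv : v ∈ TT) (hw : w ∈ TT) (h1 : np F u w) (h2 : np F w v) (hne : u ≠ v) : np F u v := by
  by_contra hcon
  have hcon' : ¬ np F v u := fun hn => hcon (h.np_symm hv hu hn)
  -- a nonzero `f ∈ F w` killing `u`
  obtain ⟨f, hf, hf0, hfu⟩ : ∃ f ∈ F w, f ≠ 0 ∧ f u = 0 := by
    by_contra hc
    push Not at hc
    have hinj : Function.Injective fun f : F w => (f : Dual (ZMod 2) M) u := by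
      intro f g hfg
      by_contra hne'
      refine hc (f - g) (sub_mem f.2 g.2) (fun h0 => hne' (Subtype.ext (sub_eq_zero.1 h0))) ?_
      rw [LinearMap.sub_apply]
      exact sub_eq_zero.2 hfg
    have h3 := Nat.card_le_card_of_injective _ hinj
    rw [h.card w hw, Nat.card_zmod] at h3
    have := h.q4
    omega
  obtain ⟨g, hg, hgw⟩ := h.np_symm hu hw h1
  have hfFu : f ∈ F u := h.mem_of hu hw hf hfu hg hgw
  have hfv : f v = 0 := h.not_np' hcon' hfFu
  obtain ⟨g', hg', hg'w⟩ := h2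
  have hfFv : f ∈ F v := h.mem_of hv hw hf hfv hg' hg'w
  obtain ⟨m, hm, hfm⟩ := h.exists_one hf0
  obtain ⟨e, he, heu⟩ := h.np_symm hm hu ⟨f, hfFu, hfm⟩
  have key : ∀ g ∈ F u, g m = 0 → g ∈ F v := by
    intro g hg hgm
    have h3 : g ∈ F m := h.mem_of hm hu hg hgm he heu
    exact h.mem_of hv hm h3 (h.not_np' hcon' hg) hfFv hfm
  have hle : F u ≤ F v := by
    intro g hg
    rcases two_cases (g m) with h0 | h0
    · exact key g hg h0
    · have h3 : g - f ∈ F v := key _ (sub_mem hg hfFu) (by rw [LinearMap.sub_apply, h0, hfm, sub_self])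
      have := add_mem h3 hfFv
      rwa [sub_add_cancel] at this
  exact hne (h.inj hu hv (h.eq_of_le hu hv hle))

/-- `{0}` and the class of `v₀` -/
def comp [Finite (Dual (ZMod 2) M)] [FaithfulSMul H M] (h : Nine H TT F q) {v₀ : M} (hv₀ : v₀ ∈ TT) :
    Submodule (ZMod 2) M where
  carrier := {m | m = 0 ∨ m ∈ TT ∧ (m = v₀ ∨ np F m v₀)}
  zero_mem' := Or.inl rfl
  smul_mem' := by
    intro c m hm
    rcases two_cases c with rfl | rfl
    · rw [zero_smul]; exact Or.inl rfl
    · rw [one_smul]; exact hm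
  add_mem' := by
    rintro a b (rfl | ⟨ha, ha'⟩) (rfl | ⟨hb, hb'⟩)
    · exact Or.inl (add_zero 0)
    · rw [zero_add]; exact Or.inr ⟨hb, hb'⟩
    · rw [add_zero]; exact Or.inr ⟨ha, ha'⟩
    · by_cases hab : a = b
      · subst hab; exact Or.inl (add_self2 a)
      have hn : np F a b := by
        rcases ha' with rfl | ha'
        · rcases hb' with rfl | hb'
          · exact absurd rfl hab
          · exact h.np_symm hb ha hb'
        · rcases hb' with rfl | hb'
          · exact ha'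
          · exact h.np_trans ha hb hv₀ ha' (h.np_symm hb hv₀ hb') hab
      obtain ⟨f, hf, hfa⟩ := hn
      obtain ⟨x, hx⟩ := h.tr b hb f hf
      have hxa : x • a = a + b := by rw [hx, hfa, one_smul]
      have habT : a + b ∈ TT := hxa ▸ h.inv x a ha
      refine Or.inr ⟨habT, ?_⟩
      obtain ⟨g, hg, hgb⟩ := h.np_symm ha hb ⟨f, hf, hfa⟩
      have hn' : np F (a + b) a := ⟨g, hg, by rw [map_add, h.kill a ha g hg, zero_add, hgb]⟩
      by_cases hab0 : a + b = v₀
      · exact Or.inl hab0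
      · right
        rcases ha' with rfl | ha'
        · exact hn'
        · exact h.np_trans habT hv₀ ha hn' ha' hab0

theorem mem_comp [Finite (Dual (ZMod 2) M)] [FaithfulSMul H M] (h : Nine H TT F q) {v₀ : M} (hv₀ : v₀ ∈ TT)
    {m : M} : m ∈ h.comp hv₀ ↔ m = 0 ∨ m ∈ TT ∧ (m = v₀ ∨ np F m v₀) := Iff.rfl

theorem self_mem_comp [Finite (Dual (ZMod 2) M)] [FaithfulSMul H M] (h : Nine H TT F q) {v₀ : M}
    (hv₀ : v₀ ∈ TT) : v₀ ∈ h.comp hv₀ := Or.inr ⟨hv₀, Or.inl rfl⟩

/-- neighbours of elements of the component are in the component -/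
theorem mem_comp_of_np [Finite (Dual (ZMod 2) M)] [FaithfulSMul H M] (h : Nine H TT F q) {v₀ : M}
    (hv₀ : v₀ ∈ TT) {v m : M} (hv : v ∈ h.comp hv₀) (hv0 : v ≠ 0) (hm : m ∈ TT) (hn : np F m v) :
    m ∈ h.comp hv₀ := by
  rcases hv with rfl | ⟨hv, rfl | hv'⟩
  · exact absurd rfl hv0
  · exact Or.inr ⟨hm, Or.inr hn⟩
  · by_cases hmv : m = v₀
    · exact Or.inr ⟨hm, Or.inl hmv⟩
    · exact Or.inr ⟨hm, Or.inr (h.np_trans hm hv₀ hv hn hv' hmv)⟩

/-- different elements of the component are not perpendicular -/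
theorem np_of_comp [Finite (Dual (ZMod 2) M)] [FaithfulSMul H M] (h : Nine H TT F q) {v₀ : M}
    (hv₀ : v₀ ∈ TT) {v m : M} (hv : v ∈ h.comp hv₀) (hv0 : v ≠ 0) (hm : m ∈ h.comp hv₀) (hm0 : m ≠ 0)
    (hne : m ≠ v) : np F m v := by
  rcases hm with rfl | ⟨hm, hm'⟩
  · exact absurd rfl hm0
  rcases hv with rfl | ⟨hv, hv'⟩
  · exact absurd rfl hv0
  rcases hm' with rfl | hm'
  · rcases hv' with rfl | hv'
    · exact absurd rfl hne
    · exact h.np_symm hv hv₀ hv'
  · rcases hv' with rfl | hv'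
    · exact hm'
    · exact h.np_trans hm hv hv₀ hm' (h.np_symm hv hv₀ hv') hne

/-- **All transvections of the component are induced.** -/
theorem exists_fun [Finite M] [Finite (Dual (ZMod 2) M)] [FaithfulSMul H M] (h : Nine H TT F q) {v₀ : M}
    (hv₀ : v₀ ∈ TT) {v : M} (hv : v ∈ h.comp hv₀) (hv0 : v ≠ 0) (φ : Dual (ZMod 2) (h.comp hv₀))
    (hφ : φ ⟨v, hv⟩ = 0) : ∃ f ∈ F v, ∀ m : h.comp hv₀, f m = φ m := by
  have hvT : v ∈ TT := by
    rcases hv with rfl | ⟨hv, -⟩
    · exact absurd rfl hv0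
    · exact hv
  let res : Dual (ZMod 2) M →ₗ[ZMod 2] Dual (ZMod 2) (h.comp hv₀) :=
    { toFun := fun f => f.comp (h.comp hv₀).subtype
      map_add' := fun f g => rfl
      map_smul' := fun c f => rfl }
  let W : Submodule (ZMod 2) (Dual (ZMod 2) (h.comp hv₀)) := (F v).map res
  have h1 : W.dualCoannihilator ≤ Submodule.span (ZMod 2) {(⟨v, hv⟩ : h.comp hv₀)} := by
    intro m hm
    rw [Submodule.mem_dualCoannihilator] at hm
    by_cases hm0 : m = 0
    · rw [hm0]; exact zero_mem _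
    by_cases hmv : m = ⟨v, hv⟩
    · rw [hmv]; exact Submodule.mem_span_singleton_self _
    exfalso
    obtain ⟨f, hf, hfm⟩ := h.np_of_comp hv₀ hv hv0 m.2 (fun e => hm0 (Subtype.ext e))
      (fun e => hmv (Subtype.ext e))
    have h2 := hm (res f) ⟨f, hf, rfl⟩
    have h3 : res f m = f m := rfl
    rw [h3, hfm] at h2
    exact one_ne_zero h2
  have h2 : φ ∈ W := by
    have h3 : φ ∈ W.dualCoannihilator.dualAnnihilator := by
      rw [Submodule.mem_dualAnnihilator]
      intro m hm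
      obtain ⟨c, rfl⟩ := Submodule.mem_span_singleton.1 (h1 hm)
      rw [map_smul, hφ, smul_zero]
    rwa [Subspace.dualCoannihilator_dualAnnihilator_eq] at h3
  obtain ⟨f, hf, rfl⟩ := h2
  exact ⟨f, hf, fun m => rfl⟩

/-- **All transvections of the component are induced.** -/
theorem exists_tr [Finite M] [Finite (Dual (ZMod 2) M)] [FaithfulSMul H M] (h : Nine H TT F q) {v₀ : M}
    (hv₀ : v₀ ∈ TT) {v : M} (hv : v ∈ h.comp hv₀) (hv0 : v ≠ 0) (φ : Dual (ZMod 2) (h.comp hv₀))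
    (hφ : φ ⟨v, hv⟩ = 0) : ∃ f ∈ F v, ∃ a : H, (∀ m : M, a • m = m + f m • v) ∧
      ∀ m : h.comp hv₀, a • (m : M) = m + φ m • v := by
  obtain ⟨f, hf, hfm⟩ := h.exists_fun hv₀ hv hv0 φ hφ
  have hvT : v ∈ TT := by
    rcases hv with rfl | ⟨hv, -⟩
    · exact absurd rfl hv0
    · exact hv
  obtain ⟨a, ha⟩ := h.tr v hvT f hf
  exact ⟨f, hf, a, ha, fun m => by rw [ha, hfm]⟩

/-- an element of `F v` is determined by its restriction to the component -/
theorem res_inj [Finite (Dual (ZMod 2) M)] [FaithfulSMul H M] (h : Nine H TT F q) {v₀ : M}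
    (hv₀ : v₀ ∈ TT) {v : M} (hv : v ∈ h.comp hv₀) (hv0 : v ≠ 0) {f g : Dual (ZMod 2) M} (hf : f ∈ F v)
    (hg : g ∈ F v) (hfg : ∀ m : h.comp hv₀, f m = g m) : f = g := by
  by_contra hne
  obtain ⟨m, hm, hm1⟩ := h.exists_one (sub_ne_zero.2 hne)
  have h1 : m ∈ h.comp hv₀ := h.mem_comp_of_np hv₀ hv hv0 hm ⟨f - g, sub_mem hf hg, hm1⟩
  have h2 := hfg ⟨m, h1⟩
  rw [LinearMap.sub_apply, h2, sub_self] at hm1
  exact zero_ne_one hm1

end Nine

end Cfsg.Agent.Omega.NO3S.TV
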