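import Cfsg.Agent.Omega.NO3S.TV.Comp

/-!
# NO-3a.4, transvection types (helper311's text #16747): the connected subfamily (section 3)

* `cmp TT B v` : the component of `v` in the graph 'not perpendicular' on `TT`;
* `stc R B v` : the stabiliser of the component; `cfc R B y` : the subfamily with `C' = R.pre (stc R B (R.pi y))` at `z`;
* `Tvf.sub` : `Tvf T V z (cfc R B y)`; `Tvf.sub_pts`, `Tvf.sub_ww`, `Tvf.sub_form`; `Tvf.sub_conn` : it is connected;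
* `Tvf.exists_conn` : summary.
-/

set_option autoImplicit false
set_option linter.unusedSectionVars false

namespace Cfsg.Agent.Omega.NO3S.TV

open Subgroup Cfsg Cfsg.Agent.ZN Cfsg.Agent.MinSimple.Geo Cfsg.Agent.Omega.CaseL Cfsg.Agent.Omega.NO3S.Fit
open Cfsg.Agent.ZN.Block (conj_mem_of_normalizer conj_mem_of_normalizer' le_normalizer_of_forall
  mem_normalizer_of)

universe u

/-! ### components -/

section cmp

variable {M : Type*} [AddCommGroup M] {X : Set M} {B : M → M → ZMod 2}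

/-- the component of `v` -/
def cmp (X : Set M) (B : M → M → ZMod 2) (v : M) : Set M :=
  {u | ∀ S : Set M, v ∈ S → (∀ a ∈ S, ∀ b ∈ X, B a b = 1 → b ∈ S) → u ∈ S}

theorem self_mem_cmp (v : M) : v ∈ cmp X B v := fun _ h _ => h

theorem cmp_step {v a b : M} (ha : a ∈ cmp X B v) (hb : b ∈ X) (h : B a b = 1) : b ∈ cmp X B v :=
  fun S h1 h2 => h2 a (ha S h1 h2) b hb h

theorem cmp_sub {v : M} (hv : v ∈ X) : cmp X B v ⊆ X := fun _ hu => hu X hv fun _ _ _ hb _ => hb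

theorem cmp_trans {v u w : M} (hu : u ∈ cmp X B v) (hw : w ∈ cmp X B u) : w ∈ cmp X B v :=
  hw _ hu fun _ ha _ hb h => cmp_step ha hb h

theorem cmp_symm (hs : ∀ a b, B a b = B b a) {v u : M} (hv : v ∈ X) (hu : u ∈ cmp X B v) : v ∈ cmp X B u := by
  have := hu {w | w ∈ X ∧ v ∈ cmp X B w} ⟨hv, self_mem_cmp v⟩ fun a ha b hb h =>
    ⟨hb, cmp_trans (cmp_step (self_mem_cmp b) ha.1 (by rw [hs]; exact h)) ha.2⟩
  exact this.2

theorem cmp_smul {H : Type*} [Group H] [DistribMulAction H M] (A : Act X B H) (x : H) {v u : M}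
    (hu : u ∈ cmp X B v) : x • u ∈ cmp X B (x • v) := by
  refine hu {w | x • w ∈ cmp X B (x • v)} (self_mem_cmp _) fun a ha b hb h => ?_
  exact cmp_step ha (A.smul_mem x b hb) (by rw [A.form]; exact h)

end cmp

variable {G : Type u} [Group G] {T V : Subgroup G} {z : G} {cf : G → Subgroup G}
variable {M H : Type u} [AddCommGroup M] [Group H] [DistribMulAction H M]

/-- the stabiliser of the component of `v` -/
def stc (X : Set M) (B : M → M → ZMod 2) (v : M) (hv : v ∈ X) (hs : ∀ a b, B a b = B b a) (A : Act X B H) :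
    Subgroup H where
  carrier := {x | x • v ∈ cmp X B v}
  one_mem' := by
    change (1 : H) • v ∈ cmp X B v
    rw [one_smul]; exact self_mem_cmp v
  mul_mem' := by
    intro a b ha hb
    change (a * b) • v ∈ cmp X B v
    rw [mul_smul]
    exact cmp_trans ha (cmp_smul A a hb)
  inv_mem' := by
    intro a ha
    change a⁻¹ • v ∈ cmp X B v
    have h1 := cmp_smul A a⁻¹ (cmp_symm hs hv ha)
    rw [inv_smul_smul] at h1
    exact h1

namespace Tvf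

variable (h : Tvf T V z cf) [Finite G] (R : MRep V cf z M H) {B : M → M → ZMod 2} (hB : IsB R B)

/-- the stabiliser of the component of `y` -/
def st {y : G} (hy : y ∈ V) (hy1 : y ≠ 1) (hyz : y ≠ z) : Subgroup H :=
  stc (TT R) B (R.pi y) (pi_mem_TT R (mem_pts hy hy1 hyz)) (h.sys R hB).symm (h.act R hB)

/-- the subfamily of the component of `y` -/
def cfc {y : G} (hy : y ∈ V) (hy1 : y ≠ 1) (hyz : y ≠ z) : G → Subgroup G :=
  subf V z (R.pre (h.st R hB hy hy1 hyz))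

variable {y : G} (hy : y ∈ V) (hy1 : y ≠ 1) (hyz : y ≠ z)

theorem mem_st {x : H} : x ∈ h.st R hB hy hy1 hyz ↔ x • R.pi y ∈ cmp (TT R) B (R.pi y) := Iff.rfl

theorem le_pre_st : normalizer (V : Set G) ⊓ centralizer ({z} : Set G) ≤ R.pre (h.st R hB hy hy1 hyz) := by
  refine R.le_pre h.toFam hy hy1 hyz fun x hx => ?_
  rw [h.mem_st, hx]
  exact self_mem_cmp _

theorem cfc_z : h.cfc R hB hy hy1 hyz z = R.pre (h.st R hB hy hy1 hyz) := subf_z (h.le_pre_st R hB hy hy1 hyz)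

theorem sub_ww {w : G} : w ∈ ww V (h.cfc R hB hy hy1 hyz) z ↔
    w ∈ ww V cf z ∧ R.pi w ∈ AddSubgroup.closure (cmp (TT R) B (R.pi y)) := by
  have e : (Set.range fun x : h.st R hB hy hy1 hyz => (x : H) • R.pi y) = cmp (TT R) B (R.pi y) := by
    ext m
    constructor
    · rintro ⟨x, rfl⟩; exact x.2
    · intro hm
      have hv := pi_mem_TT R (mem_pts (cf := cf) hy hy1 hyz)
      obtain ⟨x, rfl⟩ := h.TT_trans R hv (cmp_sub hv hm)
      exact ⟨⟨x, hm⟩, rfl⟩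
  rw [ww, h.cfc_z, R.mem_wf_pre h.toFam hy hy1 hyz, e]

theorem sub_fam : Fam T V z (h.cfc R hB hy hy1 hyz) := by
  have S := h.sys R hB
  have hv := pi_mem_TT R (mem_pts (cf := cf) hy hy1 hyz)
  obtain ⟨_, ⟨t, ht, rfl⟩, ht1⟩ := S.exists_nd hv
  obtain ⟨w, hw, hwz⟩ := h.exists_not_qq hy hy1 h.z_mem h.z_ne (Ne.symm hyz)
  have htW : t ∈ ww V (h.cfc R hB hy hy1 hyz) z := (h.sub_ww R hB hy hy1 hyz).mpr
    ⟨h.pt_mem ht, AddSubgroup.subset_closure (cmp_step (self_mem_cmp _) (pi_mem_TT R ht) ht1)⟩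
  rw [ww, h.cfc_z] at htW
  have hty : B (R.pi t) (R.pi y) = 1 := by rw [S.symm]; exact ht1
  have htQ : t ∉ qq V cf y := by
    intro h1
    have := (h.form_qq R hy hy1 hyz (hB y hy hy1 hyz w hw hwz) (h.pt_mem ht)).mpr h1
    rw [hty] at this
    exact one_ne_zero this
  have hc := h.cm_eq h.z_mem h.z_ne hy hy1 hyz (h.pt_mem ht) htQ hw hwz
  refine h.toFam.sub_of h.one (h.le_pre_st R hB hy hy1 hyz) (R.pre_le _) hy hy1 hyz ⟨t, htW, htQ⟩ ⟨t, htW, w, hw, ?_, ?_⟩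
  · rw [hc]; exact h.mul_ne_one hy (Ne.symm hyz)
  · rw [hc]; exact fun e => hy1 (by simpa using e)

theorem cfc_le {p : G} (hp : p ∈ V) (hp1 : p ≠ 1) : h.cfc R hB hy hy1 hyz p ≤ cf p := by
  obtain ⟨g, hg, rfl⟩ := h.ln.trans p hp hp1
  rw [cfc, subf_eq (h.le_pre_st R hB hy hy1 hyz) hg, ← h.cj_cf g hg z h.z_mem h.z_ne]
  exact cj_mono (R.pre_le _)

theorem sub_ww_le {p : G} (hp : p ∈ V) (hp1 : p ≠ 1) : ww V (h.cfc R hB hy hy1 hyz) p ≤ ww V cf p :=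
  wf_mono (h.cfc_le R hB hy hy1 hyz hp hp1)

theorem sub_qq {p c : G} (hp : p ∈ V) (hp1 : p ≠ 1) (hc : c ∈ h.cfc R hB hy hy1 hyz p) (hq : c ∈ qq V cf p) :
    c ∈ qq V (h.cfc R hB hy hy1 hyz) p :=
  ⟨hc, hq.2.1, fun w hw => hq.2.2 w (h.sub_ww_le R hB hy hy1 hyz hp hp1 hw)⟩

/-- **the connected subfamily** is again a transvection family -/
theorem sub : Tvf T V z (h.cfc R hB hy hy1 hyz) where
  toFam := h.sub_fam R hB hy hy1 hyz
  one := by
    intro p hp hp1 q hq hq1 hqp w hw w' hw' hwq hwq'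
    have F := h.sub_fam R hB hy hy1 hyz
    have hwc := F.ww_le_cf' hp hp1 hq hq1 hw
    have hwc' := F.ww_le_cf' hp hp1 hq hq1 hw'
    refine h.sub_qq R hB hy hy1 hyz hq hq1 (mul_mem hwc hwc') ?_
    exact h.one p hp hp1 q hq hq1 hqp w (h.sub_ww_le R hB hy hy1 hyz hp hp1 hw) w'
      (h.sub_ww_le R hB hy hy1 hyz hp hp1 hw') (fun h1 => hwq (h.sub_qq R hB hy hy1 hyz hq hq1 hwc h1))
      (fun h1 => hwq' (h.sub_qq R hB hy hy1 hyz hq hq1 hwc' h1))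
  comm' := fun p hp hp1 q hq hq1 hqp a ha b hb => h.comm' p hp hp1 q hq hq1 hqp a
    (h.sub_ww_le R hB hy hy1 hyz hp hp1 ha) b (h.sub_ww_le R hB hy hy1 hyz hq hq1 hb)

theorem sub_pts {t : G} : t ∈ pts V (h.cfc R hB hy hy1 hyz) z ↔
    t ∈ pts V cf z ∧ R.pi t ∈ cmp (TT R) B (R.pi y) := by
  obtain ⟨w, hw, hwz⟩ := h.exists_not_qq hy hy1 h.z_mem h.z_ne (Ne.symm hyz)
  have key : ∀ y' ∈ V, y' ≠ 1 → y' ≠ z → R.pi y' = R.pi y := by
    intro y' hy' hy1' hyz'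
    obtain ⟨w', hw', hwz'⟩ := h.exists_not_qq hy' hy1' h.z_mem h.z_ne (Ne.symm hyz')
    exact (h.pi_phi_eq R hy hy1 hyz hw hwz hy' hy1' hyz' hw' hwz').1
  constructor
  · rintro ⟨y', hy', hy1', hyz', c, hc, rfl⟩
    rw [h.cfc_z] at hc
    obtain ⟨hc1, hc2⟩ := R.mem_pre.mp hc
    refine ⟨mem_pts_conj hy' hy1' hyz' hc1, ?_⟩
    rw [← R.act c hc1 y' (h.V_le hy'), key y' hy' hy1' hyz']
    exact hc2
  · rintro ⟨⟨y', hy', hy1', hyz', c, hc, rfl⟩, ht⟩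
    refine mem_pts_conj hy' hy1' hyz' ?_
    rw [h.cfc_z, R.mem_pre]
    refine ⟨hc, ?_⟩
    rw [← R.act c hc y' (h.V_le hy'), key y' hy' hy1' hyz'] at ht
    exact ht

theorem sub_wt_le {t : G} (ht : t ∈ pts V (h.cfc R hB hy hy1 hyz) z) :
    wt V (h.cfc R hB hy hy1 hyz) z t ≤ wt V cf z t := by
  have F := h.sub R hB hy hy1 hyz
  obtain ⟨y', hy', hy1', hyz', c, hc, e1, e2⟩ := F.wt_ex ht
  have hc' : c ∈ cf z := h.cfc_le R hB hy hy1 hyz h.z_mem h.z_ne hc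
  rw [e2, e1, wt_conj h.toFam hy' hy1' hyz' hc']
  exact cj_mono (h.sub_ww_le R hB hy hy1 hyz hy' hy1')

section form

variable {M' H' : Type u} [AddCommGroup M'] [Group H'] [DistribMulAction H' M']
  (R' : MRep V (h.cfc R hB hy hy1 hyz) z M' H') {B' : M' → M' → ZMod 2} (hB' : IsB R' B')
include hB'

/-- the form of the subfamily is the restriction -/
theorem sub_form_pt {a t : G} (ha : a ∈ ww V (h.cfc R hB hy hy1 hyz) z) (ht : t ∈ pts V (h.cfc R hB hy hy1 hyz) z) :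
    B' (R'.pi a) (R'.pi t) = B (R.pi a) (R.pi t) := by
  have F := h.sub R hB hy hy1 hyz
  have ht' := ((h.sub_pts R hB hy hy1 hyz).mp ht).1
  have ha' := h.sub_ww_le R hB hy hy1 hyz h.z_mem h.z_ne ha
  rcases z2 (B (R.pi a) (R.pi t)) with e | e
  · rw [e, F.form_pt R' hB' ht ha]
    exact fun b hb => (h.form_pt R hB ht' ha').mp e b (h.sub_wt_le R hB hy hy1 hyz ht hb)
  · rw [e]
    refine z2_ne fun e1 => ?_
    obtain ⟨b, hb, hbz⟩ := F.exists_wt ht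
    have hbz' : b ∉ qq V cf z := fun h1 =>
      hbz (h.sub_qq R hB hy hy1 hyz h.z_mem h.z_ne (F.wt_le_cf ht hb) h1)
    exact h.not_comm R hB ht' ha' (h.sub_wt_le R hB hy hy1 hyz ht hb) hbz' e ((F.form_pt R' hB' ht ha).mp e1 b hb)

/-- the subfamily is connected -/
theorem sub_conn : Conn (TT R') B' := by
  have F := h.sub R hB hy hy1 hyz
  have S := h.sys R hB
  intro D hD ⟨_, hd⟩ hcl
  obtain ⟨t0, ht0, e0⟩ := hD hd
  subst e0
  have hv := pi_mem_TT R (mem_pts (cf := cf) hy hy1 hyz)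
  obtain ⟨ht0', ht0c⟩ := (h.sub_pts R hB hy hy1 hyz).mp ht0
  have hsub : cmp (TT R) B (R.pi t0) ⊆
      {m | ∃ t ∈ pts V (h.cfc R hB hy hy1 hyz) z, R.pi t = m ∧ R'.pi t ∈ D} := by
    intro u hu
    refine hu {m | ∃ t ∈ pts V (h.cfc R hB hy hy1 hyz) z, R.pi t = m ∧ R'.pi t ∈ D} ⟨t0, ht0, rfl, hd⟩ ?_
    rintro _ ⟨t, ht, rfl, htD⟩ _ ⟨s, hs, rfl⟩ hts
    have hsc : s ∈ pts V (h.cfc R hB hy hy1 hyz) z := (h.sub_pts R hB hy hy1 hyz).mpr
      ⟨hs, cmp_step ((h.sub_pts R hB hy hy1 hyz).mp ht).2 (pi_mem_TT R hs) hts⟩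
    refine ⟨s, hsc, rfl, hcl _ htD _ (pi_mem_TT R' hsc) ?_⟩
    rw [h.sub_form_pt R hB hy hy1 hyz R' hB' (F.pt_mem ht) hsc]
    exact hts
  rintro _ ⟨t, ht, rfl⟩
  obtain ⟨ht', htc⟩ := (h.sub_pts R hB hy hy1 hyz).mp ht
  obtain ⟨s, hs, e, hsD⟩ := hsub (cmp_trans (cmp_symm S.symm hv ht0c) htc)
  have : R'.pi t = R'.pi s := by
    rw [R'.pi_eq F.toFam (F.pt_mem ht) (F.pt_mem hs)]
    rcases (R.pi_eq h.toFam (h.pt_mem ht') (h.pt_mem ((h.sub_pts R hB hy hy1 hyz).mp hs).1)).mp e.symm with e1 | e1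
    · exact Or.inl e1
    · exact Or.inr e1
  rw [this]
  exact hsD

end form

include h in
/-- **the connected subfamily**, summary -/
theorem exists_conn : ∃ cf' : G → Subgroup G, (∀ p ∈ V, p ≠ 1 → cf' p ≤ cf p) ∧ Tvf T V z cf' ∧
    ∀ (M H : Type u) [AddCommGroup M] [Group H] [DistribMulAction H M] (R : MRep V cf' z M H)
      (B : M → M → ZMod 2), IsB R B → Conn (TT R) B := by
  obtain ⟨y, hy, hy1, hyz⟩ := h.ln.exists_y
  obtain ⟨M, H, _, _, _, _, _, _, ⟨R⟩⟩ := h.exists_mrep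
  obtain ⟨B, hB⟩ := h.exists_isB R
  exact ⟨h.cfc R hB hy hy1 hyz, fun p hp hp1 => h.cfc_le R hB hy hy1 hyz hp hp1, h.sub R hB hy hy1 hyz,
    fun M' H' _ _ _ R' B' hB' => h.sub_conn R hB hy hy1 hyz R' hB'⟩

end Tvf

/-- `jj` is monotone -/
theorem jj_mono {cf' : G → Subgroup G} (hle : ∀ p ∈ V, p ≠ 1 → cf' p ≤ cf p) : jj V cf' ≤ jj V cf :=
  fun _ hu p hp hp1 => wf_mono (hle p hp hp1) (hu p hp hp1)

end Cfsg.Agent.Omega.NO3S.TV
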