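import Cfsg.Agent.Omega.NO3S.TV.HAct

/-!
# NO-3S, `q = 2`, `n = 1`, transvection types (helper311's text #16747): the module part of (3.4), (3.5)

`Sys TT B` on the finite module `M` of `H`; `HS` : `H` preserves `TT` and `B` and contains the transvections with centres
in `TT`.

* `Sys.triv` : **(3.4)** a 2-subgroup `O` of `Stab(v)` normalized by `Stab(v)` is trivial on `v^⊥ / (⟨v⟩ + Rad)`;
* `Sys.odd_eq_one` : **(3.5)** an element of odd order of `Stab(v)` which is trivial on `v^⊥ / (⟨v⟩ + Rad)` is `1`.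
-/

set_option autoImplicit false

namespace Cfsg.Agent.Omega.NO3S.TV

variable {M : Type*} [AddCommGroup M]

section fixed

variable {P : Type*} [Group P] [DistribMulAction P M]

/-- a 2-group fixes a nonzero vector of `L/K` -/
theorem exists_fixed_mod [Finite M] (hP : IsPGroup 2 P) (two : ∀ m : M, m + m = 0) {K L : AddSubgroup M}
    (hK : ∀ (g : P), ∀ m ∈ K, g • m ∈ K) (hL : ∀ (g : P), ∀ m ∈ L, g • m ∈ L) (hne : ∃ m ∈ L, m ∉ K) :
    ∃ m ∈ L, m ∉ K ∧ ∀ g : P, g • m + m ∈ K := by
  classical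
  have hneg : ∀ m : M, -m = m := fun m => neg_eq_of_add_eq_zero_left (two m)
  -- `P` acts on the cosets
  let X : Type _ := {m : M // m ∈ L}
  let s : Setoid X := ⟨fun a b => (a : M) + b ∈ K, ⟨fun a => by rw [two]; exact zero_mem _,
    fun {a b} h => by rw [add_comm]; exact h, fun {a b c} h1 h2 => by
      have : (a : M) + c = (a + b) + (b + c) := by
        calc (a : M) + c = a + (b + b) + c := by rw [two, add_zero]
          _ = (a + b) + (b + c) := by abel
      rw [this]; exact add_mem h1 h2⟩⟩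
  let Q := Quotient s
  let iA : MulAction P Q :=
    { smul := fun g => Quotient.map (fun a : X => (⟨g • (a : M), hL g a a.2⟩ : X)) (fun a b hab => by
        change g • (a : M) + g • (b : M) ∈ K
        rw [← smul_add]; exact hK g _ hab)
      one_smul := fun q => by
        induction q using Quotient.inductionOn with
        | h a =>
          refine Quotient.sound ?_
          change (1 : P) • (a : M) + a ∈ K
          rw [one_smul, two]; exact zero_mem _
      mul_smul := fun g g' q => by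
        induction q using Quotient.inductionOn with
        | h a =>
          refine Quotient.sound ?_
          change (g * g') • (a : M) + g • (g' • (a : M)) ∈ K
          rw [mul_smul, two]; exact zero_mem _ }
  have hfQ : Finite Q := inferInstance
  let e0 : Q := Quotient.mk s ⟨0, zero_mem _⟩
  have h0 : e0 ∈ MulAction.fixedPoints P Q := by
    intro g
    refine Quotient.sound ?_
    change g • (0 : M) + 0 ∈ K
    rw [smul_zero, add_zero]; exact zero_mem _
  -- the number of cosets is even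
  have hcard : 2 ∣ Nat.card Q := by
    have e1 : Nonempty (Q ≃ L ⧸ K.addSubgroupOf L) := by
      refine ⟨Quotient.congr (Equiv.refl _) fun a b => ?_⟩
      change (a : M) + b ∈ K ↔ QuotientAddGroup.leftRel _ a b
      rw [QuotientAddGroup.leftRel_apply, AddSubgroup.mem_addSubgroupOf]
      change _ ↔ -(a : M) + b ∈ K
      rw [hneg]
    obtain ⟨e1⟩ := e1
    rw [Nat.card_congr e1]
    obtain ⟨m, hm, hmK⟩ := hne
    have h2 : addOrderOf (QuotientAddGroup.mk (⟨m, hm⟩ : L) : L ⧸ K.addSubgroupOf L) = 2 := by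
      refine addOrderOf_eq_prime ?_ ?_
      · change QuotientAddGroup.mk ((2 : ℕ) • (⟨m, hm⟩ : L)) = 0
        have : (2 : ℕ) • (⟨m, hm⟩ : L) = 0 := by
          rw [two_nsmul]
          exact Subtype.ext (two m)
        rw [this]; rfl
      · intro e
        rw [QuotientAddGroup.eq_zero_iff, AddSubgroup.mem_addSubgroupOf] at e
        exact hmK e
    rw [← h2]
    exact addOrderOf_dvd_natCard _
  obtain ⟨q, hq, hq0⟩ := hP.exists_fixed_point_of_prime_dvd_card_of_fixed_point Q hcard h0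
  induction q using Quotient.inductionOn with
  | h a =>
    refine ⟨a, a.2, fun h => hq0 (Quotient.sound ?_), fun g => ?_⟩
    · change (0 : M) + a ∈ K
      rwa [zero_add]
    · exact Quotient.exact (hq g)

end fixed

namespace Sys

variable {TT : Set M} {B : M → M → ZMod 2}

/-- `⟨v⟩ + Rad` -/
def kv (S : Sys TT B) (v : M) : AddSubgroup M where
  carrier := {m | Rd B m ∨ Rd B (m + v)}
  add_mem' {a b} ha hb := by
    change Rd B a ∨ Rd B (a + v) at ha
    change Rd B b ∨ Rd B (b + v) at hb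
    change Rd B (a + b) ∨ Rd B (a + b + v)
    rcases ha with ha | ha <;> rcases hb with hb | hb
    · exact Or.inl (S.rd_add ha hb)
    · right; rw [add_assoc]; exact S.rd_add ha hb
    · right
      have : a + b + v = a + v + b := by abel
      rw [this]; exact S.rd_add ha hb
    · left
      have := S.rd_add ha hb
      have e : a + v + (b + v) = a + b := by
        calc a + v + (b + v) = a + b + (v + v) := by abel
          _ = a + b := by rw [S.two, add_zero]
      rwa [e] at this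
  zero_mem' := Or.inl fun a => S.zero_right a
  neg_mem' {a} ha := by
    change Rd B a ∨ Rd B (a + v) at ha
    change Rd B (-a) ∨ Rd B (-a + v)
    rwa [S.neg_eq]

theorem mem_kv (S : Sys TT B) {v m : M} : m ∈ S.kv v ↔ Rd B m ∨ Rd B (m + v) := Iff.rfl

theorem mem_pp (S : Sys TT B) {v m : M} : m ∈ S.pp v ↔ B m v = 0 := Iff.rfl

/-- `⟨v⟩ + Rad` is perpendicular to `v^⊥` -/
theorem kv_perp (S : Sys TT B) {v m n : M} (hm : m ∈ S.kv v) (hn : B n v = 0) : B n m = 0 := by
  rcases hm with h | h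
  · exact h n
  · have := h n
    rwa [S.add_right, hn, add_zero] at this

theorem kv_le_pp (S : Sys TT B) (v : M) : S.kv v ≤ S.pp v := fun m hm => by
  rw [S.mem_pp, S.symm]
  exact S.kv_perp hm (S.alt v)

/-- the form of the statement in `HAct.tri` -/
theorem tri_of (S : Sys TT B) {v m m' : M} (h : m' + m ∈ S.kv v) :
    ∃ ρ, Rd B ρ ∧ (m' = m + ρ ∨ m' = m + v + ρ) := by
  rcases h with h | h
  · exact ⟨m' + m, h, Or.inl (by rw [add_comm m', S.add_cancel])⟩
  · refine ⟨m' + m + v, h, Or.inr ?_⟩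
    calc m' = m' + (m + m) + (v + v) := by rw [S.two, S.two, add_zero, add_zero]
      _ = m + v + (m' + m + v) := by abel

theorem of_tri (S : Sys TT B) {v m m' : M} (h : ∃ ρ, Rd B ρ ∧ (m' = m + ρ ∨ m' = m + v + ρ)) :
    m' + m ∈ S.kv v := by
  obtain ⟨ρ, hρ, e | e⟩ := h
  · left
    rw [e]
    have : m + ρ + m = ρ := by rw [add_comm, S.add_cancel]
    rwa [this]
  · right
    rw [e]
    have : m + v + ρ + m + v = ρ := by
      calc m + v + ρ + m + v = (m + m) + (v + v) + ρ := by abel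
        _ = ρ := by rw [S.two, S.two, add_zero, zero_add]
    rwa [this]

section act

variable {H : Type*} [Group H] [DistribMulAction H M]

theorem _root_.Cfsg.Agent.Omega.NO3S.TV.Act.rd (A : Act TT B H) (h : H) {m : M} (hm : Rd B m) : Rd B (h • m) := by
  intro a
  have := A.form h (h⁻¹ • a) m
  rw [smul_inv_smul] at this
  rw [this]
  exact hm _

theorem smul_kv (S : Sys TT B) (A : Act TT B H) {v : M} {h : H} (hv : h • v = v) {m : M} (hm : m ∈ S.kv v) :
    h • m ∈ S.kv v := by
  rcases hm with e | e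
  · exact Or.inl (A.rd h e)
  · right
    have := A.rd h e
    rwa [smul_add, hv] at this

theorem smul_pp (S : Sys TT B) (A : Act TT B H) {v : M} {h : H} (hv : h • v = v) {m : M} (hm : m ∈ S.pp v) :
    h • m ∈ S.pp v := by
  rw [S.mem_pp] at hm ⊢
  have := A.form h m v
  rwa [hv, hm] at this

/-- **(3.4)** -/
theorem triv [Finite M] (S : Sys TT B) (A : Act TT B H) {v : M} (hv : v ∈ TT) {O : Subgroup H} (hO : IsPGroup 2 O)
    (hOv : ∀ g ∈ O, g • v = v) (hn : ∀ h : H, h • v = v → ∀ g ∈ O, h * g * h⁻¹ ∈ O) {g : H} (hg : g ∈ O) {m : M}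
    (hm : B m v = 0) : ∃ ρ, Rd B ρ ∧ (g • m = m + ρ ∨ g • m = m + v + ρ) := by
  -- `C_0`
  let C0 : AddSubgroup M :=
    { carrier := {m | B m v = 0 ∧ ∀ g ∈ O, g • m + m ∈ S.kv v}
      add_mem' := by
        rintro a b ⟨ha, ha1⟩ ⟨hb, hb1⟩
        refine ⟨by rw [S.add_left, ha, hb, add_zero], fun g hg => ?_⟩
        have : g • (a + b) + (a + b) = (g • a + a) + (g • b + b) := by rw [smul_add]; abel
        rw [this]; exact add_mem (ha1 g hg) (hb1 g hg)
      zero_mem' := ⟨S.zero_left v, fun g _ => by rw [smul_zero, add_zero]; exact zero_mem _⟩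
      neg_mem' := by
        rintro a ⟨ha, ha1⟩
        rw [S.neg_eq]
        exact ⟨ha, ha1⟩ }
  have hC0 : ∀ m, m ∈ C0 ↔ B m v = 0 ∧ ∀ g ∈ O, g • m + m ∈ S.kv v := fun _ => Iff.rfl
  have hKC : S.kv v ≤ C0 := fun m hm => ⟨S.kv_le_pp v hm, fun g hg => add_mem (S.smul_kv A (hOv g hg) hm) hm⟩
  have hCinv : ∀ h : H, h • v = v → ∀ m ∈ C0, h • m ∈ C0 := by
    rintro h hhv m ⟨hm, hm1⟩
    refine ⟨S.smul_pp A hhv hm, fun g hg => ?_⟩
    have h1 := hn h⁻¹ (by rw [inv_smul_eq_iff, hhv]) g hg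
    have h2 := S.smul_kv A hhv (hm1 _ h1)
    have e : h • ((h⁻¹ * g * h⁻¹⁻¹) • m + m) = g • h • m + h • m := by
      rw [smul_add, ← mul_smul, ← mul_smul]
      congr 2
      group
    rwa [e] at h2
  have hC2 : ∀ n ∈ C0, ∀ μ ∈ TT, B μ v = 0 → μ ∉ C0 → B n μ = 0 := by
    intro n hn μ hμ hμv hμC
    refine z2_ne' fun e => hμC ?_
    obtain ⟨a, ha⟩ := A.tv μ hμ
    have h1 : a • v = v := (ha v).1 (by rw [S.symm]; exact hμv)
    have h2 := hCinv a h1 n hn
    rw [(ha n).2 e] at h2
    have := add_mem hn h2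
    rwa [S.add_cancel] at this
  -- all `μ ∈ TT ∩ v^⊥` are in `C_0`
  have key : ∀ μ ∈ TT, B μ v = 0 → μ ∈ C0 := by
    by_contra hcon
    push Not at hcon
    obtain ⟨μ0, hμ0, hμ0v, hμ0C⟩ := hcon
    set E : Set M := {μ | μ ∈ TT ∧ B μ v = 0 ∧ μ ∉ C0} with hE
    set L := AddSubgroup.closure E ⊔ S.kv v with hL
    have hEL : ∀ μ ∈ E, μ ∈ L := fun μ hμ => (le_sup_left : AddSubgroup.closure E ≤ L) (AddSubgroup.subset_closure hμ)
    have hLP : L ≤ S.pp v := sup_le ((AddSubgroup.closure_le _).mpr fun μ hμ => hμ.2.1) (S.kv_le_pp v)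
    have hE2 : ∀ g ∈ O, ∀ μ ∈ E, g • μ ∈ E := by
      rintro g hg μ ⟨h1, h2, h3⟩
      refine ⟨A.smul_mem g μ h1, S.smul_pp A (hOv g hg) h2, fun h4 => h3 ?_⟩
      have := hCinv g⁻¹ (by rw [inv_smul_eq_iff, hOv g hg]) _ h4
      rwa [inv_smul_smul] at this
    have hLO : ∀ (g : O), ∀ m ∈ L, g • m ∈ L := by
      rintro ⟨g, hg⟩ m hm
      change g • m ∈ L
      have h1 : L ≤ L.comap (DistribSMul.toAddMonoidHom M g) := by
        refine sup_le ((AddSubgroup.closure_le _).mpr fun μ hμ => ?_) fun m hm => ?_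
        · exact hEL _ (hE2 g hg μ hμ)
        · exact (le_sup_right : S.kv v ≤ L) (S.smul_kv A (hOv g hg) hm)
      exact h1 hm
    obtain ⟨m, hmL, hmK, hfix⟩ := exists_fixed_mod hO S.two (K := S.kv v) (L := L)
      (fun g m hm => S.smul_kv A (hOv g g.2) hm) hLO ⟨μ0, hEL μ0 ⟨hμ0, hμ0v, hμ0C⟩, fun h => hμ0C (hKC h)⟩
    have hmC : m ∈ C0 := ⟨hLP hmL, fun g hg => hfix ⟨g, hg⟩⟩
    -- `C_0 ⊥ L`
    have hCL : ∀ n ∈ C0, ∀ l ∈ L, B n l = 0 := by
      intro n hn l hl
      have h1 : L ≤ S.pp n := by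
        refine sup_le ((AddSubgroup.closure_le _).mpr fun μ hμ => ?_) fun m hm => ?_
        · change B μ n = 0
          rw [S.symm]
          exact hC2 n hn μ hμ.1 hμ.2.1 hμ.2.2
        · rw [S.mem_pp, S.symm]
          exact S.kv_perp hm hn.1
      have := h1 hl
      rw [S.mem_pp, S.symm] at this
      exact this
    have h1 : ∀ n, B n v = 0 → B n m = 0 := by
      intro n hn
      have h2 : AddSubgroup.closure {t | t ∈ TT ∧ B t v = 0} ≤ S.pp m := by
        refine (AddSubgroup.closure_le _).mpr fun μ hμ => ?_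
        change B μ m = 0
        by_cases hμC : μ ∈ C0
        · exact hCL μ hμC m hmL
        · rw [S.symm]
          exact hC2 m hmC μ hμ.1 hμ.2 hμC
      exact h2 (S.mem_closure hv hn)
    obtain ⟨t, -, ht1⟩ := S.exists_nd hv
    exact hmK (S.rd_of (by rw [S.symm]; exact ht1) h1)
  have hP : m ∈ C0 := by
    have h2 : AddSubgroup.closure {t | t ∈ TT ∧ B t v = 0} ≤ C0 :=
      (AddSubgroup.closure_le _).mpr fun μ hμ => key μ hμ.1 hμ.2
    exact h2 (S.mem_closure hv hm)
  exact S.tri_of (hP.2 g hg)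

/-- **(3.5)** -/
theorem odd_eq_one [FaithfulSMul H M] (S : Sys TT B) (I : Inj TT B) (A : Act TT B H) {v : M} (hv : v ∈ TT) {h : H}
    (hodd : Odd (orderOf h)) (hhv : h • v = v)
    (tri : ∀ m, B m v = 0 → ∃ ρ, Rd B ρ ∧ (h • m = m + ρ ∨ h • m = m + v + ρ)) : h = 1 := by
  -- `h² = 1` on `TT ∩ v^⊥`
  have h1 : ∀ μ ∈ TT, B μ v = 0 → h • h • μ = μ := by
    intro μ hμ hμv
    obtain ⟨ρ, hρ, e | e⟩ := tri μ hμv
    · have e1 : h • μ = μ := by
        refine S.eq_of_rd I (A.smul_mem h μ hμ) hμ ?_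
        rw [e, add_comm, S.add_cancel]; exact hρ
      rw [e1, e1]
    · refine S.eq_of_rd I (A.smul_mem h _ (A.smul_mem h μ hμ)) hμ ?_
      rw [e, smul_add, smul_add, hhv, e]
      have : μ + v + ρ + v + h • ρ + μ = ρ + h • ρ := by
        calc μ + v + ρ + v + h • ρ + μ = (μ + μ) + (v + v) + (ρ + h • ρ) := by abel
          _ = ρ + h • ρ := by rw [S.two, S.two, add_zero, zero_add]
      rw [this]
      exact S.rd_add hρ (A.rd h hρ)
  have h2 : ∀ m, B m v = 0 → h • h • m = m := by
    intro m hm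
    have h3 : AddSubgroup.closure {t | t ∈ TT ∧ B t v = 0} ≤
        ((DistribSMul.toAddMonoidHom M h).comp (DistribSMul.toAddMonoidHom M h)).eqLocus
          (AddMonoidHom.id M) :=
      (AddSubgroup.closure_le _).mpr fun a ha => h1 a ha.1 ha.2
    exact h3 (S.mem_closure hv hm)
  have h4 : h ^ 4 = 1 := by
    refine FaithfulSMul.eq_of_smul_eq_smul (α := M) fun m => ?_
    rw [one_smul]
    have e0 : h ^ 4 = h * (h * (h * h)) := by simp only [pow_succ, pow_zero, one_mul, mul_assoc]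
    rw [e0, mul_smul, mul_smul, mul_smul]
    set δ := h • m + m with hδ
    have hδv : B δ v = 0 := by
      have := A.form h m v
      rw [hhv] at this
      rw [hδ, S.add_left, this, z2_add]
    have e1 : h • m = m + δ := by rw [hδ, add_comm (h • m), S.add_cancel]
    have hδ2 : B (h • δ) v = 0 := S.smul_pp A hhv hδv
    have e2 : h • h • m = m + (δ + h • δ) := by rw [e1, smul_add, e1, add_assoc]
    rw [e2, smul_add, smul_add, e2, h2 _ (by rw [S.add_left, hδv, hδ2, add_zero]), S.add_cancel']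
  have h5 : orderOf h ∣ 4 := orderOf_dvd_of_pow_eq_one h4
  have h6 : Nat.Coprime (orderOf h) 4 := by
    have : Nat.Coprime (orderOf h) (2 ^ 2) := (Nat.coprime_two_right.mpr hodd).pow_right 2
    exact this
  have h7 : orderOf h = 1 := Nat.eq_one_of_dvd_coprimes h6 dvd_rfl h5
  exact orderOf_eq_one_iff.mp h7

end act

end Sys

end Cfsg.Agent.Omega.NO3S.TV
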