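import Cfsg.Agent.Omega.NO3S.TV.Four
import Cfsg.Agent.Omega.NO3S.TV.Triv

/-!
# NO-3S, `q = 2`, `n = 1`, transvection types (helper311's text #16747): (3.4) - (3.7)

Base point `z` (= `y` of the text) with its module `M = W_z/⟨z⟩`, another point `x ∈ V`.

* `Loc.tri_of_two` : **(3.4)** a normal 2-subgroup of `C_G(V)` is trivial on `N_z`;
* `Loc.kk_of_odd` : **(3.5)** an element of odd order of `C_G(V)` which is trivial on `N_z` lies in `K_z`;
* `Loc.tri_far` : **(3.6)** `D_p(x)` is trivial on `N_z`;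
* `Loc.exists_not_tri` : **(3.7)** some `W_p`, `p ∈ D_x - V`, is not trivial on `N_z`;
* `Loc.tri_iff` : if `K_z` is a 2-group, then `O_2(C_G(V))` is the kernel of `C_G(V)` on `N_z`.
-/

set_option autoImplicit false
set_option linter.unusedSectionVars false

namespace Cfsg.Agent.Omega.NO3S.TV

open Subgroup Cfsg Cfsg.Agent.ZN Cfsg.Agent.MinSimple.Geo Cfsg.Agent.Omega.CaseL Cfsg.Agent.Omega.NO3S.Fit
open Cfsg.Agent.ZN.Block (conj_mem_of_normalizer conj_mem_of_normalizer' le_normalizer_of_forall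
  mem_normalizer_of)

universe u

variable {G : Type u} [Group G]

/-- a finite group in which the elements of odd order are trivial is a 2-group -/
theorem exists_pow_two_of_odd [Finite G] {L : Subgroup G} (h : ∀ l ∈ L, Odd (orderOf l) → l = 1) {l : G}
    (hl : l ∈ L) : ∃ k : ℕ, l ^ 2 ^ k = 1 := by
  obtain ⟨k, m, hm, e⟩ := Nat.exists_eq_two_pow_mul_odd (n := orderOf l) (orderOf_pos l).ne'
  refine ⟨k, h _ (pow_mem hl _) ?_⟩
  rw [orderOf_pow' l (pow_ne_zero _ two_ne_zero), e, Nat.gcd_eq_right (Dvd.intro _ rfl),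
    Nat.mul_div_cancel_left _ (by positivity)]
  exact hm

namespace Loc

variable {T V : Subgroup G} {z : G} {cf : G → Subgroup G} {M H : Type u} [AddCommGroup M] [Group H]
  [DistribMulAction H M] {R : MRep V cf z M H} {TT : Set M} {B : M → M → ZMod 2} {x c d : G}

section geo

variable [Finite G] (L : Loc T V z cf R TT B) (A : Act TT B H) (hx : x ∈ V) (hx1 : x ≠ 1) (hxz : x ≠ z)
include L A hx hx1 hxz

/-- **(3.4)** -/
theorem tri_of_two [Finite M] {O : Subgroup G} (hO : IsPGroup 2 O) (hOC : O ≤ centralizer (V : Set G))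
    (hn : centralizer (V : Set G) ≤ normalizer (O : Set G)) {g : G} (hg : g ∈ O) : Tri R B x g := by
  have hz := L.fam.ln.z_mem
  have hz1 := L.fam.ln.z_ne
  have hCc := L.fam.cent_le_cf hz hz1
  have hOc : O ≤ cf z := hOC.trans hCc
  have h1 : IsPGroup 2 (R.img O) := by
    have : IsPGroup 2 (O.subgroupOf (cf z)) := hO.comap_of_injective _ (cf z).subtype_injective
    exact this.map _
  intro m hm
  refine L.sys.triv A (L.mem x hx hx1 hxz) h1 ?_ ?_ ((R.mem_img hOc).mpr ⟨g, hg, rfl⟩) hm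
  · intro k hk
    obtain ⟨o, ho, rfl⟩ := (R.mem_img hOc).mp hk
    exact R.cent_v0 L.fam hx (hOC ho)
  · intro k hk o' ho'
    obtain ⟨o, ho, rfl⟩ := (R.mem_img hOc).mp ho'
    obtain ⟨e, he, rfl⟩ := R.stab L.fam hx hx1 hxz hk
    refine (R.mem_img hOc).mpr ⟨e * o * e⁻¹, conj_mem_of_normalizer hn he ho, ?_⟩
    rw [R.phi_mul _ (mul_mem (hCc he) (hOc ho)) _ (inv_mem (hCc he)), R.phi_mul _ (hCc he) _ (hOc ho),
      R.phi_inv (hCc he)]

/-- **(3.5)** -/
theorem kk_of_odd [FaithfulSMul H M] {g : G} (hg : g ∈ centralizer (V : Set G)) (hodd : Odd (orderOf g))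
    (ht : Tri R B x g) : g ∈ kk V cf z := by
  have hz := L.fam.ln.z_mem
  have hz1 := L.fam.ln.z_ne
  have hgc := L.fam.cent_le_cf hz hz1 hg
  have h1 : Odd (orderOf (R.phi g)) := by
    have h2 : orderOf (R.hom ⟨g, hgc⟩) ∣ orderOf (⟨g, hgc⟩ : cf z) := orderOf_map_dvd _ _
    rw [orderOf_mk] at h2
    exact Odd.of_dvd_nat hodd h2
  have h2 : R.phi g = 1 := L.sys.odd_eq_one L.inj A (L.mem x hx hx1 hxz) h1 (R.cent_v0 L.fam hx hg) ht
  have h3 := (R.phi_ker g hgc).mp h2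
  rw [mem_centralizer_iff]
  intro w hw
  have hgz := L.fam.cf_comm hz hz1 hgc
  have h4 : g ^ 2 * w * (g ^ 2)⁻¹ = w := by
    have e0 : g ^ 2 * w * (g ^ 2)⁻¹ = g * (g * w * g⁻¹) * g⁻¹ := by rw [pow_two]; group
    rw [e0]
    rcases L.fam.qq_cases hz h3 hw with e | e
    · rw [e, e]
    · rw [e]
      calc g * (z * w) * g⁻¹ = (g * z) * w * g⁻¹ := by group
        _ = z * (g * w * g⁻¹) := by rw [hgz]; group
        _ = z * z * w := by rw [e, mul_assoc]
        _ = w := by rw [L.fam.ln.zz, one_mul]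
  have h5 : g ∈ zpowers (g ^ 2) := by
    have h6 : Nat.Coprime (orderOf g) 2 := Nat.coprime_two_right.mpr hodd
    obtain ⟨k, hk⟩ := exists_pow_eq_self_of_coprime (G := G) h6.symm
    exact mem_zpowers_iff.mpr ⟨k, by rw [zpow_natCast]; exact hk⟩
  have h6 : zpowers (g ^ 2) ≤ centralizer ({w} : Set G) := by
    rw [zpowers_le, mem_centralizer_singleton_iff]
    exact comm_of_conj_eq h4
  exact (mem_centralizer_singleton_iff.mp (h6 h5)).symm

omit [Finite G] A in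
/-- `K_x` normalises `W_p` -/
theorem kk_norm (hc : c ∈ cf x) : kk V cf x ≤ normalizer ((cj c (ww V cf z) : Subgroup G) : Set G) := by
  have hz := L.fam.ln.z_mem
  have hz1 := L.fam.ln.z_ne
  refine le_normalizer_of_forall fun k hk w hw => ?_
  rw [mem_cj] at hw ⊢
  have h1 : c⁻¹ * k * c ∈ kk V cf x := conj_mem_of_normalizer' L.fam.cf_norm_kk hc hk
  have h2 := conj_mem_of_normalizer (L.fam.cent_norm hz hz1) (L.fam.kk_le_cent h1) hw
  have e : c⁻¹ * k * c * (c⁻¹ * w * c) * (c⁻¹ * k * c)⁻¹ = c⁻¹ * (k * w * k⁻¹) * c := by group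
  rwa [e] at h2

/-- **(3.6)** : `D_p(x) ≤ O_2(K_x) ≤ O_2(C_G(V))` is trivial on `N_z` -/
theorem tri_far [Finite M] (hc : c ∈ cf x) {n : G} (hn : n ∈ cj c (ww V cf z)) (hnk : n ∈ kk V cf x) :
    Tri R B x n := by
  have hz := L.fam.ln.z_mem
  have hz1 := L.fam.ln.z_ne
  have h1 : cj c (ww V cf z) ⊓ kk V cf x ≤ o2 (kk V cf x) := by
    refine le_o2 inf_le_right ?_ ?_
    · exact IsPGroup.to_le (((L.fam.two_ww hz hz1).map _ : IsPGroup 2 (cj c (ww V cf z)))) inf_le_left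
    · refine le_normalizer_of_forall fun k hk w hw => ⟨?_, ?_⟩
      · exact conj_mem_of_normalizer (L.kk_norm hx hx1 hxz hc) hk hw.1
      · exact (kk V cf x).mul_mem ((kk V cf x).mul_mem hk hw.2) ((kk V cf x).inv_mem hk)
  refine L.tri_of_two A hx hx1 hxz (O := o2 (kk V cf x)) (isPGroup_o2 _) ((o2_le _).trans L.fam.kk_le_cent) ?_
    (h1 ⟨hn, hnk⟩)
  exact (L.fam.cent_le_cf hx hx1).trans (L.fam.cf_norm_kk.trans (normalizer_le_normalizer_o2 _))

/-- the elements of `C_G(V)` which are trivial on `N_z` -/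
def trs : Subgroup G where
  carrier := {g | g ∈ centralizer (V : Set G) ∧ Tri R B x g}
  mul_mem' := by
    rintro a b ⟨ha, ha1⟩ ⟨hb, hb1⟩
    refine ⟨mul_mem ha hb, fun m hm => ?_⟩
    have hz := L.fam.ln.z_mem
    have hz1 := L.fam.ln.z_ne
    have h1 := L.sys.of_tri (hb1 m hm)
    have h2 := L.sys.of_tri (ha1 m hm)
    have hav := R.cent_v0 L.fam hx ha
    refine L.sys.tri_of ?_
    rw [R.phi_mul a (L.fam.cent_le_cf hz hz1 ha) b (L.fam.cent_le_cf hz hz1 hb), mul_smul]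
    have h3 := L.sys.smul_kv A hav h1
    rw [smul_add] at h3
    have h4 := add_mem h3 h2
    have e : R.phi a • R.phi b • m + R.phi a • m + (R.phi a • m + m) = R.phi a • R.phi b • m + m := by
      rw [add_assoc, L.sys.add_cancel]
    rwa [e] at h4
  one_mem' := ⟨one_mem _, fun m _ => L.sys.tri_of (by rw [R.phi_one', one_smul, L.sys.two]; exact zero_mem _)⟩
  inv_mem' := by
    rintro a ⟨ha, ha1⟩
    refine ⟨inv_mem ha, fun m hm => ?_⟩
    have hz := L.fam.ln.z_mem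
    have hz1 := L.fam.ln.z_ne
    have hac := L.fam.cent_le_cf hz hz1 ha
    have hav := R.cent_v0 L.fam hx ha
    have hav' : (R.phi a)⁻¹ • R.pi x = R.pi x := by rw [inv_smul_eq_iff, hav]
    refine L.sys.tri_of ?_
    rw [R.phi_inv hac]
    have h3 := L.sys.smul_kv A hav' (L.sys.of_tri (ha1 m hm))
    rw [smul_add, inv_smul_smul, add_comm] at h3
    exact h3

theorem mem_trs {g : G} : g ∈ L.trs A hx ↔ g ∈ centralizer (V : Set G) ∧ Tri R B x g := Iff.rfl

theorem trs_norm : centralizer (V : Set G) ≤ normalizer ((L.trs A hx : Subgroup G) : Set G) := by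
  have hz := L.fam.ln.z_mem
  have hz1 := L.fam.ln.z_ne
  refine le_normalizer_of_forall fun k hk g hg => ⟨mul_mem (mul_mem hk hg.1) (inv_mem hk), fun m hm => ?_⟩
  have hkc := L.fam.cent_le_cf hz hz1 hk
  have hgc := L.fam.cent_le_cf hz hz1 hg.1
  have hkv := R.cent_v0 L.fam hx hk
  have hkv' : (R.phi k)⁻¹ • R.pi x = R.pi x := by rw [inv_smul_eq_iff, hkv]
  refine L.sys.tri_of ?_
  rw [R.phi_mul _ (mul_mem hkc hgc) _ (inv_mem hkc), R.phi_mul _ hkc _ hgc, R.phi_inv hkc, mul_smul, mul_smul]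
  have h1 : B ((R.phi k)⁻¹ • m) (R.pi x) = 0 := L.sys.smul_pp A hkv' hm
  have h2 := L.sys.smul_kv A hkv (L.sys.of_tri (hg.2 _ h1))
  rwa [smul_add, smul_inv_smul] at h2

/-- if `K_z` is a 2-group, then `O_2(C_G(V))` is the kernel of `C_G(V)` on `N_z` -/
theorem tri_iff [Finite M] [FaithfulSMul H M] (hK : IsPGroup 2 (kk V cf z)) {g : G}
    (hg : g ∈ centralizer (V : Set G)) : Tri R B x g ↔ g ∈ o2 (centralizer (V : Set G)) := by
  constructor
  · intro ht
    have h1 : L.trs A hx ≤ o2 (centralizer (V : Set G)) := by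
      refine le_o2 (fun g hg => hg.1) ?_ (L.trs_norm A hx hx1 hxz)
      rintro ⟨l, hl⟩
      obtain ⟨k, hk⟩ := exists_pow_two_of_odd (L := L.trs A hx) (fun l hl hodd => by
        have h2 := L.kk_of_odd A hx hx1 hxz hl.1 hodd hl.2
        obtain ⟨n, hn⟩ := hK ⟨l, h2⟩
        have h3 : l ^ 2 ^ n = 1 := congrArg Subtype.val hn
        have h4 : orderOf l ∣ 2 ^ n := orderOf_dvd_of_pow_eq_one h3
        have h5 : Nat.Coprime (orderOf l) (2 ^ n) := (Nat.coprime_two_right.mpr hodd).pow_right n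
        exact orderOf_eq_one_iff.mp (Nat.eq_one_of_dvd_coprimes h5 dvd_rfl h4)) hl
      exact ⟨k, Subtype.ext hk⟩
    exact h1 ⟨hg, ht⟩
  · intro h
    exact L.tri_of_two A hx hx1 hxz (isPGroup_o2 _) (o2_le _) (le_normalizer_o2 _) h

end geo

/-! ### (3.7) -/

section nontriv

variable {T' : Subgroup G} {M' H' : Type u} [AddCommGroup M'] [Group H'] [DistribMulAction H' M']
  {R' : MRep V cf x M' H'} {TT' : Set M'} {B' : M' → M' → ZMod 2}

/-- `W_p ≤ C_G(V)` for `p ∈ D_x - V`, from the form at `x` -/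
theorem cj_le_cent (L' : Loc T' V x cf R' TT' B') (hz : z ∈ V) (hz1 : z ≠ 1) (hxz : x ≠ z) (hc : c ∈ cf x)
    (hp : c * z * c⁻¹ ∈ kk V cf z) : cj c (ww V cf z) ≤ centralizer (V : Set G) := by
  have hx := L'.fam.ln.z_mem
  have hx1 := L'.fam.ln.z_ne
  have hzW : z ∈ ww V cf x := L'.fam.V_le hz
  have hpW : c * z * c⁻¹ ∈ ww V cf x := conj_mem_wf hc hzW
  have h1 : B' (R'.pi (c * z * c⁻¹)) (R'.pi z) = 0 := (L'.perp z hz hz1 (Ne.symm hxz) _ hpW).mpr hp
  have hc' : c⁻¹ ∈ cf x := inv_mem hc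
  have h2 : B' (R'.pi (c⁻¹ * z * c⁻¹⁻¹)) (R'.pi z) = 0 := by
    rw [← R'.act c⁻¹ hc' z hzW, ← L'.form (R'.phi c), R'.phi_inv hc, smul_inv_smul, R'.act c hc z hzW,
      L'.sys.symm]
    exact h1
  have h3 : c⁻¹ * z * c⁻¹⁻¹ ∈ kk V cf z :=
    (L'.perp z hz hz1 (Ne.symm hxz) _ (conj_mem_wf hc' hzW)).mp h2
  intro w hw
  rw [mem_cj] at hw
  have h4 := mem_centralizer_iff.mp h3 _ hw
  have h5 : w * z = z * w := by
    calc w * z = c * ((c⁻¹ * w * c) * (c⁻¹ * z * c⁻¹⁻¹)) * c⁻¹ := by group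
      _ = c * ((c⁻¹ * z * c⁻¹⁻¹) * (c⁻¹ * w * c)) * c⁻¹ := by rw [h4]
      _ = z * w := by group
  have h6 : w * x = x * w := by
    have h7 : x * (c⁻¹ * w * c) = (c⁻¹ * w * c) * x := L'.fam.V_comm hx (L'.fam.ww_le_cent hz hz1 hw)
    have hcx := L'.fam.cf_comm hx hx1 hc
    have hcx' := L'.fam.cf_comm hx hx1 hc'
    calc w * x = c * (c⁻¹ * w * c) * (c⁻¹ * x) := by group
      _ = c * ((c⁻¹ * w * c) * x) * c⁻¹ := by rw [hcx']; group
      _ = c * (x * (c⁻¹ * w * c)) * c⁻¹ := by rw [h7]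
      _ = (c * x) * (c⁻¹ * w) := by group
      _ = x * w := by rw [hcx]; group
  exact L'.fam.mem_centralizer_of hx hx1 hz hz1 (Ne.symm hxz) h6 h5

/-- the product of two transvections with nonperpendicular centres is not a 2-element -/
theorem _root_.Cfsg.Agent.Omega.NO3S.TV.Sys.not_two (S' : Sys TT' B') {a b : H'} {μ u : M'} (hμu : B' μ u = 1)
    (ha : ∀ m, (B' m μ = 0 → a • m = m) ∧ (B' m μ = 1 → a • m = m + μ))
    (hb : ∀ m, (B' m u = 0 → b • m = m) ∧ (B' m u = 1 → b • m = m + u)) (k : ℕ) : (a * b) ^ 2 ^ k ≠ 1 := by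
  intro e
  have huμ : B' u μ = 1 := by rw [S'.symm]; exact hμu
  have e1 : (a * b) • μ = u := by
    rw [mul_smul, (hb μ).2 hμu, (ha _).2 (by rw [S'.add_left, S'.alt, huμ, zero_add])]
    rw [add_comm μ u, S'.add_cancel']
  have e2 : (a * b) • u = u + μ := by
    rw [mul_smul, (hb u).1 (S'.alt u), (ha u).2 huμ]
  have e3 : (a * b) • (u + μ) = μ := by
    rw [smul_add, e1, e2, add_comm (u + μ) u, S'.add_cancel]
  have h3 : (a * b) ^ 3 ∈ MulAction.stabilizer H' μ := by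
    rw [MulAction.mem_stabilizer_iff, pow_succ, pow_two, mul_smul, mul_smul, e1, e2, e3]
  have h2 : (a * b) ^ 2 ^ k ∈ MulAction.stabilizer H' μ := by rw [e]; exact one_mem _
  have h1 : a * b ∈ MulAction.stabilizer H' μ := by
    have hco : Int.gcd (3 : ℤ) ((2 ^ k : ℕ) : ℤ) = 1 := by
      have : Nat.Coprime 3 (2 ^ k) := (by norm_num : Nat.Coprime 3 2).pow_right k
      exact this
    have hb := Int.gcd_eq_gcd_ab (3 : ℤ) ((2 ^ k : ℕ) : ℤ)
    rw [hco] at hb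
    have e4 : a * b = ((a * b) ^ 3) ^ (Int.gcdA (3 : ℤ) ((2 ^ k : ℕ) : ℤ)) *
        ((a * b) ^ 2 ^ k) ^ (Int.gcdB (3 : ℤ) ((2 ^ k : ℕ) : ℤ)) := by
      rw [← zpow_natCast (a * b) 3, ← zpow_natCast (a * b) (2 ^ k), ← zpow_mul, ← zpow_mul, ← zpow_add]
      have : ((3 : ℕ) : ℤ) * Int.gcdA 3 ((2 ^ k : ℕ) : ℤ) + ((2 ^ k : ℕ) : ℤ) * Int.gcdB 3 ((2 ^ k : ℕ) : ℤ) = 1 := by
        rw [show ((3 : ℕ) : ℤ) = 3 from rfl, ← hb]; rfl
      rw [this, zpow_one]
    rw [e4]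
    exact mul_mem (zpow_mem h3 _) (zpow_mem h2 _)
  rw [MulAction.mem_stabilizer_iff, e1] at h1
  rw [h1, S'.alt] at huμ
  exact zero_ne_one huμ

/-- **(3.7)**, no group acts trivially on `N_z` -/
theorem exists_not_tri [Finite G] [FaithfulSMul H M] (L : Loc T V z cf R TT B) (A : Act TT B H)
    (L' : Loc T' V x cf R' TT' B') (hxz : x ≠ z)
    (hpts : ∀ t ∈ TT', ∃ c ∈ cf x, t = R'.pi (c * z * c⁻¹))
    (hw0 : ∃ w ∈ ww V cf z, ∀ m : M', (B' m (R'.pi z) = 0 → R'.phi w • m = m) ∧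
      (B' m (R'.pi z) = 1 → R'.phi w • m = m + R'.pi z))
    (hμ : ∃ μ ∈ TT', B' μ (R'.pi z) = 0 ∧ μ ≠ R'.pi z)
    (hKK : IsPGroup 2 (kk V cf z ⊓ kk V cf (x * z) : Subgroup G)) :
    ∃ c, Far V z cf x c ∧ ∃ w ∈ cj c (ww V cf z), ¬ Tri R B x w := by
  by_contra hcon
  push Not at hcon
  have hx := L'.fam.ln.z_mem
  have hx1 := L'.fam.ln.z_ne
  have hz := L.fam.ln.z_mem
  have hz1 := L.fam.ln.z_ne
  have hzW : z ∈ ww V cf x := L'.fam.V_le hz
  -- `L_x`
  set E : Set G := {w | ∃ c, Far V z cf x c ∧ w ∈ cj c (ww V cf z)} with hE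
  set X := closure E with hX
  have hXt : X ≤ L.trs A hx := by
    refine (closure_le _).mpr ?_
    rintro w ⟨c, hF, hw⟩
    exact ⟨L'.cj_le_cent hz hz1 hxz hF.mem hF.cent hw, hcon c hF w hw⟩
  -- `Q_x` normalises `L_x`
  have hq : ∀ q ∈ qq V cf x, ∀ l ∈ X, q * l * q⁻¹ ∈ X := by
    intro q hq l hl
    have hqc : q ∈ cf x := L.fam.qq_le_cf hq
    have h1 : X ≤ X.comap (MulAut.conj q).toMonoidHom := by
      refine (closure_le _).mpr ?_
      rintro w ⟨c, hF, hw⟩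
      change q * w * q⁻¹ ∈ X
      refine subset_closure ⟨q * c, ?_, ?_⟩
      · have e : q * c * z * (q * c)⁻¹ = q * (c * z * c⁻¹) * q⁻¹ := by group
        have hpW : c * z * c⁻¹ ∈ ww V cf x := conj_mem_wf hF.mem hzW
        refine ⟨mul_mem hqc hF.mem, ?_, ?_⟩
        · rw [e]
          rcases L.fam.qq_cases hx hq hpW with e1 | e1
          · rw [e1]; exact hF.cent
          · rw [e1]; exact mul_mem (L.fam.V_le_kk hz hz1 hx) hF.cent
        · rw [e]
          rcases L.fam.qq_cases hx hq hpW with e1 | e1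
          · rw [e1]; exact hF.nmem
          · rw [e1]; exact fun h => hF.nmem ((mul_mem_cancel_left hx).mp h)
      · rw [← cj_cj]; exact conj_mem_cj hw
    exact h1 hl
  -- the elements of odd order of `L_x` are trivial
  obtain ⟨q, hqx, hqV⟩ := L.fam.exists_mover hx hx1
  have hqz := L.fam.move hx hx1 hz hz1 (Ne.symm hxz) hqx hqV
  have hqz' : q⁻¹ * z * q = x * z := by
    have hqx' := L.fam.qq_p hqx
    have e0 : q * (x * z) * q⁻¹ = z := by
      calc q * (x * z) * q⁻¹ = (q * x) * z * q⁻¹ := by group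
        _ = x * (q * z * q⁻¹) := by rw [hqx']; group
        _ = x * x * z := by rw [hqz, mul_assoc]
        _ = z := by rw [L'.fam.ln.zz, one_mul]
    calc q⁻¹ * z * q = q⁻¹ * (q * (x * z) * q⁻¹) * q := by rw [e0]
      _ = x * z := by group
  have hodd : ∀ l ∈ X, Odd (orderOf l) → l = 1 := by
    intro l hl ho
    have h1 : l ∈ kk V cf z := L.kk_of_odd A hx hx1 hxz (hXt hl).1 ho (hXt hl).2
    have h2 := hq q hqx l hl
    have h3 : orderOf (q * l * q⁻¹) = orderOf l := by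
      rw [← MulAut.conj_apply]; exact orderOf_injective (MulAut.conj q).toMonoidHom (MulAut.conj q).injective l
    have h4 : q * l * q⁻¹ ∈ kk V cf z := L.kk_of_odd A hx hx1 hxz (hXt h2).1 (by rw [h3]; exact ho) (hXt h2).2
    have h5 : l ∈ kk V cf (x * z) := by
      have := L.fam.conj_kk (inv_mem (L.fam.qq_le_normalizer hx hqx)) hz hz1 h4
      rw [inv_inv, hqz'] at this
      have e : q⁻¹ * (q * l * q⁻¹) * q = l := by group
      rwa [e] at this
    obtain ⟨n, hn⟩ := hKK ⟨l, ⟨h1, h5⟩⟩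
    have h6 : l ^ 2 ^ n = 1 := congrArg Subtype.val hn
    have h7 : orderOf l ∣ 2 ^ n := orderOf_dvd_of_pow_eq_one h6
    have h8 : Nat.Coprime (orderOf l) (2 ^ n) := (Nat.coprime_two_right.mpr ho).pow_right n
    exact orderOf_eq_one_iff.mp (Nat.eq_one_of_dvd_coprimes h8 dvd_rfl h7)
  -- two transvections
  obtain ⟨μ, hμ, hμ0, hμne⟩ := hμ
  have hzT := L'.mem z hz hz1 (Ne.symm hxz)
  obtain ⟨u, hu, hu0, huμ⟩ := L'.sys.exists_nonperp L'.inj hzT hμ hμne
  have hune : u ≠ R'.pi z := by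
    rintro rfl
    rw [L'.sys.symm, hμ0] at huμ
    exact zero_ne_one huμ
  obtain ⟨w0, hw0, hw0a⟩ := hw0
  have key : ∀ t ∈ TT', B' t (R'.pi z) = 0 → t ≠ R'.pi z → ∃ w ∈ X, w ∈ cf x ∧
      ∀ m : M', (B' m t = 0 → R'.phi w • m = m) ∧ (B' m t = 1 → R'.phi w • m = m + t) := by
    intro t ht ht0 htne
    obtain ⟨c, hc, rfl⟩ := hpts t ht
    have hpW : c * z * c⁻¹ ∈ ww V cf x := conj_mem_wf hc hzW
    have hcent : c * z * c⁻¹ ∈ kk V cf z := (L'.perp z hz hz1 (Ne.symm hxz) _ hpW).mp ht0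
    have hF : Far V z cf x c := by
      refine ⟨hc, hcent, fun hV => ?_⟩
      have hne0 : R'.pi (c * z * c⁻¹) ≠ 0 := L'.sys.ne_zero ht
      rcases L'.fam.ln.four hx hz hx1 hz1 hxz hV with e | e | e | e
      · exact hne0 (by rw [e, R'.pi_one L'.fam])
      · exact hne0 (by rw [e, R'.pi_z L'.fam])
      · exact htne (by rw [e])
      · exact htne (by rw [e, R'.pi_mul x L'.fam.z_mem_ww z hzW, R'.pi_z L'.fam, zero_add])
    have hw0c : w0 ∈ cf x := L'.fam.ww_le_cf' hz hz1 hx hx1 hw0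
    refine ⟨c * w0 * c⁻¹, subset_closure ⟨c, hF, conj_mem_cj hw0⟩, mul_mem (mul_mem hc hw0c) (inv_mem hc), ?_⟩
    have hact : ∀ m : M', R'.phi (c * w0 * c⁻¹) • m = R'.phi c • R'.phi w0 • (R'.phi c)⁻¹ • m := by
      intro m
      rw [R'.phi_mul _ (mul_mem hc hw0c) _ (inv_mem hc), R'.phi_mul _ hc _ hw0c, R'.phi_inv hc, mul_smul, mul_smul]
    have hB : ∀ m : M', B' ((R'.phi c)⁻¹ • m) (R'.pi z) = B' m (R'.pi (c * z * c⁻¹)) := by
      intro m
      rw [← L'.form (R'.phi c), smul_inv_smul, R'.act c hc z hzW]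
    intro m
    refine ⟨fun h => ?_, fun h => ?_⟩
    · rw [hact, (hw0a _).1 (by rw [hB]; exact h), smul_inv_smul]
    · rw [hact, (hw0a _).2 (by rw [hB]; exact h), smul_add, smul_inv_smul, R'.act c hc z hzW]
  obtain ⟨a, haX, hac, ha⟩ := key μ hμ hμ0 hμne
  obtain ⟨b, hbX, hbc, hb⟩ := key u hu (by rw [L'.sys.symm]; exact hu0) hune
  obtain ⟨k, hk⟩ := exists_pow_two_of_odd hodd (mul_mem haX hbX)
  refine L'.sys.not_two (by rw [L'.sys.symm]; exact huμ) ha hb k ?_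
  have h1 : R'.phi ((a * b) ^ 2 ^ k) = R'.phi (a * b) ^ 2 ^ k := map_pow R'.hom ⟨a * b, mul_mem hac hbc⟩ _
  rw [← R'.phi_mul a hac b hbc, ← h1, hk, R'.phi_one']

end nontriv

end Loc

end Cfsg.Agent.Omega.NO3S.TV
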