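import Cfsg.Agent.Omega.NO3S.Fit.AbsNat

/-!
# Text #16747 (helper311), section 9: THEOREM TV2, module level

`H` faithful on the elementary abelian 2-group `M`, spanned by the orbit of `v0`; `O₂(H) = 1`; `A ≤ Stab(v0)` is normal in
`Stab(v0)`, `[M,A] = ⟨v0⟩` (all elements of `A` are transvections with centre `v0`), `|A| ≥ 4`. Then `M` is the direct sum
of the conjugates of a subgroup `M1 ∋ v0` with `|M1| = 2 |A|` on which `H` induces `GL(M1)`.
-/

set_option autoImplicit false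
set_option linter.unusedSectionVars false

namespace Cfsg.Agent.Omega.NO3S.TV

open Cfsg.Agent.Omega.NO3S.Fit.Abs

variable {H M : Type*} [Group H] [AddCommGroup M] [Module (ZMod 2) M] [DistribMulAction H M]

theorem z2_cases (c : ZMod 2) : c = 0 ∨ c = 1 := by
  revert c; decide

theorem two_of_module (m : M) : m + m = 0 := by
  have h : (2 : ZMod 2) • m = m + m := two_smul _ m
  rw [← h, show (2 : ZMod 2) = 0 from rfl, zero_smul]

/-- the action of `h` as a linear map -/
def actL (M : Type*) [AddCommGroup M] [Module (ZMod 2) M] [DistribMulAction H M] (h : H) :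
    M →ₗ[ZMod 2] M :=
  (DistribSMul.toAddMonoidHom M h).toZModLinearMap 2

@[simp] theorem actL_apply (h : H) (m : M) : actL M h m = h • m := rfl

theorem smul_zsmul (h : H) (c : ZMod 2) (m : M) : h • c • m = c • h • m := by
  rcases z2_cases c with rfl | rfl <;> simp

/-- the setting of TV2 -/
structure TVA (v0 : M) (A : Subgroup H) : Prop where
  ne : v0 ≠ 0
  span : AddSubgroup.closure (Set.range fun h : H => h • v0) = ⊤
  o2 : ∀ N : Subgroup H, N.Normal → IsPGroup 2 N → N = ⊥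
  nor : ∀ h : H, h • v0 = v0 → ∀ a ∈ A, h * a * h⁻¹ ∈ A
  tv : ∀ a ∈ A, ∀ m : M, a • m = m ∨ a • m = m + v0
  fix : ∀ a ∈ A, a • v0 = v0

namespace TVA

variable {v0 : M} {A : Subgroup H}

/-- the functional of a transvection -/
theorem exists_dual (c : TVA v0 A) {a : H} (ha : a ∈ A) :
    ∃ f : Module.Dual (ZMod 2) M, ∀ m, a • m = m + f m • v0 := by
  classical
  let g : M →+ ZMod 2 :=
    { toFun := fun m => if a • m = m then 0 else 1
      map_zero' := by simp
      map_add' := by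
        intro m n
        have h0 := c.ne
        rcases c.tv a ha m with h1 | h1 <;> rcases c.tv a ha n with h2 | h2
        · have h3 : a • (m + n) = m + n := by rw [smul_add, h1, h2]
          simp [h1, h2, h3]
        · have h3 : a • (m + n) = m + n + v0 := by rw [smul_add, h1, h2, add_assoc]
          simp [h1, h2, h3, h0]
        · have h3 : a • (m + n) = m + n + v0 := by
            rw [smul_add, h1, h2]; abel
          simp [h1, h2, h3, h0]
        · have h3 : a • (m + n) = m + n := by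
            rw [smul_add, h1, h2]
            have : m + v0 + (n + v0) = m + n + (v0 + v0) := by abel
            rw [this, two_of_module, add_zero]
          simp only [h3, if_true, h1, h2, add_eq_left, h0, if_false]
          decide }
  refine ⟨g.toZModLinearMap 2, fun m => ?_⟩
  change a • m = m + (if a • m = m then (0 : ZMod 2) else 1) • v0
  rcases c.tv a ha m with h1 | h1
  · simp [h1]
  · have : a • m ≠ m := by rw [h1]; simpa using c.ne
    rw [if_neg this, one_smul, h1]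

/-- the functionals of `A` -/
def F0 (c : TVA v0 A) : Submodule (ZMod 2) (Module.Dual (ZMod 2) M) where
  carrier := {f | ∃ a ∈ A, ∀ m, a • m = m + f m • v0}
  zero_mem' := ⟨1, one_mem A, fun m => by simp⟩
  add_mem' := by
    rintro f g ⟨a, ha, hf⟩ ⟨b, hb, hg⟩
    refine ⟨a * b, mul_mem ha hb, fun m => ?_⟩
    rw [mul_smul, hg, smul_add, hf, smul_zsmul, c.fix a ha, LinearMap.add_apply, add_smul]
    abel
  smul_mem' := by
    rintro r f ⟨a, ha, hf⟩
    rcases z2_cases r with rfl | rfl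
    · refine ⟨1, one_mem A, fun m => by simp⟩
    · exact ⟨a, ha, fun m => by simpa using hf m⟩

theorem mem_F0 {c : TVA v0 A} {f : Module.Dual (ZMod 2) M} :
    f ∈ c.F0 ↔ ∃ a ∈ A, ∀ m, a • m = m + f m • v0 := Iff.rfl

/-- the functionals at `h • v0` -/
def F (c : TVA v0 A) (h : H) : Submodule (ZMod 2) (Module.Dual (ZMod 2) M) where
  carrier := {f | f.comp (actL M h) ∈ c.F0}
  zero_mem' := by
    change (0 : Module.Dual (ZMod 2) M).comp (actL M h) ∈ c.F0
    rw [LinearMap.zero_comp]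
    exact zero_mem _
  add_mem' := by
    intro f g hf hg
    change (f + g).comp (actL M h) ∈ c.F0
    rw [LinearMap.add_comp]
    exact add_mem hf hg
  smul_mem' := by
    intro r f hf
    change (r • f).comp (actL M h) ∈ c.F0
    rw [LinearMap.smul_comp]
    exact Submodule.smul_mem _ _ hf

theorem mem_F' {c : TVA v0 A} {h : H} {f : Module.Dual (ZMod 2) M} :
    f ∈ c.F h ↔ f.comp (actL M h) ∈ c.F0 := Iff.rfl

/-- `f ∈ F h` iff `1 + f ⊗ (h v0)` is induced by a conjugate of an element of `A` -/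
theorem mem_F {c : TVA v0 A} {h : H} {f : Module.Dual (ZMod 2) M} :
    f ∈ c.F h ↔ ∃ a ∈ A, ∀ m, (h * a * h⁻¹) • m = m + f m • h • v0 := by
  rw [mem_F', mem_F0]
  constructor
  · rintro ⟨a, ha, e⟩
    refine ⟨a, ha, fun m => ?_⟩
    rw [mul_smul, mul_smul, e, smul_add, smul_inv_smul, smul_zsmul]
    change m + f (h • h⁻¹ • m) • h • v0 = _
    rw [smul_inv_smul]
  · rintro ⟨a, ha, e⟩
    refine ⟨a, ha, fun m => ?_⟩
    have := e (h • m)
    rw [mul_smul, mul_smul, inv_smul_smul] at this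
    change a • m = m + f (h • m) • v0
    apply smul_left_cancel h
    rw [this, smul_add, smul_zsmul]

theorem F_congr (c : TVA v0 A) {h k : H} (e : h • v0 = k • v0) : c.F h = c.F k := by
  have key : ∀ h k : H, h • v0 = k • v0 → c.F h ≤ c.F k := by
    intro h k e f hf
    rw [mem_F] at hf ⊢
    obtain ⟨a, ha, hf⟩ := hf
    have h1 : (k⁻¹ * h) • v0 = v0 := by rw [mul_smul, e, inv_smul_smul]
    refine ⟨k⁻¹ * h * a * (k⁻¹ * h)⁻¹, c.nor _ h1 a ha, fun m => ?_⟩
    have e1 : k * (k⁻¹ * h * a * (k⁻¹ * h)⁻¹) * k⁻¹ = h * a * h⁻¹ := by group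
    rw [e1, hf, e]
  exact le_antisymm (key h k e) (key k h e.symm)

/-- `F h` kills `h • v0` -/
theorem F_self (c : TVA v0 A) {h : H} {f : Module.Dual (ZMod 2) M} (hf : f ∈ c.F h) :
    f (h • v0) = 0 := by
  obtain ⟨a, ha, e⟩ := mem_F.mp hf
  have h1 := e (h • v0)
  rw [mul_smul, mul_smul, inv_smul_smul, c.fix a ha] at h1
  rcases z2_cases (f (h • v0)) with h2 | h2
  · exact h2
  · exfalso
    rw [h2, one_smul, left_eq_add] at h1
    exact c.ne ((smul_eq_zero_iff_eq h).mp h1)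

/-- conjugation -/
theorem mem_F_mul (c : TVA v0 A) (g h : H) {f : Module.Dual (ZMod 2) M} :
    f ∈ c.F (g * h) ↔ f.comp (actL M g) ∈ c.F h := by
  rw [mem_F', mem_F']
  have : f.comp (actL M (g * h)) = (f.comp (actL M g)).comp (actL M h) := by
    ext m
    change f ((g * h) • m) = f (g • h • m)
    rw [mul_smul]
  rw [this]

/-- (a) -/
theorem key_a (c : TVA v0 A) {h k : H} {f g : Module.Dual (ZMod 2) M} (hf : f ∈ c.F h)
    (hg : g ∈ c.F k) (hfu : f (k • v0) = 0) (hgv : g (h • v0) = 1) : f ∈ c.F k := by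
  obtain ⟨a, ha, ef⟩ := mem_F.mp hf
  set x := h * a * h⁻¹ with hx
  have hxk : x • k • v0 = k • v0 := by rw [ef, hfu, zero_smul, add_zero]
  -- `g ∘ x ∈ F k`
  have h1 : g.comp (actL M x) ∈ c.F k := by
    rw [← c.mem_F_mul x k]
    rw [c.F_congr (h := x * k) (k := k) (by rw [mul_smul, hxk])]
    exact hg
  have h2 : g.comp (actL M x) = g + f := by
    ext m
    change g (x • m) = g m + f m
    rw [ef, map_add, map_smul, hgv, smul_eq_mul, mul_one]
  rw [h2] at h1
  have h3 := sub_mem h1 hg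
  rwa [add_sub_cancel_left] at h3

variable [Finite H] [Finite M]

theorem card_F (c : TVA v0 A) (h : H) : Nat.card (c.F h) = Nat.card c.F0 := by
  refine Nat.card_congr
    { toFun := fun f => ⟨(f : Module.Dual (ZMod 2) M).comp (actL M h), f.2⟩
      invFun := fun f => ⟨(f : Module.Dual (ZMod 2) M).comp (actL M h⁻¹), ?_⟩
      left_inv := fun f => ?_
      right_inv := fun f => ?_ }
  · rw [mem_F']
    have : ((f : Module.Dual (ZMod 2) M).comp (actL M h⁻¹)).comp (actL M h) = f := by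
      ext m
      change (f : Module.Dual (ZMod 2) M) (h⁻¹ • h • m) = _
      rw [inv_smul_smul]
    rw [this]
    exact f.2
  · ext m
    change (f : Module.Dual (ZMod 2) M) (h • h⁻¹ • m) = _
    rw [smul_inv_smul]
  · ext m
    change (f : Module.Dual (ZMod 2) M) (h⁻¹ • h • m) = _
    rw [inv_smul_smul]

theorem F_eq_of_le (c : TVA v0 A) {h k : H} (hle : c.F h ≤ c.F k) : c.F h = c.F k := by
  have hfin : Finite (Module.Dual (ZMod 2) M) := Module.finite_of_finite (ZMod 2)
  apply SetLike.coe_injective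
  refine Set.eq_of_subset_of_ncard_le hle ?_ (Set.toFinite _)
  have h1 : Set.ncard (c.F h : Set (Module.Dual (ZMod 2) M)) = Nat.card (c.F h) :=
    (Nat.card_coe_set_eq _).symm
  have h2 : Set.ncard (c.F k : Set (Module.Dual (ZMod 2) M)) = Nat.card (c.F k) :=
    (Nat.card_coe_set_eq _).symm
  rw [h1, h2, c.card_F, c.card_F]

/-- `u, v` nonperpendicular -/
def NP (c : TVA v0 A) (h k : H) : Prop := ∃ f ∈ c.F h, f (k • v0) = 1

/-- (b) symmetry -/
theorem NP.symm {c : TVA v0 A} {h k : H} (hh : c.NP h k) : c.NP k h := by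
  obtain ⟨f, hf, hfk⟩ := hh
  by_contra hcon
  have h0 : ∀ g ∈ c.F k, g (h • v0) = 0 := by
    intro g hg
    rcases z2_cases (g (h • v0)) with h1 | h1
    · exact h1
    · exact absurd ⟨g, hg, h1⟩ hcon
  have hle : c.F k ≤ c.F h := fun g hg => c.key_a hg hf (h0 g hg) hfk
  rw [← c.F_eq_of_le hle] at hf
  rw [c.F_self hf] at hfk
  exact zero_ne_one hfk

/-- (b): for `u, v` nonperpendicular, `F_v ∩ u° ≤ F_u` -/
theorem NP.mem {c : TVA v0 A} {h k : H} (hh : c.NP h k) {f : Module.Dual (ZMod 2) M}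
    (hf : f ∈ c.F h) (hfk : f (k • v0) = 0) : f ∈ c.F k := by
  obtain ⟨g, hg, hgh⟩ := hh.symm
  exact c.key_a hf hg hfk hgh

/-- `f ≠ 0` does not vanish on the orbit -/
theorem exists_orbit (c : TVA v0 A) {f : Module.Dual (ZMod 2) M} (hf : f ≠ 0) :
    ∃ m : H, f (m • v0) = 1 := by
  by_contra hcon
  push Not at hcon
  apply hf
  have h1 : AddSubgroup.closure (Set.range fun h : H => h • v0) ≤ f.toAddMonoidHom.ker := by
    rw [AddSubgroup.closure_le]
    rintro _ ⟨h, rfl⟩
    change f (h • v0) = 0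
    rcases z2_cases (f (h • v0)) with h1 | h1
    · exact h1
    · exact absurd h1 (hcon h)
  rw [c.span] at h1
  ext m
  exact h1 (AddSubgroup.mem_top m)

/-- `C_M(H⁰)` -/
def cm (c : TVA v0 A) : AddSubgroup M where
  carrier := {m | ∀ w : H, ∀ g ∈ c.F w, g m = 0}
  zero_mem' := fun w g _ => map_zero g
  add_mem' := fun {m n} hm hn w g hg => by rw [map_add, hm w g hg, hn w g hg, add_zero]
  neg_mem' := fun {m} hm w g hg => by rw [map_neg, hm w g hg, neg_zero]

theorem smul_mem_cm (c : TVA v0 A) (x : H) {m : M} (hm : m ∈ c.cm) : x • m ∈ c.cm := by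
  intro w g hg
  have h1 : g.comp (actL M x) ∈ c.F (x⁻¹ * w) := by
    rw [← c.mem_F_mul, mul_inv_cancel_left]
    exact hg
  exact hm _ _ h1

/-- the elements trivial on `M / C_M(H⁰)` and on `C_M(H⁰)` -/
def rd (c : TVA v0 A) : Subgroup H where
  carrier := {x | (∀ m : M, x • m - m ∈ c.cm) ∧ ∀ m ∈ c.cm, x • m = m}
  one_mem' := ⟨fun m => by simp [zero_mem], fun m _ => one_smul _ _⟩
  mul_mem' := by
    rintro x y ⟨hx1, hx2⟩ ⟨hy1, hy2⟩
    refine ⟨fun m => ?_, fun m hm => by rw [mul_smul, hy2 m hm, hx2 m hm]⟩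
    have : (x * y) • m - m = (x • y • m - y • m) + (y • m - m) := by rw [mul_smul]; abel
    rw [this]
    exact add_mem (hx1 _) (hy1 _)
  inv_mem' := by
    rintro x ⟨hx1, hx2⟩
    refine ⟨fun m => ?_, fun m hm => by rw [inv_smul_eq_iff, hx2 m hm]⟩
    have := neg_mem (hx1 (x⁻¹ • m))
    rwa [smul_inv_smul, neg_sub] at this

theorem rd_eq_bot [FaithfulSMul H M] (c : TVA v0 A) : c.rd = ⊥ := by
  refine c.o2 _ ⟨fun x hx g => ?_⟩ ?_
  · obtain ⟨h1, h2⟩ := hx
    constructor
    · intro m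
      have h3 := c.smul_mem_cm g (h1 (g⁻¹ • m))
      rw [smul_sub, smul_inv_smul] at h3
      rwa [mul_smul, mul_smul]
    · intro m hm
      have h3 := h2 _ (c.smul_mem_cm g⁻¹ hm)
      rw [mul_smul, mul_smul, h3, smul_inv_smul]
  · rw [IsPGroup]
    rintro ⟨x, h1, h2⟩
    refine ⟨1, Subtype.ext ?_⟩
    change x ^ (2 ^ 1) = 1
    rw [pow_one, pow_two]
    refine FaithfulSMul.eq_of_smul_eq_smul (α := M) fun m => ?_
    have h3 := h2 _ (h1 m)
    rw [smul_sub, sub_eq_sub_iff_add_eq_add, two_of_module] at h3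
    rw [mul_smul, one_smul]
    exact (eq_neg_of_add_eq_zero_left h3).trans (neg_eq_of_add_eq_zero_left (two_of_module m))

variable [FaithfulSMul H M]

/-- (c) -/
theorem eq_of_F_eq (c : TVA v0 A) (h0 : c.F0 ≠ ⊥) {h k : H} (e : c.F h = c.F k) :
    h • v0 = k • v0 := by
  -- `u + v ∈ C_M(H⁰)`
  have hc : h • v0 + k • v0 ∈ c.cm := by
    have key : ∀ {h k : H}, c.F h = c.F k → ∀ w : H, ∀ g ∈ c.F w, g (h • v0) = 1 →
        g (k • v0) = 1 := by
      intro h k e w g hg h1
      rcases z2_cases (g (k • v0)) with h2 | h2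
      · exfalso
        have hwh : c.NP w h := ⟨g, hg, h1⟩
        obtain ⟨f, hf, hfw⟩ := hwh.symm
        have hkw : c.NP k w := ⟨f, e ▸ hf, hfw⟩
        have h3 : g ∈ c.F k := hkw.symm.mem hg h2
        rw [← e] at h3
        rw [c.F_self h3] at h1
        exact zero_ne_one h1
      · exact h2
    intro w g hg
    rw [map_add]
    rcases z2_cases (g (h • v0)) with h1 | h1 <;> rcases z2_cases (g (k • v0)) with h2 | h2
    · rw [h1, h2, add_zero]
    · have := key e.symm w g hg h2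
      rw [h1] at this
      exact absurd this zero_ne_one
    · have := key e w g hg h1
      rw [h2] at this
      exact absurd this zero_ne_one
    · rw [h1, h2]; decide
  -- a nonzero functional
  have hne : c.F h ≠ ⊥ := by
    intro hb
    apply h0
    have h1 := c.card_F h
    rw [hb] at h1
    have hfin : Finite (Module.Dual (ZMod 2) M) := Module.finite_of_finite (ZMod 2)
    have h2 : Nat.card (⊥ : Submodule (ZMod 2) (Module.Dual (ZMod 2) M)) = 1 := Nat.card_unique
    rw [h2] at h1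
    rw [eq_bot_iff]
    intro f hf
    have h3 : Subsingleton c.F0 := (Nat.card_eq_one_iff_unique.mp h1.symm).1
    have h4 : (⟨f, hf⟩ : c.F0) = 0 := Subsingleton.elim _ _
    exact congrArg Subtype.val h4
  obtain ⟨f, hf, hf0⟩ := (Submodule.ne_bot_iff _).mp hne
  have hfk : f ∈ c.F k := e ▸ hf
  obtain ⟨a, ha, ea⟩ := mem_F.mp hf
  obtain ⟨b, hb, eb⟩ := mem_F.mp hfk
  have hx : (h * a * h⁻¹) * (k * b * k⁻¹) ∈ c.rd := by
    have e1 : ∀ m, ((h * a * h⁻¹) * (k * b * k⁻¹)) • m = m + f m • (h • v0 + k • v0) := by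
      intro m
      rw [mul_smul, eb, smul_add, ea, smul_zsmul, ea, c.F_self hfk, zero_smul, add_zero, smul_add]
      abel
    constructor
    · intro m
      rw [e1, add_sub_cancel_left]
      rcases z2_cases (f m) with h1 | h1
      · rw [h1, zero_smul]; exact zero_mem _
      · rw [h1, one_smul]; exact hc
    · intro m hm
      rw [e1, hm h f hf, zero_smul, add_zero]
  have hx1 : (h * a * h⁻¹) * (k * b * k⁻¹) = 1 := by
    rw [c.rd_eq_bot] at hx
    exact Subgroup.mem_bot.mp hx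
  obtain ⟨m, hm⟩ := c.exists_orbit hf0
  have e2 : ((h * a * h⁻¹) * (k * b * k⁻¹)) • m • v0 = m • v0 + (h • v0 + k • v0) := by
    rw [mul_smul, eb, hm, one_smul, smul_add, ea, hm, one_smul, ea, c.F_self hfk, zero_smul,
      add_zero]
    abel
  rw [hx1, one_smul, left_eq_add] at e2
  exact (eq_neg_of_add_eq_zero_left e2).trans (neg_eq_of_add_eq_zero_left (two_of_module _))

theorem exists_ne_zero_of_four {D : Type*} [AddCommGroup D] [Module (ZMod 2) D] [Finite D]
    {S : Submodule (ZMod 2) D} (h4 : 4 ≤ Nat.card S) (ev : D →ₗ[ZMod 2] ZMod 2) :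
    ∃ f ∈ S, f ≠ 0 ∧ ev f = 0 := by
  by_contra hcon
  push Not at hcon
  have hinj : Function.Injective (fun f : S => ev (f : D)) := by
    intro f g e
    by_contra hne
    have e' : ev (f : D) = ev (g : D) := e
    have h1 : ev ((f : D) - g) = 0 := by rw [map_sub, e', sub_self]
    exact hcon _ (sub_mem f.2 g.2) (sub_ne_zero.mpr fun h => hne (Subtype.ext h)) h1
  have h2 := Nat.card_le_card_of_injective _ hinj
  rw [Nat.card_zmod] at h2
  omega

/-- (d) nonperpendicularity is transitive -/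
theorem NP.trans {c : TVA v0 A} (h4 : 4 ≤ Nat.card c.F0) {h w k : H} (h1 : c.NP h w)
    (h2 : c.NP w k) (hne : h • v0 ≠ k • v0) : c.NP h k := by
  have hfin : Finite (Module.Dual (ZMod 2) M) := Module.finite_of_finite (ZMod 2)
  by_contra hcon
  have hcon' : ¬ c.NP k h := fun h3 => hcon h3.symm
  have hk0 : ∀ g ∈ c.F h, g (k • v0) = 0 := by
    intro g hg
    rcases z2_cases (g (k • v0)) with e | e
    · exact e
    · exact absurd ⟨g, hg, e⟩ hcon
  have hh0 : ∀ g ∈ c.F k, g (h • v0) = 0 := by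
    intro g hg
    rcases z2_cases (g (h • v0)) with e | e
    · exact e
    · exact absurd ⟨g, hg, e⟩ hcon'
  obtain ⟨f, hfw, hf0, hfh⟩ := exists_ne_zero_of_four (S := c.F w) (by rw [c.card_F]; exact h4)
    (LinearMap.applyₗ (h • v0))
  have hfh' : f (h • v0) = 0 := hfh
  have hf_h : f ∈ c.F h := h1.symm.mem hfw hfh'
  have hf_k : f ∈ c.F k := h2.mem hfw (hk0 f hf_h)
  obtain ⟨m, hm⟩ := c.exists_orbit hf0
  have hhm : c.NP h m := ⟨f, hf_h, hm⟩
  have hkm : c.NP k m := ⟨f, hf_k, hm⟩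
  have hle : c.F h ≤ c.F k := by
    have key : ∀ g ∈ c.F h, g (m • v0) = 0 → g ∈ c.F k := fun g hg h3 =>
      hkm.symm.mem (hhm.mem hg h3) (hk0 g hg)
    intro g hg
    rcases z2_cases (g (m • v0)) with h3 | h3
    · exact key g hg h3
    · have h5 : g + f ∈ c.F k := key _ (add_mem hg hf_h) (by
        rw [LinearMap.add_apply, h3, hm]; decide)
      have h6 := sub_mem h5 hf_k
      rwa [add_sub_cancel_right] at h6
  have h0 : c.F0 ≠ ⊥ := by
    intro hb
    rw [hb] at h4
    have : Nat.card (⊥ : Submodule (ZMod 2) (Module.Dual (ZMod 2) M)) = 1 := Nat.card_unique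
    omega
  exact hne (c.eq_of_F_eq h0 (c.F_eq_of_le hle))

/-- equal or nonperpendicular -/
def R (c : TVA v0 A) (h k : H) : Prop := h • v0 = k • v0 ∨ c.NP h k

theorem NP.congr_left {c : TVA v0 A} {h h' k : H} (e : h • v0 = h' • v0) (hh : c.NP h k) :
    c.NP h' k := by
  obtain ⟨f, hf, hfk⟩ := hh
  exact ⟨f, c.F_congr e ▸ hf, hfk⟩

theorem NP.congr_right {c : TVA v0 A} {h k k' : H} (e : k • v0 = k' • v0) (hh : c.NP h k) :
    c.NP h k' := by
  obtain ⟨f, hf, hfk⟩ := hh
  exact ⟨f, hf, e ▸ hfk⟩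

theorem R.refl (c : TVA v0 A) (h : H) : c.R h h := Or.inl rfl

theorem R.symm {c : TVA v0 A} {h k : H} (hh : c.R h k) : c.R k h :=
  hh.imp Eq.symm NP.symm

theorem R.trans {c : TVA v0 A} (h4 : 4 ≤ Nat.card c.F0) {h w k : H} (h1 : c.R h w)
    (h2 : c.R w k) : c.R h k := by
  rcases h1 with e1 | h1
  · rcases h2 with e2 | h2
    · exact Or.inl (e1.trans e2)
    · exact Or.inr (h2.congr_left e1.symm)
  · rcases h2 with e2 | h2
    · exact Or.inr (h1.congr_right e2)
    · by_cases e : h • v0 = k • v0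
      · exact Or.inl e
      · exact Or.inr (h1.trans h4 h2 e)

theorem NP.smul {c : TVA v0 A} {h k : H} (x : H) (hh : c.NP h k) : c.NP (x * h) (x * k) := by
  obtain ⟨f, hf, hfk⟩ := hh
  refine ⟨f.comp (actL M x⁻¹), ?_, ?_⟩
  · rw [c.mem_F_mul]
    have : (f.comp (actL M x⁻¹)).comp (actL M x) = f := by
      ext m
      change f (x⁻¹ • x • m) = _
      rw [inv_smul_smul]
    rw [this]
    exact hf
  · change f (x⁻¹ • (x * k) • v0) = 1
    rw [mul_smul, inv_smul_smul]
    exact hfk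

theorem R.smul {c : TVA v0 A} {h k : H} (x : H) (hh : c.R h k) : c.R (x * h) (x * k) := by
  rcases hh with e | hh
  · left; rw [mul_smul, mul_smul, e]
  · exact Or.inr (hh.smul x)

/-- the block of `h • v0` -/
def blk (c : TVA v0 A) (h4 : 4 ≤ Nat.card c.F0) (h : H) : AddSubgroup M where
  carrier := {m | m = 0 ∨ ∃ k : H, m = k • v0 ∧ c.R h k}
  zero_mem' := Or.inl rfl
  add_mem' := by
    rintro m n (rfl | ⟨k, rfl, hk⟩) (rfl | ⟨l, rfl, hl⟩)
    · left; simp
    · right; exact ⟨l, by simp, hl⟩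
    · right; exact ⟨k, by simp, hk⟩
    · have hkl : c.R k l := hk.symm.trans h4 hl
      rcases hkl with e | ⟨f, hf, hfl⟩
      · left; rw [e, two_of_module]
      · right
        obtain ⟨a, ha, ea⟩ := mem_F.mp hf
        refine ⟨k * a * k⁻¹ * l, ?_, hk.trans h4 (Or.inr ⟨f, hf, ?_⟩)⟩
        · rw [mul_smul, ea, hfl, one_smul, add_comm]
        · rw [mul_smul, ea, hfl, one_smul, map_add, hfl, c.F_self hf, add_zero]
  neg_mem' := by
    rintro m (rfl | ⟨k, rfl, hk⟩)
    · left; simp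
    · right
      exact ⟨k, neg_eq_of_add_eq_zero_left (two_of_module _), hk⟩

theorem mem_blk {c : TVA v0 A} {h4 : 4 ≤ Nat.card c.F0} {h : H} {m : M} :
    m ∈ c.blk h4 h ↔ m = 0 ∨ ∃ k : H, m = k • v0 ∧ c.R h k := Iff.rfl

theorem self_mem_blk (c : TVA v0 A) (h4 : 4 ≤ Nat.card c.F0) (h : H) : h • v0 ∈ c.blk h4 h :=
  Or.inr ⟨h, rfl, R.refl c h⟩

theorem smul_mem_blk (c : TVA v0 A) (h4 : 4 ≤ Nat.card c.F0) {h : H} (x : H) {m : M}
    (hm : m ∈ c.blk h4 h) : x • m ∈ c.blk h4 (x * h) := by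
  rcases hm with rfl | ⟨k, rfl, hk⟩
  · rw [smul_zero]; exact zero_mem _
  · exact Or.inr ⟨x * k, (mul_smul _ _ _).symm, hk.smul x⟩

theorem blk_eq_of_R (c : TVA v0 A) (h4 : 4 ≤ Nat.card c.F0) {h k : H} (hh : c.R h k) :
    c.blk h4 h = c.blk h4 k := by
  ext m
  rw [mem_blk, mem_blk]
  constructor
  · rintro (rfl | ⟨l, rfl, hl⟩)
    · exact Or.inl rfl
    · exact Or.inr ⟨l, rfl, hh.symm.trans h4 hl⟩
  · rintro (rfl | ⟨l, rfl, hl⟩)
    · exact Or.inl rfl
    · exact Or.inr ⟨l, rfl, hh.trans h4 hl⟩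

/-- `h v0 ∈ blk k` iff `R k h` -/
theorem smul_mem_blk_iff (c : TVA v0 A) (h4 : 4 ≤ Nat.card c.F0) {h k : H} :
    h • v0 ∈ c.blk h4 k ↔ c.R k h := by
  constructor
  · rintro (e | ⟨l, e, hl⟩)
    · exact absurd ((smul_eq_zero_iff_eq h).mp e) c.ne
    · exact hl.trans h4 (Or.inl e.symm)
  · intro hh
    exact Or.inr ⟨h, rfl, hh⟩

/-- different blocks meet trivially -/
theorem disjoint_blk (c : TVA v0 A) (h4 : 4 ≤ Nat.card c.F0) {h k : H} (hh : ¬ c.R h k) {m : M}
    (h1 : m ∈ c.blk h4 h) (h2 : m ∈ c.blk h4 k) : m = 0 := by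
  rcases h1 with rfl | ⟨l, rfl, hl⟩
  · rfl
  · exact absurd (hl.trans h4 ((c.smul_mem_blk_iff h4).mp h2).symm) hh

/-- `F h` kills the other blocks -/
theorem F_blk (c : TVA v0 A) (h4 : 4 ≤ Nat.card c.F0) {h k : H} (hh : ¬ c.R h k)
    {f : Module.Dual (ZMod 2) M} (hf : f ∈ c.F h) {m : M} (hm : m ∈ c.blk h4 k) : f m = 0 := by
  rcases hm with rfl | ⟨l, rfl, hl⟩
  · exact map_zero f
  · rcases z2_cases (f (l • v0)) with e | e
    · exact e
    · exact absurd ((R.trans h4 (Or.inr ⟨f, hf, e⟩) hl.symm)) hh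

/-- on the block of `h`, the common kernel of `F h` is `⟨h v0⟩` -/
theorem ker_F (c : TVA v0 A) (h4 : 4 ≤ Nat.card c.F0) {h : H} {m : M} (hm : m ∈ c.blk h4 h)
    (hk : ∀ f ∈ c.F h, f m = 0) : m = 0 ∨ m = h • v0 := by
  rcases hm with rfl | ⟨l, rfl, hl⟩
  · exact Or.inl rfl
  · right
    rcases hl with e | ⟨f, hf, hfl⟩
    · exact e.symm
    · rw [hk f hf] at hfl
      exact absurd hfl zero_ne_one

/-- restriction to the block is injective on `F h` -/
theorem F_inj (c : TVA v0 A) (h4 : 4 ≤ Nat.card c.F0) {h : H} {f : Module.Dual (ZMod 2) M}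
    (hf : f ∈ c.F h) (h0 : ∀ m ∈ c.blk h4 h, f m = 0) : f = 0 := by
  by_contra hne
  obtain ⟨m, hm⟩ := c.exists_orbit hne
  have h1 : m • v0 ∈ c.blk h4 h := (c.smul_mem_blk_iff h4).mpr (Or.inr ⟨f, hf, hm⟩)
  rw [h0 _ h1] at hm
  exact zero_ne_one hm

end TVA

end Cfsg.Agent.Omega.NO3S.TV
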