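import Cfsg.Agent.Omega.NO3S.TV.TwoAbs

/-!
# Text #16747 (helper311), section 9: THEOREM TV2, counting and the direct sum

* `TVA.card_blk` : `|blk h| = 2 |A|`;
* `TVA.full` : `A^h` induces on the block of `h v0` all transvections with centre `h v0`;
* `TVA.triv` : `A^h` is trivial on the other blocks;
* `TVA.sup_eq`, `TVA.indep` : `M` is the direct sum of the blocks;
* `TVA.tv2` : the theorem.
-/

set_option autoImplicit false
set_option linter.unusedSectionVars false

namespace Cfsg.Agent.Omega.NO3S.TV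

open Cfsg.Agent.Omega.NO3S.Fit.Abs

variable {H M : Type*} [Group H] [AddCommGroup M] [Module (ZMod 2) M] [DistribMulAction H M]

/-- an additive subgroup as a subspace -/
abbrev sbm (N : AddSubgroup M) : Submodule (ZMod 2) M := AddSubgroup.toZModSubmodule 2 N

theorem card_dual {X : Type*} [AddCommGroup X] [Module (ZMod 2) X] [Finite X] :
    Nat.card (Module.Dual (ZMod 2) X) = Nat.card X := by
  have h1 := Module.natCard_eq_pow_finrank (K := ZMod 2) (V := Module.Dual (ZMod 2) X)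
  have h2 := Module.natCard_eq_pow_finrank (K := ZMod 2) (V := X)
  rw [h1, h2, Subspace.dual_finrank_eq]

theorem card_of_surj {X : Type*} [AddCommGroup X] [Finite X] (ev : X →+ ZMod 2) {x : X}
    (hx : ev x = 1) : Nat.card X = 2 * Nat.card ev.ker := by
  have h1 : ev.range = ⊤ := by
    rw [AddMonoidHom.range_eq_top]
    intro c
    rcases z2_cases c with rfl | rfl
    · exact ⟨0, map_zero ev⟩
    · exact ⟨x, hx⟩
  have h2 := AddSubgroup.card_mul_index ev.ker
  rw [AddSubgroup.index_ker, h1, AddSubgroup.card_top, Nat.card_zmod] at h2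
  omega

/-- the functionals killing `v ≠ 0` -/
theorem card_ann {X : Type*} [AddCommGroup X] [Module (ZMod 2) X] [Finite X] {v : X}
    (hv : v ≠ 0) : Nat.card X = 2 * Nat.card {g : Module.Dual (ZMod 2) X // g v = 0} := by
  have hfin : Finite (Module.Dual (ZMod 2) X) := Module.finite_of_finite (ZMod 2)
  obtain ⟨g0, hg0⟩ : ∃ g : Module.Dual (ZMod 2) X, g v = 1 := by
    by_contra hcon
    push Not at hcon
    apply hv
    rw [← Module.forall_dual_apply_eq_zero_iff (ZMod 2)]
    intro φ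
    rcases z2_cases (φ v) with h | h
    · exact h
    · exact absurd h (hcon φ)
  let ev : Module.Dual (ZMod 2) X →+ ZMod 2 :=
    { toFun := fun g => g v
      map_zero' := rfl
      map_add' := fun _ _ => rfl }
  have h1 := card_of_surj ev (x := g0) hg0
  rw [card_dual] at h1
  rw [h1]
  rfl

namespace TVA

variable {v0 : M} {A : Subgroup H}
variable [Finite H] [Finite M] [FaithfulSMul H M]

/-- `|F0| = |A|` -/
theorem card_F0 (c : TVA v0 A) : Nat.card c.F0 = Nat.card A := by
  have hex : ∀ a : A, ∃ f : Module.Dual (ZMod 2) M, ∀ m, (a : H) • m = m + f m • v0 :=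
    fun a => c.exists_dual a.2
  choose f hf using hex
  symm
  refine Nat.card_congr (Equiv.ofBijective (fun a : A => (⟨f a, a, a.2, hf a⟩ : c.F0)) ⟨?_, ?_⟩)
  · intro a b e
    have e' : f a = f b := congrArg Subtype.val e
    apply Subtype.ext
    refine FaithfulSMul.eq_of_smul_eq_smul (α := M) fun m => ?_
    rw [hf a, hf b, e']
  · rintro ⟨g, a, ha, hg⟩
    refine ⟨⟨a, ha⟩, Subtype.ext ?_⟩
    ext m
    have h1 := hf ⟨a, ha⟩ m
    have h2 := hg m
    have h3 : a • m = m + f ⟨a, ha⟩ m • v0 := h1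
    rw [h3] at h2
    have h4 := add_left_cancel h2
    change f ⟨a, ha⟩ m = g m
    rcases z2_cases (f ⟨a, ha⟩ m) with h5 | h5 <;> rcases z2_cases (g m) with h6 | h6
    · rw [h5, h6]
    · rw [h5, h6, zero_smul, one_smul] at h4
      exact absurd h4.symm c.ne
    · rw [h5, h6, zero_smul, one_smul] at h4
      exact absurd h4 c.ne
    · rw [h5, h6]

variable (c : TVA v0 A) (h4 : 4 ≤ Nat.card c.F0)
include c h4

theorem card_blk_le (h : H) : Nat.card (c.blk h4 h) ≤ 2 * Nat.card c.F0 := by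
  have hfin : Finite (Module.Dual (ZMod 2) M) := Module.finite_of_finite (ZMod 2)
  have hfin2 : Finite (Module.Dual (ZMod 2) (c.F h)) := Module.finite_of_finite (ZMod 2)
  let ev : c.blk h4 h →+ Module.Dual (ZMod 2) (c.F h) :=
    { toFun := fun m =>
        { toFun := fun f => (f : Module.Dual (ZMod 2) M) (m : M)
          map_add' := fun _ _ => rfl
          map_smul' := fun _ _ => rfl }
      map_zero' := by ext f; exact map_zero (f : Module.Dual (ZMod 2) M)
      map_add' := fun m n => by ext f; exact map_add (f : Module.Dual (ZMod 2) M) (m : M) (n : M) }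
  have h1 := AddSubgroup.card_mul_index ev.ker
  rw [AddSubgroup.index_ker] at h1
  have h2 : Nat.card ev.range ≤ Nat.card c.F0 := by
    have := Nat.card_le_card_of_injective (fun x : ev.range => (x : Module.Dual (ZMod 2) (c.F h)))
      Subtype.val_injective
    rwa [card_dual, c.card_F] at this
  have h3 : Nat.card ev.ker ≤ 2 := by
    classical
    have hinj : Function.Injective (fun x : ev.ker => if ((x : c.blk h4 h) : M) = 0 then (0 : ZMod 2) else 1) := by
      have key : ∀ x : ev.ker, ((x : c.blk h4 h) : M) = 0 ∨ ((x : c.blk h4 h) : M) = h • v0 := by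
        intro x
        refine c.ker_F h4 (x : c.blk h4 h).2 fun f hf => ?_
        have h5 : ev (x : c.blk h4 h) = 0 := x.2
        exact congrArg (fun (φ : Module.Dual (ZMod 2) (c.F h)) => φ ⟨f, hf⟩) h5
      have hne : h • v0 ≠ 0 := fun e => c.ne ((smul_eq_zero_iff_eq h).mp e)
      intro x y e
      apply Subtype.ext
      apply Subtype.ext
      rcases key x with h5 | h5 <;> rcases key y with h6 | h6
      · rw [h5, h6]
      · simp only [h5, h6, if_true, hne, if_false] at e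
        exact absurd e zero_ne_one
      · simp only [h5, h6, if_true, hne, if_false] at e
        exact absurd e.symm zero_ne_one
      · rw [h5, h6]
    have := Nat.card_le_card_of_injective _ hinj
    rwa [Nat.card_zmod] at this
  calc Nat.card (c.blk h4 h) = Nat.card ev.ker * Nat.card ev.range := h1.symm
    _ ≤ 2 * Nat.card c.F0 := Nat.mul_le_mul h3 h2

/-- the restriction of `F h` to its block -/
def res (h : H) (f : c.F h) :
    {g : Module.Dual (ZMod 2) (sbm (c.blk h4 h)) // g ⟨h • v0, c.self_mem_blk h4 h⟩ = 0} :=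
  ⟨(f : Module.Dual (ZMod 2) M).comp (Submodule.subtype _), c.F_self f.2⟩

theorem res_inj (h : H) : Function.Injective (c.res h4 h) := by
  intro f g e
  have e' : ∀ m ∈ c.blk h4 h, (f : Module.Dual (ZMod 2) M) m = (g : Module.Dual (ZMod 2) M) m := by
    intro m hm
    have h1 := congrArg Subtype.val e
    exact congrArg (fun (φ : Module.Dual (ZMod 2) (sbm (c.blk h4 h))) => φ ⟨m, hm⟩) h1
  have h2 := c.F_inj h4 (sub_mem f.2 g.2) (fun m hm => by
    rw [LinearMap.sub_apply, e' m hm, sub_self])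
  exact Subtype.ext (sub_eq_zero.mp h2)

theorem card_blk_F (h : H) : Nat.card (c.blk h4 h) = 2 * Nat.card c.F0 ∧
    Function.Surjective (c.res h4 h) := by
  have hfin : Finite (Module.Dual (ZMod 2) M) := Module.finite_of_finite (ZMod 2)
  have hfin' : Finite (Module.Dual (ZMod 2) (sbm (c.blk h4 h))) := Module.finite_of_finite (ZMod 2)
  have hne : (⟨h • v0, c.self_mem_blk h4 h⟩ : sbm (c.blk h4 h)) ≠ 0 := by
    intro e
    exact c.ne ((smul_eq_zero_iff_eq h).mp (congrArg Subtype.val e))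
  have h1 := card_ann hne
  have h2 := Nat.card_le_card_of_injective _ (c.res_inj h4 h)
  rw [c.card_F] at h2
  have h3 := c.card_blk_le h4 h
  have h3' : Nat.card (sbm (c.blk h4 h)) = Nat.card (c.blk h4 h) := rfl
  have h5 : Nat.card (c.F h) = Nat.card
      {g : Module.Dual (ZMod 2) (sbm (c.blk h4 h)) // g ⟨h • v0, c.self_mem_blk h4 h⟩ = 0} := by
    rw [c.card_F]
    omega
  refine ⟨by omega, ?_⟩
  exact ((Nat.bijective_iff_injective_and_card _).mpr ⟨c.res_inj h4 h, h5⟩).2

theorem card_blk (h : H) : Nat.card (c.blk h4 h) = 2 * Nat.card A := by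
  rw [(c.card_blk_F h4 h).1, c.card_F0]

/-- `A^h` induces on its block all transvections with centre `h v0` -/
theorem full (h : H) (g : Module.Dual (ZMod 2) (sbm (c.blk h4 h)))
    (hg : g ⟨h • v0, c.self_mem_blk h4 h⟩ = 0) :
    ∃ a ∈ A, ∀ m (hm : m ∈ c.blk h4 h), (h * a * h⁻¹) • m = m + g ⟨m, hm⟩ • h • v0 := by
  obtain ⟨f, hf⟩ := (c.card_blk_F h4 h).2 ⟨g, hg⟩
  obtain ⟨a, ha, e⟩ := mem_F.mp f.2
  refine ⟨a, ha, fun m hm => ?_⟩
  rw [e]
  have h1 := congrArg Subtype.val hf
  have h2 : (f : Module.Dual (ZMod 2) M) m = g ⟨m, hm⟩ :=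
    congrArg (fun (φ : Module.Dual (ZMod 2) (sbm (c.blk h4 h))) => φ ⟨m, hm⟩) h1
  rw [h2]

/-- `A^h` is trivial on the other blocks -/
theorem triv {h k : H} (hh : ¬ c.R h k) {a : H} (ha : a ∈ A) {m : M} (hm : m ∈ c.blk h4 k) :
    (h * a * h⁻¹) • m = m := by
  obtain ⟨f, hf⟩ := c.exists_dual ha
  have h1 : f.comp (actL M h⁻¹) ∈ c.F h := by
    rw [mem_F]
    refine ⟨a, ha, fun n => ?_⟩
    rw [mul_smul, mul_smul, hf, smul_add, smul_inv_smul, smul_zsmul]
    rfl
  have h2 := c.F_blk h4 hh h1 hm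
  rw [mul_smul, mul_smul, hf, smul_add, smul_inv_smul, smul_zsmul]
  change m + (f.comp (actL M h⁻¹)) m • h • v0 = m
  rw [h2, zero_smul, add_zero]

/-- `M` is the sum of the blocks -/
theorem sup_eq : ⨆ h : H, c.blk h4 h = ⊤ := by
  rw [eq_top_iff, ← c.span, AddSubgroup.closure_le]
  rintro _ ⟨h, rfl⟩
  exact (le_iSup (fun h => c.blk h4 h) h) (c.self_mem_blk h4 h)

/-- the sum is direct -/
theorem indep (k : H) {m : M} (hm : m ∈ c.blk h4 k)
    (hm' : m ∈ ⨆ h : {h : H // ¬ c.R k h}, c.blk h4 h) : m = 0 := by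
  -- `F l` kills `m` for all `l` with `R k l`
  have h1 : ∀ l : H, c.R k l → ∀ f ∈ c.F l, f m = 0 := by
    intro l hl f hf
    have hle : (⨆ h : {h : H // ¬ c.R k h}, c.blk h4 h) ≤ f.toAddMonoidHom.ker := by
      refine iSup_le fun h n hn => ?_
      exact c.F_blk h4 (fun h5 => h.2 (hl.trans h4 h5)) hf hn
    exact hle hm'
  have h2 : ∀ l : H, c.R k l → m = 0 ∨ m = l • v0 := by
    intro l hl
    refine c.ker_F h4 ?_ (h1 l hl)
    rw [← c.blk_eq_of_R h4 hl]
    exact hm
  by_contra hne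
  -- some `l` with `R k l`, `l v0 ≠ k v0`
  obtain ⟨l, hl, hlk⟩ : ∃ l : H, c.R k l ∧ l • v0 ≠ k • v0 := by
    have hcard := (c.card_blk_F h4 k).1
    by_contra hcon
    push Not at hcon
    have h5 : (c.blk h4 k : Set M) ⊆ {0, k • v0} := by
      rintro n (rfl | ⟨l, rfl, hl⟩)
      · simp
      · simp [hcon l hl]
    have h6 := Set.ncard_le_ncard h5 (Set.toFinite _)
    have h7 : Set.ncard (c.blk h4 k : Set M) = Nat.card (c.blk h4 k) :=
      (Nat.card_coe_set_eq _).symm
    have h8 : Set.ncard ({0, k • v0} : Set M) ≤ 2 := Set.ncard_insert_le _ _ |>.trans (by simp)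
    omega
  have h3 := (h2 l hl).resolve_left hne
  have h5 := (h2 k (R.refl c k)).resolve_left hne
  exact hlk (h3.symm.trans h5)

end TVA

/-- **THEOREM TV2**, module level. -/
theorem tv2 [Finite H] [Finite M] [FaithfulSMul H M] {v0 : M} {A : Subgroup H} (c : TVA v0 A)
    (hA : 4 ≤ Nat.card A) : ∃ B : H → AddSubgroup M,
      (∀ h, h • v0 ∈ B h) ∧
      (∀ h, Nat.card (B h) = 2 * Nat.card A) ∧
      (∀ h, ∀ m ∈ B h, m ≠ 0 → ∃ k : H, m = k • v0 ∧ B k = B h) ∧
      (∀ h k, B h = B k ∨ ∀ m ∈ B h, m ∈ B k → m = 0) ∧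
      (∀ x h, ∀ m ∈ B h, x • m ∈ B (x * h)) ∧
      (∀ h, ∀ (g : Module.Dual (ZMod 2) (sbm (B h))) (hv : h • v0 ∈ B h), g ⟨h • v0, hv⟩ = 0 →
        ∃ a ∈ A, ∀ m (hm : m ∈ B h), (h * a * h⁻¹) • m = m + g ⟨m, hm⟩ • h • v0) ∧
      (∀ h k, B h ≠ B k → ∀ a ∈ A, ∀ m ∈ B k, (h * a * h⁻¹) • m = m) ∧
      (⨆ h, B h = ⊤) ∧
      (∀ k, ∀ m ∈ B k, m ∈ (⨆ h : {h : H // B h ≠ B k}, B h) → m = 0) := by
  have h4 : 4 ≤ Nat.card c.F0 := by rw [c.card_F0]; exact hA
  have hR : ∀ h k, c.blk h4 h = c.blk h4 k ↔ c.R h k := by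
    intro h k
    constructor
    · intro e
      have := c.self_mem_blk h4 k
      rw [← e, c.smul_mem_blk_iff h4] at this
      exact this
    · exact c.blk_eq_of_R h4
  refine ⟨fun h => c.blk h4 h, c.self_mem_blk h4, c.card_blk h4, ?_, ?_, ?_, ?_, ?_,
    c.sup_eq h4, ?_⟩
  · rintro h m (rfl | ⟨k, rfl, hk⟩) hm
    · exact absurd rfl hm
    · exact ⟨k, rfl, (c.blk_eq_of_R h4 hk).symm⟩
  · intro h k
    by_cases hh : c.R h k
    · exact Or.inl (c.blk_eq_of_R h4 hh)
    · exact Or.inr fun m h1 h2 => c.disjoint_blk h4 hh h1 h2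
  · exact fun x h m hm => c.smul_mem_blk h4 x hm
  · intro h g hv hg
    exact c.full h4 h g hg
  · intro h k hne a ha m hm
    exact c.triv h4 (fun hh => hne ((hR h k).mpr hh)) ha hm
  · intro k m hm hm'
    refine c.indep h4 k hm ?_
    refine (iSup_le fun h => ?_ : (⨆ h : {h : H // c.blk h4 h ≠ c.blk h4 k}, c.blk h4 h) ≤ _) hm'
    exact le_iSup (fun h : {h : H // ¬ c.R k h} => c.blk h4 h)
      ⟨h.1, fun hh => h.2 (c.blk_eq_of_R h4 hh).symm⟩

end Cfsg.Agent.Omega.NO3S.TV
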